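import Groth.Agent.DiagTorLib.Geom
import Groth.Agent.RegImmKindLib.Mor
import Mathlib.AlgebraicGeometry.Morphisms.Smooth
import Mathlib.AlgebraicGeometry.Morphisms.Separated

/-!
# Intersection multiplicities reduced to the diagonal
-/

set_option autoImplicit false
set_option backward.isDefEq.respectTransparency false
set_option backward.isDefEq.respectTransparency.types false
set_option linter.style.haveILetI false

universe u

open CategoryTheory CategoryTheory.Limits AlgebraicGeometry TopologicalSpace

noncomputable section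

namespace DiagTorLib

/-- The stalk of the ideal of a closed immersion. -/
theorem stalkIdeal_ker {Z X : Scheme.{u}} (i : Z ⟶ X) [IsClosedImmersion i] (z : Z) :
    IntMult.stalkIdeal i.ker (i z) = RingHom.ker (i.stalkMap z).hom := by
  obtain ⟨U, hU, hz, -⟩ := exists_isAffineOpen_mem_and_subset (x := i z) (U := ⊤) trivial
  have hV : IsAffineOpen (i ⁻¹ᵁ U) := hU.preimage i
  have hs : Function.Surjective (i.app U) := i.app_surjective U hU
  rw [SDivLib.stalkIdeal_eq _ ⟨U, hU⟩ hz, Scheme.Hom.ker_apply, (RegImmKindLib.ker_stalkMap i hU hV hs z hz).1]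
  rfl

variable {K : Type u} [Field K] {X : Scheme.{u}} (f : X ⟶ Spec (CommRingCat.of K))

/-- The stalk at the diagonal of the ideal of a product. -/
theorem stalkIdeal_ker_map (IV IW : X.IdealSheafData) (x : X) :
    IntMult.stalkIdeal (pullback.map (IV.subschemeι ≫ f) (IW.subschemeι ≫ f) f f IV.subschemeι IW.subschemeι (𝟙 _)
      (Category.comp_id _) (Category.comp_id _)).ker (pullback.diagonal f x) =
      (IntMult.stalkIdeal IV x).map (ι₁ f x).hom ⊔ (IntMult.stalkIdeal IW x).map (ι₂ f x).hom := by
  rw [ker_map, stalkIdeal_sup,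
    stalkIdeal_comap_proj (pullback.diagonal f) (pullback.fst f f) (pullback.diagonal_fst f) x IV,
    stalkIdeal_comap_proj (pullback.diagonal f) (pullback.snd f f) (pullback.diagonal_snd f) x IW]

/-- Reduction to the diagonal. -/
theorem mult_eq [IsSeparated f] [Flat f] (IV IW : X.IdealSheafData) (x : X) :
    IntMult.mult IV IW x = IntMult.mult (pullback.map (IV.subschemeι ≫ f) (IW.subschemeι ≫ f) f f IV.subschemeι
      IW.subschemeι (𝟙 _) (Category.comp_id _) (Category.comp_id _)).ker (pullback.diagonal f).ker
        (pullback.diagonal f x) := by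
  let π := ((pullback.diagonal f).stalkMap x).hom
  letI : Algebra ((pullback f f).presheaf.stalk (pullback.diagonal f x)) (X.presheaf.stalk x) := π.toAlgebra
  letI : Algebra (X.presheaf.stalk x) ((pullback f f).presheaf.stalk (pullback.diagonal f x)) := (ι₁ f x).hom.toAlgebra
  have h1 : ∀ a, π ((ι₁ f x).hom a) = a := fun a =>
    RingHom.congr_fun (congrArg CommRingCat.Hom.hom (proj_comp (pullback.diagonal f) _ (pullback.diagonal_fst f) x)) a
  have h2 : ∀ a, π ((ι₂ f x).hom a) = a := fun a =>
    RingHom.congr_fun (congrArg CommRingCat.Hom.hom (proj_comp (pullback.diagonal f) _ (pullback.diagonal_snd f) x)) a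
  haveI : IsScalarTower (X.presheaf.stalk x) ((pullback f f).presheaf.stalk (pullback.diagonal f x))
      (X.presheaf.stalk x) := IsScalarTower.of_algebraMap_eq fun a => (h1 a).symm
  haveI : Module.Flat (X.presheaf.stalk x) ((pullback f f).presheaf.stalk (pullback.diagonal f x)) :=
    flat_proj (pullback.diagonal f) (pullback.fst f f) (pullback.diagonal_fst f) x
  rw [IntMult.mult, IntMult.mult, IntMultRegLib.chi_comm, stalkIdeal_ker_map, stalkIdeal_ker]
  exact (chi_eq (ι₂ f x).hom h2 (flat_proj (pullback.diagonal f) (pullback.snd f f) (pullback.diagonal_snd f) x)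
    (IntMult.stalkIdeal IW x) (IntMult.stalkIdeal IV x) (flat_quot_proj f IW x)).symm

end DiagTorLib
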