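import Groth.Agent.DiagTorLib.Main
import Groth.Agent.DivDescLib.Local
import Groth.Agent.SDivLib.Stalk
import Mathlib.AlgebraicGeometry.Morphisms.Flat
import Mathlib.RingTheory.Flat.Localization

/-!
# Stalks at the diagonal of `X ×_K X`
-/

set_option autoImplicit false
set_option backward.isDefEq.respectTransparency false
set_option backward.isDefEq.respectTransparency.types false
set_option linter.style.haveILetI false

universe u

open CategoryTheory CategoryTheory.Limits AlgebraicGeometry TopologicalSpace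

noncomputable section

namespace DiagTorLib

section Retraction

variable {X P : Scheme.{u}} (s : X ⟶ P) (p : P ⟶ X) (h : s ≫ p = 𝟙 X) (x : X)

include h in
theorem base_eq : p (s x) = x := congrArg (fun φ : X ⟶ X => φ x) h

/-- The retraction of a section on local rings. -/
def proj : X.presheaf.stalk x ⟶ P.presheaf.stalk (s x) :=
  (X.presheaf.stalkCongr (.of_eq (base_eq s p h x).symm)).hom ≫ p.stalkMap (s x)

theorem stalkCongr_comp {Y : Scheme.{u}} {a b : Y} (e : a = b) (e' : b = a) :
    (Y.presheaf.stalkCongr (.of_eq e)).hom ≫ (Y.presheaf.stalkCongr (.of_eq e')).hom = 𝟙 (Y.presheaf.stalk a) := by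
  subst e
  rw [TopCat.Presheaf.stalkCongr_hom, TopCat.Presheaf.stalkSpecializes_refl, Category.id_comp]

theorem proj_comp : proj s p h x ≫ s.stalkMap x = 𝟙 _ := by
  have h1 := Scheme.Hom.stalkMap_congr_hom (s ≫ p) (𝟙 X) h x
  rw [Scheme.Hom.stalkMap_comp, Scheme.Hom.stalkMap_id] at h1
  erw [Category.comp_id] at h1
  rw [proj, Category.assoc, h1]
  exact stalkCongr_comp (base_eq s p h x).symm (base_eq s p h x)

theorem SpecMap_proj : Spec.map (proj s p h x) ≫ X.fromSpecStalk x = P.fromSpecStalk (s x) ≫ p := by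
  rw [proj, Spec.map_comp, Category.assoc, TopCat.Presheaf.stalkCongr_hom,
    Scheme.SpecMap_stalkSpecializes_fromSpecStalk, Scheme.SpecMap_stalkMap_fromSpecStalk]

theorem flat_proj [Flat p] : (proj s p h x).hom.Flat := by
  haveI : IsIso (X.presheaf.stalkCongr (.of_eq (base_eq s p h x).symm)).hom := inferInstance
  rw [proj, CommRingCat.hom_comp]
  exact RingHom.Flat.comp (RingHom.Flat.of_bijective
    (ConcreteCategory.bijective_of_isIso (X.presheaf.stalkCongr (.of_eq (base_eq s p h x).symm)).hom))
    (Flat.stalkMap p _)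

theorem stalkIdeal_congr {a b : X} (hab : a = b) (I : X.IdealSheafData) :
    (IntMult.stalkIdeal I a).map (X.presheaf.stalkCongr (.of_eq hab)).hom.hom = IntMult.stalkIdeal I b := by
  subst hab
  rw [TopCat.Presheaf.stalkCongr_hom, TopCat.Presheaf.stalkSpecializes_refl, CommRingCat.hom_id, Ideal.map_id]

theorem stalkIdeal_comap_proj (I : X.IdealSheafData) :
    IntMult.stalkIdeal (I.comap p) (s x) = (IntMult.stalkIdeal I x).map (proj s p h x).hom := by
  rw [DivDescLib.stalkIdeal_comap, proj, CommRingCat.hom_comp, ← Ideal.map_map,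
    stalkIdeal_congr (base_eq s p h x).symm]

end Retraction

theorem stalkIdeal_sup {X : Scheme.{u}} (I J : X.IdealSheafData) (x : X) :
    IntMult.stalkIdeal (I ⊔ J) x = IntMult.stalkIdeal I x ⊔ IntMult.stalkIdeal J x := by
  obtain ⟨U, hU, hxU, -⟩ := exists_isAffineOpen_mem_and_subset (x := x) (U := ⊤) trivial
  rw [SDivLib.stalkIdeal_eq _ ⟨U, hU⟩ hxU, SDivLib.stalkIdeal_eq _ ⟨U, hU⟩ hxU,
    SDivLib.stalkIdeal_eq _ ⟨U, hU⟩ hxU, Scheme.IdealSheafData.ideal_sup, Pi.sup_apply, Ideal.map_sup]

variable {K : Type u} [Field K] {X : Scheme.{u}} (f : X ⟶ Spec (CommRingCat.of K))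

/-- The kernel of a product of two closed subschemes. -/
theorem ker_map (IV IW : X.IdealSheafData) :
    (pullback.map (IV.subschemeι ≫ f) (IW.subschemeι ≫ f) f f IV.subschemeι IW.subschemeι (𝟙 _)
      (Category.comp_id _) (Category.comp_id _)).ker =
      IV.comap (pullback.fst f f) ⊔ IW.comap (pullback.snd f f) := by
  let m := pullback.map (IV.subschemeι ≫ f) (IW.subschemeι ≫ f) f f IV.subschemeι IW.subschemeι (𝟙 _)
      (Category.comp_id _) (Category.comp_id _)
  show m.ker = _
  apply le_antisymm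
  · let J := IV.comap (pullback.fst f f) ⊔ IW.comap (pullback.snd f f)
    have hV : IV.subschemeι.ker ≤ (J.subschemeι ≫ pullback.fst f f).ker := by
      rw [Scheme.IdealSheafData.ker_subschemeι, Scheme.Hom.ker_comp, Scheme.IdealSheafData.ker_subschemeι]
      exact Scheme.IdealSheafData.le_map_iff_comap_le.2 le_sup_left
    have hW : IW.subschemeι.ker ≤ (J.subschemeι ≫ pullback.snd f f).ker := by
      rw [Scheme.IdealSheafData.ker_subschemeι, Scheme.Hom.ker_comp, Scheme.IdealSheafData.ker_subschemeι]
      exact Scheme.IdealSheafData.le_map_iff_comap_le.2 le_sup_right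
    let a := IsClosedImmersion.lift IV.subschemeι (J.subschemeι ≫ pullback.fst f f) hV
    let b := IsClosedImmersion.lift IW.subschemeι (J.subschemeι ≫ pullback.snd f f) hW
    have hab : a ≫ IV.subschemeι ≫ f = b ≫ IW.subschemeι ≫ f := by
      rw [IsClosedImmersion.lift_fac_assoc, IsClosedImmersion.lift_fac_assoc, Category.assoc, Category.assoc,
        pullback.condition]
    have hfac : pullback.lift a b hab ≫ m = J.subschemeι := by
      apply pullback.hom_ext
      · simp only [m, pullback.map, Category.assoc, pullback.lift_fst, pullback.lift_fst_assoc, a,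
          IsClosedImmersion.lift_fac]
      · simp only [m, pullback.map, Category.assoc, pullback.lift_snd, pullback.lift_snd_assoc, b,
          IsClosedImmersion.lift_fac]
    have h2 := Scheme.Hom.le_ker_comp (pullback.lift a b hab) m
    rw [hfac, Scheme.IdealSheafData.ker_subschemeι] at h2
    exact h2
  · refine sup_le ?_ ?_ <;> rw [← Scheme.IdealSheafData.le_map_iff_comap_le, ← Scheme.Hom.ker_comp]
    · have hm : m ≫ pullback.fst f f = pullback.fst _ _ ≫ IV.subschemeι := pullback.lift_fst _ _ _
      rw [hm]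
      exact (Scheme.IdealSheafData.ker_subschemeι IV).symm.le.trans (Scheme.Hom.le_ker_comp _ _)
    · have hm : m ≫ pullback.snd f f = pullback.snd _ _ ≫ IW.subschemeι := pullback.lift_snd _ _ _
      rw [hm]
      exact (Scheme.IdealSheafData.ker_subschemeι IW).symm.le.trans (Scheme.Hom.le_ker_comp _ _)

/-- The first retraction. -/
abbrev ι₁ (x : X) := proj (pullback.diagonal f) (pullback.fst f f) (pullback.diagonal_fst f) x

/-- The second retraction. -/
abbrev ι₂ (x : X) := proj (pullback.diagonal f) (pullback.snd f f) (pullback.diagonal_snd f) x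

/-- The stalk at the diagonal is flat over the enveloping algebra of an affine chart. -/
theorem exists_env {U : X.Opens} (hU : IsAffineOpen U) (x : X) (hx : x ∈ U) :
    ∃ (_ : Algebra K Γ(X, U))
      (α : TensorProduct K Γ(X, U) Γ(X, U) →+* (pullback f f).presheaf.stalk (pullback.diagonal f x)), α.Flat ∧
      (ι₁ f x).hom.comp (X.presheaf.germ U x hx).hom = α.comp
        (Algebra.TensorProduct.includeLeft (R := K) (S := K) (A := Γ(X, U)) (B := Γ(X, U))).toRingHom ∧
      (ι₂ f x).hom.comp (X.presheaf.germ U x hx).hom = α.comp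
        (Algebra.TensorProduct.includeRight (R := K) (A := Γ(X, U)) (B := Γ(X, U))).toRingHom := by
  let φ : CommRingCat.of K ⟶ Γ(X, U) := Spec.preimage (hU.fromSpec ≫ f)
  letI alg : Algebra K Γ(X, U) := φ.hom.toAlgebra
  refine ⟨alg, ?_⟩
  have hφ : Spec.map (CommRingCat.ofHom (algebraMap K Γ(X, U))) = hU.fromSpec ≫ f := Spec.map_preimage _
  let RR := TensorProduct K Γ(X, U) Γ(X, U)
  let J : Spec (CommRingCat.of RR) ⟶ pullback f f := (pullbackSpecIso K Γ(X, U) Γ(X, U)).inv ≫
    pullback.map _ _ f f hU.fromSpec hU.fromSpec (𝟙 _) (by rw [Category.comp_id, hφ]) (by rw [Category.comp_id, hφ])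
  haveI : IsOpenImmersion J := inferInstance
  have hJ1 : J ≫ pullback.fst f f = Spec.map (CommRingCat.ofHom
      (Algebra.TensorProduct.includeLeft (R := K) (S := K) (A := Γ(X, U)) (B := Γ(X, U))).toRingHom) ≫ hU.fromSpec := by
    simp only [J, Category.assoc, pullback.map, pullback.lift_fst]
    rw [← Category.assoc, pullbackSpecIso_inv_fst]
    rfl
  have hJ2 : J ≫ pullback.snd f f = Spec.map (CommRingCat.ofHom
      (Algebra.TensorProduct.includeRight (R := K) (A := Γ(X, U)) (B := Γ(X, U))).toRingHom) ≫ hU.fromSpec := by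
    simp only [J, Category.assoc, pullback.map, pullback.lift_snd]
    rw [← Category.assoc, pullbackSpecIso_inv_snd]
    rfl
  have hmem : pullback.diagonal f x ∈ Set.range J := by
    let d : Spec Γ(X, U) ⟶ Spec (CommRingCat.of RR) :=
      pullback.lift (𝟙 _) (𝟙 _) rfl ≫ (pullbackSpecIso K Γ(X, U) Γ(X, U)).hom
    refine ⟨d (hU.primeIdealOf ⟨x, hx⟩), ?_⟩
    have hd : d ≫ J = hU.fromSpec ≫ pullback.diagonal f := by
      apply pullback.hom_ext
      · simp [d, J, pullback.map]
        exact Category.id_comp _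
      · simp [d, J, pullback.map]
        exact Category.id_comp _
    calc J (d (hU.primeIdealOf ⟨x, hx⟩)) = (hU.fromSpec ≫ pullback.diagonal f) (hU.primeIdealOf ⟨x, hx⟩) := by
          rw [← hd]; rfl
      _ = pullback.diagonal f x := by
          show pullback.diagonal f (hU.fromSpec (hU.primeIdealOf ⟨x, hx⟩)) = _
          rw [hU.fromSpec_primeIdealOf]
  let y := pullback.diagonal f x
  have hr : Set.range ((pullback f f).fromSpecStalk y) ⊆ Set.range J := by
    rw [Scheme.range_fromSpecStalk]
    exact fun v hv => hv.mem_open J.isOpenEmbedding.isOpen_range hmem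
  let L := IsOpenImmersion.lift J ((pullback f f).fromSpecStalk y) hr
  have hL : L ≫ J = (pullback f f).fromSpecStalk y := IsOpenImmersion.lift_fac _ _ _
  let α : CommRingCat.of RR ⟶ (pullback f f).presheaf.stalk y := Spec.preimage L
  have hα : Spec.map α ≫ J = (pullback f f).fromSpecStalk y := by rw [Spec.map_preimage]; exact hL
  refine ⟨α.hom, ?_, ?_, ?_⟩
  · obtain ⟨W, hW, hyW, -⟩ := exists_isAffineOpen_mem_and_subset (x := y) (U := ⊤) trivial
    have hflat : Flat ((pullback f f).fromSpecStalk y) := by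
      rw [← hW.fromSpecStalk_eq_fromSpecStalk hyW, IsAffineOpen.fromSpecStalk]
      haveI : Flat (Spec.map ((pullback f f).presheaf.germ W y hyW)) := by
        rw [HasRingHomProperty.Spec_iff (P := @Flat)]
        letI := (pullback f f).presheaf.algebra_section_stalk (⟨y, hyW⟩ : W)
        haveI : IsLocalization.AtPrime ((pullback f f).presheaf.stalk y) (hW.primeIdealOf ⟨y, hyW⟩).asIdeal :=
          hW.isLocalization_stalk ⟨y, hyW⟩
        exact RingHom.flat_algebraMap_iff.2 (IsLocalization.flat _ (hW.primeIdealOf ⟨y, hyW⟩).asIdeal.primeCompl)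
      infer_instance
    rw [← HasRingHomProperty.Spec_iff (P := @Flat)]
    have hpb : IsPullback (Spec.map α) (𝟙 _) J ((pullback f f).fromSpecStalk y) :=
      IsPullback.of_vert_isIso_mono ⟨by rw [Category.id_comp, hα]⟩
    exact MorphismProperty.of_isPullback hpb.flip hflat
  all_goals
    refine congrArg CommRingCat.Hom.hom (Spec.map_injective (R := Γ(X, U)) ?_ :
      X.presheaf.germ U x hx ≫ _ = CommRingCat.ofHom _ ≫ α)
    rw [← cancel_mono hU.fromSpec, Spec.map_comp, Spec.map_comp, Category.assoc, Category.assoc]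
  · rw [← hJ1, reassoc_of% hα, ← SpecMap_proj _ _ (pullback.diagonal_fst f) x,
      ← hU.fromSpecStalk_eq_fromSpecStalk hx, IsAffineOpen.fromSpecStalk]
  · rw [← hJ2, reassoc_of% hα, ← SpecMap_proj _ _ (pullback.diagonal_snd f) x,
      ← hU.fromSpecStalk_eq_fromSpecStalk hx, IsAffineOpen.fromSpecStalk]

/-- The second factor is flat over the first. -/
theorem flat_quot_proj (I : X.IdealSheafData) (x : X) :
    ((Ideal.Quotient.mk ((IntMult.stalkIdeal I x).map (ι₂ f x).hom)).comp (ι₁ f x).hom).Flat := by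
  obtain ⟨U, hU, hx, -⟩ := exists_isAffineOpen_mem_and_subset (x := x) (U := ⊤) trivial
  obtain ⟨alg, α, hα, h1, h2⟩ := exists_env f hU x hx
  letI := alg
  letI : Algebra (TensorProduct K Γ(X, U) Γ(X, U)) ((pullback f f).presheaf.stalk (pullback.diagonal f x)) := α.toAlgebra
  haveI : Module.Flat (TensorProduct K Γ(X, U) Γ(X, U)) ((pullback f f).presheaf.stalk (pullback.diagonal f x)) := hα
  have h3 := flat_quot (C := (pullback f f).presheaf.stalk (pullback.diagonal f x)) K Γ(X, U) (I.ideal ⟨U, hU⟩)
  rw [show algebraMap (TensorProduct K Γ(X, U) Γ(X, U)) ((pullback f f).presheaf.stalk (pullback.diagonal f x)) = α from rfl,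
    ← h1, ← h2, ← Ideal.map_map, ← SDivLib.stalkIdeal_eq I ⟨U, hU⟩ hx, ← RingHom.comp_assoc] at h3
  letI := X.presheaf.algebra_section_stalk (⟨x, hx⟩ : U)
  haveI : IsLocalization.AtPrime (X.presheaf.stalk x) (hU.primeIdealOf ⟨x, hx⟩).asIdeal := hU.isLocalization_stalk ⟨x, hx⟩
  set g := (Ideal.Quotient.mk ((IntMult.stalkIdeal I x).map (ι₂ f x).hom)).comp (ι₁ f x).hom
  letI := g.toAlgebra
  letI := (g.comp (algebraMap Γ(X, U) (X.presheaf.stalk x))).toAlgebra
  haveI : IsScalarTower Γ(X, U) (X.presheaf.stalk x)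
      ((pullback f f).presheaf.stalk (pullback.diagonal f x) ⧸ (IntMult.stalkIdeal I x).map (ι₂ f x).hom) :=
    IsScalarTower.of_algebraMap_eq fun _ => rfl
  exact (Module.flat_iff_of_isLocalization (X.presheaf.stalk x) (hU.primeIdealOf ⟨x, hx⟩).asIdeal.primeCompl _).2 h3

end DiagTorLib
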