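import Groth.Agent.DiagTorLib.ExtProd
import Groth.Agent.CycPushLib.Closed

/-!
# The intersection product as the product with the diagonal
-/

set_option autoImplicit false
set_option backward.isDefEq.respectTransparency false
set_option backward.isDefEq.respectTransparency.types false
set_option linter.style.haveILetI false

universe u

open CategoryTheory CategoryTheory.Limits AlgebraicGeometry TopologicalSpace Topology
open EquidimLib (stalkPt)
open CycDivLib (primeOf stalkPt_primeOf)

noncomputable section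

namespace DiagTorLib

/-- The stalk of a prime ideal sheaf is the prime of its generic point. -/
theorem stalkIdeal_eq_primeOf {X : Scheme.{u}} (I : X.IdealSheafData) [IsIntegral I.subscheme] {x ξ : X} (h : ξ ⤳ x)
    (hI : ∀ v : X, v ∈ I.support ↔ ξ ⤳ v) : IntMult.stalkIdeal I x = (primeOf h).asIdeal := by
  let J : PrimeSpectrum (X.presheaf.stalk x) :=
    ⟨IntMult.stalkIdeal I x, SDivLib.stalkIdeal_isPrime ((hI x).2 h)⟩
  have h1 : IntMult.stalkIdeal I x ≤ (primeOf h).asIdeal :=
    (IntMultRegLib.stalkPt_mem_support_iff _ x (primeOf h)).1 ((hI _).2 (by rw [stalkPt_primeOf]))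
  have h2 : primeOf h ≤ J := EquidimLib.le_of_stalkPt (by
    rw [stalkPt_primeOf]
    exact (hI _).1 ((IntMultRegLib.stalkPt_mem_support_iff _ x J).2 le_rfl))
  exact le_antisymm h1 h2

theorem support_ker_eq {X Z : Scheme.{u}} (i : Z ⟶ X) [IsClosedImmersion i] [IsIntegral Z] (v : X) :
    v ∈ i.ker.support ↔ i (genericPoint Z) ⤳ v := by
  rw [specializes_iff_mem_closure, ← SetLike.mem_coe, coe_support_ker, ← Set.image_singleton,
    i.isClosedEmbedding.closure_image_eq, (genericPoint_spec Z).def, Set.image_univ]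

theorem interProd_single {X : Scheme.{u}} (δ : X → ℤ) (n : ℤ) (a b ζ : X) :
    IntMult.interProd δ n (single a) (single b) ζ =
      Set.indicator {p : X × X | p.1 ⤳ ζ ∧ p.2 ⤳ ζ ∧ δ p.1 + δ p.2 - n = δ ζ}
        (fun p => IntMult.mult (IntMult.ptIdeal p.1) (IntMult.ptIdeal p.2) ζ) (a, b) := by
  classical
  rw [interProd_eq_sum δ n (single a) (single b) ζ {a} {b}
    (fun x _ h => Finset.mem_singleton.2 (not_not.1 fun h' => h (single_ne _ _ h')))
    (fun x _ h => Finset.mem_singleton.2 (not_not.1 fun h' => h (single_ne _ _ h'))),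
    Finset.singleton_product_singleton, Finset.sum_singleton]
  by_cases hp : (a, b) ∈ {p : X × X | p.1 ⤳ ζ ∧ p.2 ⤳ ζ ∧ δ p.1 + δ p.2 - n = δ ζ}
  · rw [Set.indicator_of_mem hp, Set.indicator_of_mem hp, single_self, single_self, one_mul, one_mul]
  · rw [Set.indicator_of_notMem hp, Set.indicator_of_notMem hp]

variable {K : Type u} [Field K] [IsAlgClosed K] {X : Scheme.{u}} (f : X ⟶ Spec (CommRingCat.of K))
  [Smooth f] [IsProper f] [IsIntegral X] (δ : X → ℤ) (hX : Cyc.IsSetup X δ)
  (hδ : Cyc.DeltaCompat f δ (fun _ => 0)) (δ₂ : ↥(pullback f f) → ℤ)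
  (h₂ : Cyc.DeltaCompat (pullback.fst f f ≫ f) δ₂ (fun _ => 0))

include hδ h₂ in
omit [IsAlgClosed K] [IsIntegral X] in
theorem delta_diagonal (x : X) : δ₂ (pullback.diagonal f x) = δ x := by
  obtain ⟨a, ha1, ha2⟩ := exists_dim_closure f δ hδ x
  obtain ⟨b, hb1, hb2⟩ := exists_dim_closure (pullback.fst f f ≫ f) δ₂ h₂ (pullback.diagonal f x)
  rw [← Set.image_singleton, (pullback.diagonal f).isClosedEmbedding.closure_image_eq,
    dim_image (pullback.diagonal f) (pullback.diagonal f).isClosedEmbedding.isEmbedding, ha2] at hb2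
  have : a = b := by exact_mod_cast hb2
  omega

include hX hδ h₂ in
/-- The exterior product of two points. -/
theorem exists_extProd_single (ξ η : X) : ∃ z₀ : ↥(pullback f f), δ₂ z₀ = δ ξ + δ η ∧
    IntMult.extProd f f δ δ δ₂ (single ξ) (single η) = single z₀ ∧
    ∀ x : X, ξ ⤳ x → η ⤳ x → z₀ ⤳ pullback.diagonal f x ∧
      ∀ h : pullback.diagonal f (genericPoint X) ⤳ pullback.diagonal f x,
        IntMult.mult (IntMult.ptIdeal (pullback.diagonal f (genericPoint X))) (IntMult.ptIdeal z₀) (pullback.diagonal f x) =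
          IntMult.mult (IntMult.ptIdeal ξ) (IntMult.ptIdeal η) x := by
  classical
  haveI := hX.1
  haveI : IsIntegral (IntMult.ptIdeal ξ).subscheme := NagataFG.isIntegral_closure _
  haveI : IsIntegral (IntMult.ptIdeal η).subscheme := NagataFG.isIntegral_closure _
  let ιV := (IntMult.ptIdeal ξ).subschemeι
  let ιW := (IntMult.ptIdeal η).subschemeι
  haveI : IsIntegral (pullback (ιV ≫ f) (ιW ≫ f)) := isIntegral_pullback _ _
  let ψ := pullback.map (ιV ≫ f) (ιW ≫ f) f f ιV ιW (𝟙 _) (Category.comp_id _) (Category.comp_id _)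
  haveI : IsClosedImmersion ψ :=
    MorphismProperty.pullback_map (P := @IsClosedImmersion) (i₁ := ιV) (i₂ := ιW) (inferInstance : IsClosedImmersion ιV)
      (inferInstance : IsClosedImmersion ιW) rfl rfl
  let z₀ := ψ (genericPoint ↥(pullback (ιV ≫ f) (ιW ≫ f)))
  have hr : ∀ z, z₀ ⤳ z ↔ ξ ⤳ pullback.fst f f z ∧ η ⤳ pullback.snd f f z := fun z => by
    rw [← support_ker_eq ψ z, ← SetLike.mem_coe, coe_support_ker, Scheme.Pullback.range_map,
      Scheme.IdealSheafData.range_subschemeι, Scheme.IdealSheafData.range_subschemeι]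
    exact and_congr (mem_support_ptIdeal _ _) (mem_support_ptIdeal _ _)
  have hmono : ∀ {Z : Scheme.{u}} {d : Z → ℤ}, Cyc.IsSetup Z d → ∀ {a b : Z}, a ⤳ b → d b ≤ d a ∧ (d b = d a → b = a) := by
    intro Z d hd a b h
    by_cases e : a = b
    · subst e; exact ⟨le_rfl, fun _ => rfl⟩
    · have := (hd.2.2 _ _ h e).1
      exact ⟨this.le, fun h' => absurd h' this.ne⟩
  have hdim : ∀ p : X, topologicalKrullDim ↥((IntMult.ptIdeal p).subscheme) =
      topologicalKrullDim ↥(closure ({p} : Set X)) := fun p => by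
    rw [← dim_support_ker (IntMult.ptIdeal p).subschemeι, Scheme.IdealSheafData.ker_subschemeι, IntMult.ptIdeal,
      Scheme.IdealSheafData.coe_support_vanishingIdeal]
    rfl
  have hd₀ : δ₂ z₀ = δ ξ + δ η := by
    obtain ⟨a, ha1, ha2⟩ := exists_dim_closure f δ hδ ξ
    obtain ⟨b, hb1, hb2⟩ := exists_dim_closure f δ hδ η
    obtain ⟨c, hc1, hc2⟩ := exists_dim_closure (pullback.fst f f ≫ f) δ₂ h₂ z₀
    rw [← Set.image_singleton, ψ.isClosedEmbedding.closure_image_eq, (genericPoint_spec _).def,
      dim_image ψ ψ.isClosedEmbedding.isEmbedding,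
      IsHomeomorph.topologicalKrullDim_eq _ (Homeomorph.Set.univ _).isHomeomorph, dim_pullback, hdim, hdim, ha2, hb2] at hc2
    have : a + b = c := by exact_mod_cast hc2
    omega
  have hsum := delta_pullback_le f f δ δ δ₂ hδ hδ h₂
  obtain ⟨hf1, hf2⟩ : pullback.fst f f z₀ = ξ ∧ pullback.snd f f z₀ = η := by
    obtain ⟨h1, h2⟩ := (hr z₀).1 specializes_rfl
    have := hsum z₀
    have := (hmono hX h1).1
    have := (hmono hX h2).1
    exact ⟨(hmono hX h1).2 (by omega), (hmono hX h2).2 (by omega)⟩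
  have hP : Cyc.IsSetup (pullback f f) δ₂ :=
    CycBivLib.isSetup_of_lft (pullback.fst f f ≫ f) CycC1Lib.isSetup_field h₂
  haveI := hP.1
  refine ⟨z₀, hd₀, funext fun z => ?_, fun x h1 h2 => ?_⟩
  · simp only [IntMult.extProd]
    by_cases hz : z = z₀
    · subst hz
      rw [if_pos (by rw [hd₀, hf1, hf2]), show single ξ (pullback.fst f f z₀) = 1 by rw [hf1, single_self],
        show single η (pullback.snd f f z₀) = 1 by rw [hf2, single_self], single_self]
      have h1 : Module.length ((pullback f f).presheaf.stalk z₀) (↑((pullback f f).presheaf.stalk z₀) ⧸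
          IntMult.stalkIdeal ψ.ker z₀) = 1 := by
        haveI : IsIntegral ψ.ker.subscheme := isIntegral_subscheme_ker ψ
        refine length_quotient_primeOf ψ.ker specializes_rfl (stalkIdeal_eq_primeOf ψ.ker specializes_rfl fun v => ?_)
        exact support_ker_eq ψ v
      have hk : IntMult.stalkIdeal ψ.ker z₀ = (IsLocalRing.maximalIdeal (X.presheaf.stalk (pullback.fst f f z₀))).map
          ((pullback.fst f f).stalkMap z₀).hom ⊔ (IsLocalRing.maximalIdeal (X.presheaf.stalk (pullback.snd f f z₀))).map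
          ((pullback.snd f f).stalkMap z₀).hom := by
        rw [show ψ.ker = _ from ker_map f (IntMult.ptIdeal ξ) (IntMult.ptIdeal η), stalkIdeal_sup,
          DivDescLib.stalkIdeal_comap, DivDescLib.stalkIdeal_comap]
        congr 2
        · rw [← stalkIdeal_ptIdeal_self, hf1]
        · rw [← stalkIdeal_ptIdeal_self, hf2]
      rw [← hk, h1]
      simp
    · rw [single_ne z₀ z hz]
      split_ifs with hd
      · by_cases ha : pullback.fst f f z = ξ
        · by_cases hb : pullback.snd f f z = η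
          · refine absurd ((hmono hP ((hr z).2 ⟨by rw [ha], by rw [hb]⟩)).2 ?_) hz
            rw [hd₀, hd, ha, hb]
          · rw [single_ne _ _ hb]; simp
        · rw [single_ne _ _ ha]; simp
      · rfl
  · have e1 : pullback.fst f f (pullback.diagonal f x) = x := by
      rw [← Scheme.Hom.comp_apply, pullback.diagonal_fst]; rfl
    have e2 : pullback.snd f f (pullback.diagonal f x) = x := by
      rw [← Scheme.Hom.comp_apply, pullback.diagonal_snd]; rfl
    have hz : z₀ ⤳ pullback.diagonal f x := (hr _).2 ⟨by rwa [e1], by rwa [e2]⟩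
    refine ⟨hz, fun hg => ?_⟩
    haveI : IsIntegral ψ.ker.subscheme := isIntegral_subscheme_ker ψ
    haveI : IsIntegral (pullback.diagonal f).ker.subscheme := isIntegral_subscheme_ker _
    have hψ := stalkIdeal_eq_primeOf ψ.ker hz (support_ker_eq ψ)
    have hΔ := stalkIdeal_eq_primeOf (pullback.diagonal f).ker hg (support_ker_eq _)
    rw [mult_eq f (IntMult.ptIdeal ξ) (IntMult.ptIdeal η) x]
    show _ = IntMult.mult ψ.ker (pullback.diagonal f).ker (pullback.diagonal f x)
    rw [IntMult.mult, IntMult.mult, stalkIdeal_ptIdeal hg, stalkIdeal_ptIdeal hz, hψ, hΔ]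
    exact IntMultRegLib.chi_comm _ _

variable (n : ℤ) (hn : δ (genericPoint X) = n)

include hX hδ h₂ hn in
/-- The product with the diagonal computes the product. -/
theorem diag_prod (r s : ℤ) (α β : AlgebraicCycle X ℤ) (hα : α ∈ Cyc.Zk X δ r) (hβ : β ∈ Cyc.Zk X δ s)
    (hprop : IntMult.IntersectProperly δ n ⇑α ⇑β) (γ : AlgebraicCycle (pullback f f) ℤ)
    (hγ : ⇑γ = IntMult.interProd δ₂ (n + n) (Set.indicator {pullback.diagonal f (genericPoint X)} 1)
      (IntMult.extProd f f δ δ δ₂ ⇑α ⇑β)) :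
    IntMult.IntersectProperly δ₂ (n + n) (Set.indicator {pullback.diagonal f (genericPoint X)} 1)
        (IntMult.extProd f f δ δ δ₂ ⇑α ⇑β) ∧
      ⇑(AlgebraicCycle.map (pullback.fst f f) δ₂ δ γ) = IntMult.interProd δ n ⇑α ⇑β := by
  classical
  haveI := hX.1
  let g₀ := pullback.diagonal f (genericPoint X)
  change IntMult.IntersectProperly δ₂ (n + n) (single g₀) _ ∧ _
  change ⇑γ = IntMult.interProd δ₂ (n + n) (single g₀) _ at hγ
  have e1 : ∀ x, pullback.fst f f (pullback.diagonal f x) = x := fun x => by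
    rw [← Scheme.Hom.comp_apply, pullback.diagonal_fst]; rfl
  have e2 : ∀ x, pullback.snd f f (pullback.diagonal f x) = x := fun x => by
    rw [← Scheme.Hom.comp_apply, pullback.diagonal_snd]; rfl
  have hg : ∀ z, g₀ ⤳ z ↔ ∃ x, pullback.diagonal f x = z := fun z => by
    rw [← support_ker_eq (pullback.diagonal f) z, ← SetLike.mem_coe, coe_support_ker]; rfl
  have hext : ∀ z, IntMult.extProd f f δ δ δ₂ ⇑α ⇑β z ≠ 0 →
      α (pullback.fst f f z) ≠ 0 ∧ β (pullback.snd f f z) ≠ 0 ∧ δ₂ z = δ (pullback.fst f f z) + δ (pullback.snd f f z) := by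
    intro z hz
    simp only [IntMult.extProd] at hz
    split_ifs at hz with h
    · exact ⟨left_ne_zero_of_mul (left_ne_zero_of_mul hz), right_ne_zero_of_mul (left_ne_zero_of_mul hz), h⟩
    · exact absurd rfl hz
  refine ⟨fun a b ζ ha hb h1 h2 => ?_, funext fun x => ?_⟩
  · obtain rfl : a = g₀ := not_not.1 fun h' => ha (single_ne _ _ h')
    obtain ⟨x, rfl⟩ := (hg ζ).1 h1
    obtain ⟨b1, b2, b3⟩ := hext b hb
    have := hprop _ _ x b1 b2 (by simpa [e1] using h2.map (pullback.fst f f).continuous)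
      (by simpa [e2] using h2.map (pullback.snd f f).continuous)
    rw [delta_diagonal f δ hδ δ₂ h₂, delta_diagonal f δ hδ δ₂ h₂, hn, b3]
    omega
  have hmap : (AlgebraicCycle.map (pullback.fst f f) δ₂ δ γ) x = γ (pullback.diagonal f x) := by
    show (Function.locallyFinsupp.map _ _ _ γ) x = _
    rw [Function.locallyFinsupp.map_apply, finsum_mem_def, finsum_eq_single _ (pullback.diagonal f x) fun z hz => ?_,
      Set.indicator_of_mem (show pullback.diagonal f x ∈ pullback.fst f f ⁻¹' {x} from e1 x)]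
    · have hw : AlgebraicCycle.mapCoeff (pullback.fst f f) δ₂ δ (pullback.diagonal f x) = 1 := by
        rw [AlgebraicCycle.mapCoeff, if_pos (by rw [delta_diagonal f δ hδ δ₂ h₂]; exact congrArg δ (e1 x).symm)]
        unfold Scheme.Hom.residueDegree
        letI := ((pullback.fst f f).residueFieldMap (pullback.diagonal f x)).hom.toAlgebra
        haveI : IsPreimmersion (pullback.diagonal f ≫ pullback.fst f f) := by rw [pullback.diagonal_fst]; infer_instance
        have hc : Function.Bijective ((pullback.diagonal f ≫ pullback.fst f f).residueFieldMap x).hom :=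
          CycPushLib.residueFieldMap_bijective _ x
        rw [Scheme.residueFieldMap_comp, CommRingCat.hom_comp, RingHom.coe_comp] at hc
        have hb : Function.Bijective (algebraMap (X.residueField (pullback.fst f f (pullback.diagonal f x)))
            ((pullback f f).residueField (pullback.diagonal f x))) :=
          ⟨RingHom.injective _, (Function.Surjective.of_comp_iff' (CycPushLib.residueFieldMap_bijective (pullback.diagonal f) x) _).1 hc.2⟩
        rw [← Algebra.finrank_eq_of_equiv_equiv (RingEquiv.refl _) (RingEquiv.ofBijective _ hb) (by ext; rfl)]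
        exact Module.finrank_self _
      rw [hw]
      simp
    · by_cases hm : z ∈ pullback.fst f f ⁻¹' {x}
      · rw [Set.indicator_of_mem hm]
        suffices γ z = 0 by rw [this, zero_mul]
        rw [hγ]
        refine finsum_eq_zero_of_forall_eq_zero fun p => ?_
        by_cases hp : p.1.1 = g₀
        · obtain ⟨y, rfl⟩ := (hg z).1 (hp ▸ p.2.1)
          exact absurd (congrArg _ ((e1 y).symm.trans hm)) hz
        · rw [single_ne _ _ hp]; simp
      · rw [Set.indicator_of_notMem hm]
  rw [hmap, hγ]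
  let S := (finite_generalizations α x).toFinset
  let T := (finite_generalizations β x).toFinset
  have hS : ∀ p, p ∈ S ↔ p ⤳ x ∧ α p ≠ 0 := fun p => Set.Finite.mem_toFinset _
  have hT : ∀ p, p ∈ T ↔ p ⤳ x ∧ β p ≠ 0 := fun p => Set.Finite.mem_toFinset _
  have hsing : ∀ {Z : Scheme.{u}} (a : Z) (ζ : Z), {p | p ⤳ ζ ∧ single a p ≠ 0}.Finite := fun a ζ =>
    (Set.finite_singleton a).subset fun p hp => not_not.1 fun h' => hp.2 (single_ne _ _ h')
  rw [interProd_sum δ₂ (n + n) (single g₀) _ (pullback.diagonal f x) {g₀} (S ×ˢ T) (fun _ => 1)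
    (fun p => α p.1 * β p.2) single (fun p => IntMult.extProd f f δ δ δ₂ (single p.1) (single p.2))
    (fun _ _ => hsing _ _) (fun p _ => by
      obtain ⟨z₀, -, hz, -⟩ := exists_extProd_single f δ hX hδ δ₂ h₂ p.1 p.2
      rw [hz]; exact hsing _ _)
    (fun z _ => by simp) (fun z hz => ?_),
    interProd_sum δ n ⇑α ⇑β x S T ⇑α ⇑β single single (fun _ _ => hsing _ _) (fun _ _ => hsing _ _)
    (fun z hz => eq_sum_single _ S z fun h => (hS z).2 ⟨hz, h⟩)
    (fun z hz => eq_sum_single _ T z fun h => (hT z).2 ⟨hz, h⟩)]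
  · rw [Finset.sum_singleton, Finset.sum_product]
    refine Finset.sum_congr rfl fun ξ hξ => Finset.sum_congr rfl fun η hη => ?_
    obtain ⟨z₀, hd, hz, hm⟩ := exists_extProd_single f δ hX hδ δ₂ h₂ ξ η
    obtain ⟨hz₀, hm'⟩ := hm x ((hS ξ).1 hξ).1 ((hT η).1 hη).1
    rw [one_mul, hz, interProd_single, interProd_single]
    congr 1
    have hgx : g₀ ⤳ pullback.diagonal f x := (hg _).2 ⟨x, rfl⟩
    by_cases hc : δ ξ + δ η - n = δ x
    · rw [Set.indicator_of_mem, Set.indicator_of_mem]
      · exact hm' hgx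
      · exact ⟨((hS ξ).1 hξ).1, ((hT η).1 hη).1, hc⟩
      · refine ⟨hgx, hz₀, ?_⟩
        show δ₂ g₀ + δ₂ z₀ - (n + n) = _
        rw [delta_diagonal f δ hδ δ₂ h₂, delta_diagonal f δ hδ δ₂ h₂, hd, hn]
        omega
    · rw [Set.indicator_of_notMem, Set.indicator_of_notMem]
      · exact fun h => hc h.2.2
      · intro h
        have h3 : δ₂ g₀ + δ₂ z₀ - (n + n) = δ₂ (pullback.diagonal f x) := h.2.2
        rw [delta_diagonal f δ hδ δ₂ h₂, delta_diagonal f δ hδ δ₂ h₂, hd, hn] at h3
        omega
  · have h1 : pullback.fst f f z ⤳ x := by simpa [e1] using hz.map (pullback.fst f f).continuous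
    have h2 : pullback.snd f f z ⤳ x := by simpa [e2] using hz.map (pullback.snd f f).continuous
    simp only [IntMult.extProd]
    split_ifs
    · rw [eq_sum_single ⇑α S _ (fun h => (hS _).2 ⟨h1, h⟩), eq_sum_single ⇑β T _ (fun h => (hT _).2 ⟨h2, h⟩),
        Finset.sum_mul_sum, Finset.sum_mul, Finset.sum_product]
      refine Finset.sum_congr rfl fun a _ => ?_
      rw [Finset.sum_mul]
      exact Finset.sum_congr rfl fun b _ => by ring
    · simp

end DiagTorLib
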