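import Groth.Agent.DiagTorLib.Prod
import Groth.Agent.CMFlatLib.BaseChangeScheme

/-!
# Cohen–Macaulay products over a field
-/

set_option autoImplicit false
set_option backward.isDefEq.respectTransparency false
set_option backward.isDefEq.respectTransparency.types false
set_option linter.style.haveILetI false

universe u

open CategoryTheory CategoryTheory.Limits AlgebraicGeometry

noncomputable section

namespace DiagTorLib

/-- A quotient along a surjection. -/
theorem length_quot_of_surjective {A B : Type u} [CommRing A] [CommRing B] (π : B →+* A) (hπ : Function.Surjective π)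
    (I : Ideal B) (L : Ideal A) (h : I.map π = L) :
    Module.length B (B ⧸ (I ⊔ RingHom.ker π)) = Module.length A (A ⧸ L) := by
  letI := π.toAlgebra
  let f : B →ₗ[B] A ⧸ L := Algebra.linearMap B (A ⧸ L)
  have hf : Function.Surjective f := Ideal.Quotient.mk_surjective.comp hπ
  have hk : LinearMap.ker f = I ⊔ RingHom.ker π := by
    rw [RingHom.ker_eq_comap_bot, ← Ideal.comap_map_of_surjective π hπ, h]
    ext b
    exact Ideal.Quotient.eq_zero_iff_mem
  rw [← Module.length_eq_of_surjective (S := B) (R := A) (M := A ⧸ L) hπ]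
  exact ((Submodule.quotEquivOfEq _ _ hk.symm).trans (LinearMap.quotKerEquivOfSurjective f hf)).length_eq

/-- The local ring of a closed subscheme. -/
theorem cm_congr_closedImmersion {Z X : Scheme.{u}} (i : Z ⟶ X) [IsClosedImmersion i] (z : Z) :
    LocCoh.IsCohenMacaulayLocalRing (Z.presheaf.stalk z) ↔
      LocCoh.IsCohenMacaulayLocalRing (↑(X.presheaf.stalk (i z)) ⧸ IntMult.stalkIdeal i.ker (i z)) :=
  (CMFlatLib.isCohenMacaulayLocalRing_congr ((Ideal.quotEquivOfEq (stalkIdeal_ker i z)).trans
    (RingHom.quotientKerEquivOfSurjective (f := (i.stalkMap z).hom) (i.stalkMap_surjective z)))).symm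

theorem cm_stalk_subscheme {X : Scheme.{u}} (I : X.IdealSheafData) (z : ↥I.subscheme) (x : X)
    (hzx : I.subschemeι z = x) (h : LocCoh.IsCohenMacaulayLocalRing (↑(X.presheaf.stalk x) ⧸ IntMult.stalkIdeal I x)) :
    LocCoh.IsCohenMacaulayLocalRing (I.subscheme.presheaf.stalk z) := by
  subst hzx
  rw [cm_congr_closedImmersion I.subschemeι z, Scheme.IdealSheafData.ker_subschemeι]
  exact h

variable {K : Type u} [Field K] {X : Scheme.{u}} (f : X ⟶ Spec (CommRingCat.of K)) [LocallyOfFiniteType f]

/-- The product of two Cohen–Macaulay closed subschemes at a diagonal point. -/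
theorem cm_ker_map (IV IW : X.IdealSheafData) (x : X) [IsSeparated f] (hxV : x ∈ IV.support) (hxW : x ∈ IW.support)
    (hV : LocCoh.IsCohenMacaulayLocalRing (↑(X.presheaf.stalk x) ⧸ IntMult.stalkIdeal IV x))
    (hW : LocCoh.IsCohenMacaulayLocalRing (↑(X.presheaf.stalk x) ⧸ IntMult.stalkIdeal IW x)) :
    LocCoh.IsCohenMacaulayLocalRing (↑((pullback f f).presheaf.stalk (pullback.diagonal f x)) ⧸
      IntMult.stalkIdeal (pullback.map (IV.subschemeι ≫ f) (IW.subschemeι ≫ f) f f IV.subschemeι IW.subschemeι (𝟙 _)
        (Category.comp_id _) (Category.comp_id _)).ker (pullback.diagonal f x)) := by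
  let gV := IV.subschemeι ≫ f
  let gW := IW.subschemeι ≫ f
  let m := pullback.map gV gW f f IV.subschemeι IW.subschemeι (𝟙 _) (Category.comp_id _) (Category.comp_id _)
  haveI : IsClosedImmersion m := MorphismProperty.pullbackMap (P := @IsClosedImmersion) inferInstance inferInstance rfl rfl
  have hmem : pullback.diagonal f x ∈ (m.ker.support : Set _) := by
    show pullback.diagonal f x ∈ m.ker.support
    rw [ker_map, Scheme.IdealSheafData.support_sup, Scheme.IdealSheafData.support_comap,
      Scheme.IdealSheafData.support_comap]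
    exact ⟨show pullback.fst f f _ ∈ IV.support from (base_eq _ _ (pullback.diagonal_fst f) x).symm ▸ hxV,
      show pullback.snd f f _ ∈ IW.support from (base_eq _ _ (pullback.diagonal_snd f) x).symm ▸ hxW⟩
  rw [coe_support_ker] at hmem
  obtain ⟨y, hy⟩ := hmem
  have hv : IV.subschemeι (pullback.fst gV gW y) = x := by
    rw [← Scheme.Hom.comp_apply, show pullback.fst gV gW ≫ IV.subschemeι = m ≫ pullback.fst f f from
      (pullback.lift_fst _ _ _).symm, Scheme.Hom.comp_apply, hy]
    exact base_eq _ _ (pullback.diagonal_fst f) x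
  have hw : IW.subschemeι (pullback.snd gV gW y) = x := by
    rw [← Scheme.Hom.comp_apply, show pullback.snd gV gW ≫ IW.subschemeι = m ≫ pullback.snd f f from
      (pullback.lift_snd _ _ _).symm, Scheme.Hom.comp_apply, hy]
    exact base_eq _ _ (pullback.diagonal_snd f) x
  have cV : MoreMor.IsCMAt gV (pullback.fst gV gW y) :=
    (CMFlatLib.isCMAt_field_iff gV _).2 (cm_stalk_subscheme IV _ x hv hV)
  have cW : MoreMor.IsCMAt gW (pullback.snd gV gW y) :=
    (CMFlatLib.isCMAt_field_iff gW _).2 (cm_stalk_subscheme IW _ x hw hW)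
  have hN1 : IsLocallyNoetherian (gW.fiber (gW (pullback.snd gV gW y))) :=
    haveI := UOpenLib.lft_fiberToSpec gW (gW (pullback.snd gV gW y))
    LocallyOfFiniteType.isLocallyNoetherian (gW.fiberToSpecResidueField _)
  have c1 := (CMFlatLib.isCMAt_baseChange_lft gW gV (pullback.fst gV gW) (pullback.snd gV gW)
    (IsPullback.of_hasPullback gV gW).flip y hN1).1 cW
  have hN2 : IsLocallyNoetherian ((pullback.fst gV gW ≫ gV).fiber (gV (pullback.fst gV gW y))) :=
    haveI := UOpenLib.lft_fiberToSpec (pullback.fst gV gW ≫ gV) (gV (pullback.fst gV gW y))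
    LocallyOfFiniteType.isLocallyNoetherian ((pullback.fst gV gW ≫ gV).fiberToSpecResidueField _)
  have c2 := CMFlatLib.isCMAt_comp (pullback.fst gV gW) gV y hN2 c1 cV
  have c3 := (cm_congr_closedImmersion m y).1 ((CMFlatLib.isCMAt_field_iff _ y).1 c2)
  rwa [hy] at c3

end DiagTorLib
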