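import Groth.Agent.DiagTorLib.Prod

/-!
# Vanishing of intersection multiplicities in excess dimension
-/

set_option autoImplicit false
set_option backward.isDefEq.respectTransparency false
set_option backward.isDefEq.respectTransparency.types false
set_option linter.style.haveILetI false

universe u

open CategoryTheory CategoryTheory.Limits AlgebraicGeometry TopologicalSpace Topology

noncomputable section

namespace DiagTorLib

variable {K : Type u} [Field K] [IsAlgClosed K] {X : Scheme.{u}} (f : X ⟶ Spec (CommRingCat.of K))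
  [Smooth f] [IsSeparated f] [QuasiCompact f] [IsIntegral X]

include f in
/-- At a component of too large a dimension the multiplicity vanishes. -/
theorem mult_eq_zero (IV IW : X.IdealSheafData) [IsIntegral IV.subscheme] [IsIntegral IW.subscheme] (n r s : ℕ)
    (hn : topologicalKrullDim X = n) (hr : topologicalKrullDim IV.support = r) (hs : topologicalKrullDim IW.support = s)
    (ξ : X) (hξV : ξ ∈ IV.support) (hξW : ξ ∈ IW.support)
    (hmax : ∀ ξ' : X, ξ' ∈ IV.support → ξ' ∈ IW.support → ξ' ⤳ ξ → ξ' = ξ)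
    (hlt : ((r + s : ℕ) : WithBot ℕ∞) < topologicalKrullDim ↥(closure ({ξ} : Set X)) + n) :
    IntMult.mult IV IW ξ = 0 := by
  let m := pullback.map (IV.subschemeι ≫ f) (IW.subschemeι ≫ f) f f IV.subschemeι IW.subschemeι (𝟙 _)
    (Category.comp_id _) (Category.comp_id _)
  let Δ := pullback.diagonal f
  let F := pullback.fst f f ≫ f
  haveI : IsClosedImmersion m := MorphismProperty.pullbackMap (P := @IsClosedImmersion) inferInstance inferInstance rfl rfl
  haveI : IsLocallyNoetherian (pullback f f) := LocallyOfFiniteType.isLocallyNoetherian F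
  haveI : IsIntegral (pullback (IV.subschemeι ≫ f) (IW.subschemeι ≫ f)) := isIntegral_pullback _ _
  haveI : IsIntegral m.ker.subscheme := isIntegral_subscheme_ker m
  let R := (pullback f f).presheaf.stalk (Δ ξ)
  let Q := IntMult.stalkIdeal m.ker (Δ ξ)
  obtain ⟨g, hg, hreg⟩ := exists_regular_diag f n hn ξ
  have hmem := (mem_inter_iff f IV IW (Δ ξ)).2 ⟨ξ, ⟨hξV, hξW⟩, rfl⟩
  have hgm : ∀ a ∈ List.ofFn g, a ∈ IsLocalRing.maximalIdeal R := fun a ha => by
    obtain ⟨i, rfl⟩ := List.mem_ofFn.1 ha
    exact IntMultRegLib.le_maximalIdeal_of_mem Δ.ker hmem.1 (hg ▸ Ideal.subset_span ⟨i, rfl⟩)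
  have hfl : IsFiniteLength R ((R ⧸ Q) ⧸ Ideal.span (Set.range g) • (⊤ : Submodule R (R ⧸ Q))) := by
    refine IntMultRegLib.isFiniteLength_of_primes _ Q fun p hp => ?_
    refine IntMultRegLib.isMaximal_of_le Δ.ker m.ker (Δ ξ) (fun z hz1 hz2 hz => ?_) p (hg.symm ▸ hp)
    obtain ⟨x, ⟨hxV, hxW⟩, rfl⟩ := (mem_inter_iff f IV IW z).1 ⟨hz1, hz2⟩
    rw [hmax x hxV hxW (Δ.isClosedEmbedding.isEmbedding.isInducing.specializes_iff.1 hz)]
  have hdim : ringKrullDim (R ⧸ Q) < (n : WithBot ℕ∞) := by
    have hsub : ∀ I : X.IdealSheafData, topologicalKrullDim ↥I.subscheme = topologicalKrullDim ↥(I.support : Set X) :=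
      fun I => by
        conv_rhs => rw [← Scheme.IdealSheafData.ker_subschemeι I]
        exact (dim_support_ker I.subschemeι).symm
    have h1 := IntMultRegLib.dim_support_eq F m.ker hmem.2
    rw [dim_support_ker m, dim_pullback, hsub, hsub,
      show topologicalKrullDim ↥(IV.support : Set X) = r from hr,
      show topologicalKrullDim ↥(IW.support : Set X) = s from hs] at h1
    have h2 : topologicalKrullDim ↥(closure ({ξ} : Set X)) = UOpenLib.fibreClosureDim F (Δ ξ) := by
      rw [IntMultRegLib.fibreClosureDim_eq F, ← dim_image Δ Δ.isClosedEmbedding.isEmbedding,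
        ← Δ.isClosedEmbedding.closure_image_eq, Set.image_singleton]
    obtain ⟨δ, hδ⟩ := UOpenLib.exists_fibreClosureDim_eq_nat F (Δ ξ)
    rw [h2, hδ] at hlt
    rw [hδ] at h1
    have hlt' : r + s < δ + n := by exact_mod_cast hlt
    change (r : WithBot ℕ∞) + s = δ + ringKrullDim (R ⧸ Q) at h1
    generalize ringKrullDim (R ⧸ Q) = a at h1 ⊢
    cases a with
    | bot => exact WithBot.bot_lt_coe _
    | coe a =>
      cases a with
      | top => exact absurd h1 (by norm_cast; simp)
      | coe a =>
        norm_cast at h1 ⊢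
        omega
  rw [mult_eq f IV IW ξ, IntMult.mult, IntMultRegLib.chi_comm, hg,
    IntMultRegLib.chi_eq_koszul g hreg.toIsWeaklyRegular]
  refine (Groth.Agent.KoszChiLib.chi_serre (List.ofFn g) hgm (ModuleCat.of R (R ⧸ Q))
    (Groth.Agent.KoszChiLib.fl_of_finLen (Groth.Agent.KoszChiLib.Idl_ofFn g).symm hfl)).1 ?_
  rw [List.length_ofFn, Module.supportDim_quotient_eq_ringKrullDim]
  exact hdim

end DiagTorLib
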