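import Groth.Prelude.Def_IntMult
import Groth.Prelude.Def_Cyc
import Groth.Agent.DiagTorLib.Vanish
import Groth.Agent.IntMultRegLib.Deviss
import Groth.Agent.DvrLenLib.Stalks
import Groth.Agent.CycC1Lib.Sec
import Groth.Agent.CycDivLib.Pull
import Groth.Agent.DepthLib.RegAB
import Groth.Agent.NagataFG.Closure

/-!
# Serre's formula for the product of the cycles of two coherent sheaves
-/

set_option autoImplicit false
set_option backward.isDefEq.respectTransparency false
set_option backward.isDefEq.respectTransparency.types false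
set_option linter.style.haveILetI false

universe u

open CategoryTheory CategoryTheory.Limits AlgebraicGeometry TopologicalSpace Topology
open EquidimLib (stalkPt)
open CycDivLib (primeOf stalkPt_primeOf)

noncomputable section

namespace DiagTorLib

section Stalk

variable {X : Scheme.{u}}

/-- Specialization of stalks of a quasi-coherent module is a localization. -/
theorem length_stalk_eq_lenAt (M : X.Modules) [Coh.IsQCoh M] {x ξ : X} (h : ξ ⤳ x) :
    Module.length (X.presheaf.stalk ξ) (M.presheaf.stalk ξ) = IntMultRegLib.lenAt (primeOf h) (M.presheaf.stalk x) := by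
  letI := (X.presheaf.stalkSpecializes h).hom.toAlgebra
  haveI := CycDivLib.isLocalization_stalkSpecializes h
  letI : Module (X.presheaf.stalk x) (M.presheaf.stalk ξ) :=
    Module.compHom _ (X.presheaf.stalkSpecializes h).hom
  haveI : IsScalarTower (X.presheaf.stalk x) (X.presheaf.stalk ξ) (M.presheaf.stalk ξ) :=
    IsScalarTower.of_algebraMap_smul fun _ _ => rfl
  let sp : M.presheaf.stalk x →ₗ[X.presheaf.stalk x] M.presheaf.stalk ξ :=
    { toFun := fun v => M.presheaf.stalkSpecializes h v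
      map_add' := fun a b => map_add (M.presheaf.stalkSpecializes h).hom a b
      map_smul' := fun a v => CycC1Lib.stalkSpecializes_smul M h a v }
  obtain ⟨U, hU, hxU, -⟩ := exists_isAffineOpen_mem_and_subset (X := X) (x := x) (U := ⊤) trivial
  have hξU : ξ ∈ U := h.mem_open U.isOpen hxU
  have hgξ : ∀ r : Γ(X, U), (X.presheaf.stalkSpecializes h).hom ((X.presheaf.germ U x hxU).hom r) =
      (X.presheaf.germ U ξ hξU).hom r := fun r => TopCat.Presheaf.germ_stalkSpecializes_apply X.presheaf hxU h r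
  have hmem : ∀ r : Γ(X, U), (X.presheaf.germ U x hxU).hom r ∈ (primeOf h).asIdeal.primeCompl ↔
      r ∈ (hU.primeIdealOf ⟨ξ, hξU⟩).asIdeal.primeCompl := fun r => by
    show ¬ ((X.presheaf.stalkSpecializes h).hom ((X.presheaf.germ U x hxU).hom r) ∈ IsLocalRing.maximalIdeal _) ↔ _
    rw [hgξ, IsLocalRing.mem_maximalIdeal]
    exact not_congr (SDivLib.mem_prm_iff (⟨U, hU⟩ : X.affineOpens) hξU r).symm
  haveI : IsLocalizedModule (primeOf h).asIdeal.primeCompl sp := by
    refine ⟨fun s => ?_, fun σ => ?_, fun {a b} hab => ?_⟩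
    · rw [Module.End.isUnit_iff]
      have hu := IsLocalization.map_units (X.presheaf.stalk ξ) s
      obtain ⟨v, hv⟩ := hu
      refine ⟨fun a b hab => ?_, fun a => ⟨(↑v⁻¹ : X.presheaf.stalk ξ) • a, ?_⟩⟩
      · replace hab : algebraMap _ (X.presheaf.stalk ξ) (s : X.presheaf.stalk x) • a = algebraMap _ (X.presheaf.stalk ξ) (s : X.presheaf.stalk x) • b := hab
        rw [← hv] at hab
        exact (v.isUnit.smul_left_cancel).mp hab
      · show algebraMap _ (X.presheaf.stalk ξ) (s : X.presheaf.stalk x) • (↑v⁻¹ : X.presheaf.stalk ξ) • a = a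
        rw [← hv, ← mul_smul, Units.mul_inv, one_smul]
    · letI := Module.compHom (M.presheaf.stalk ξ) (X.presheaf.germ U ξ hξU).hom
      haveI := FlatLib.isLocalizedModule_germLin M hU hξU
      obtain ⟨⟨m, s⟩, hs⟩ := IsLocalizedModule.surj (hU.primeIdealOf ⟨ξ, hξU⟩).asIdeal.primeCompl (FlatLib.germLin M hξU) σ
      refine ⟨(M.presheaf.germ U x hxU m, ⟨(X.presheaf.germ U x hxU).hom s.1, (hmem _).2 s.2⟩), ?_⟩
      show (X.presheaf.stalkSpecializes h).hom ((X.presheaf.germ U x hxU).hom s.1) • σ =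
        M.presheaf.stalkSpecializes h (M.presheaf.germ U x hxU m)
      rw [hgξ, TopCat.Presheaf.germ_stalkSpecializes_apply]
      exact hs
    · letI := Module.compHom (M.presheaf.stalk x) (X.presheaf.germ U x hxU).hom
      haveI := FlatLib.isLocalizedModule_germLin M hU hxU
      obtain ⟨⟨m, s⟩, hs⟩ := IsLocalizedModule.surj (hU.primeIdealOf ⟨x, hxU⟩).asIdeal.primeCompl (FlatLib.germLin M hxU) (a - b)
      replace hs : (X.presheaf.germ U x hxU).hom s.1 • (a - b) = M.presheaf.germ U x hxU m := hs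
      have h0 : M.presheaf.germ U ξ hξU m = 0 := by
        rw [← TopCat.Presheaf.germ_stalkSpecializes_apply M.presheaf hxU h, ← hs]
        show sp ((X.presheaf.germ U x hxU).hom s.1 • (a - b)) = 0
        rw [map_smul, map_sub, hab, sub_self, smul_zero]
      letI := Module.compHom (M.presheaf.stalk ξ) (X.presheaf.germ U ξ hξU).hom
      haveI := FlatLib.isLocalizedModule_germLin M hU hξU
      obtain ⟨t, ht⟩ := (IsLocalizedModule.eq_zero_iff (hU.primeIdealOf ⟨ξ, hξU⟩).asIdeal.primeCompl (FlatLib.germLin M hξU)).1 h0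
      letI := X.presheaf.algebra_section_stalk (⟨x, hxU⟩ : U)
      haveI : IsLocalization.AtPrime (X.presheaf.stalk x) (hU.primeIdealOf ⟨x, hxU⟩).asIdeal :=
        hU.isLocalization_stalk ⟨x, hxU⟩
      obtain ⟨v, hv⟩ := IsLocalization.map_units (X.presheaf.stalk x) s
      refine ⟨⟨(X.presheaf.germ U x hxU).hom t.1, (hmem _).2 t.2⟩, ?_⟩
      show (X.presheaf.germ U x hxU).hom t.1 • a = (X.presheaf.germ U x hxU).hom t.1 • b
      rw [← sub_eq_zero, ← smul_sub]
      have h1 : (X.presheaf.germ U x hxU).hom t.1 • (X.presheaf.germ U x hxU).hom s.1 • (a - b) = 0 := by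
        rw [hs, ← FlatLib.germ_smul_mod M hxU]
        show M.presheaf.germ U x hxU ((t : Γ(X, U)) • m) = 0
        have ht' : (t : Γ(X, U)) • m = 0 := ht
        rw [ht', map_zero]
      rw [smul_comm] at h1
      have hu : IsUnit ((X.presheaf.germ U x hxU).hom s.1) := ⟨v, hv⟩
      exact hu.smul_eq_zero.1 h1
  exact DvrLenLib.length_eq_of_isLocalizedModule (primeOf h).asIdeal.primeCompl sp
    (LocalizedModule.mkLinearMap (primeOf h).asIdeal.primeCompl (M.presheaf.stalk x))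

/-- The stalk of the ideal of the closure of a point. -/
theorem stalkIdeal_ptIdeal {x ξ : X} (h : ξ ⤳ x) :
    IntMult.stalkIdeal (IntMult.ptIdeal ξ) x = (primeOf h).asIdeal := by
  haveI : IsIntegral (IntMult.ptIdeal ξ).subscheme := NagataFG.isIntegral_closure ξ
  have hmem : ∀ v : X, v ∈ (IntMult.ptIdeal ξ).support ↔ ξ ⤳ v := fun v => by
    rw [specializes_iff_mem_closure, ← SetLike.mem_coe, IntMult.ptIdeal, Scheme.IdealSheafData.coe_support_vanishingIdeal]
    rfl
  let J : PrimeSpectrum (X.presheaf.stalk x) :=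
    ⟨IntMult.stalkIdeal (IntMult.ptIdeal ξ) x, SDivLib.stalkIdeal_isPrime ((hmem x).2 h)⟩
  have h1 : IntMult.stalkIdeal (IntMult.ptIdeal ξ) x ≤ (primeOf h).asIdeal :=
    (IntMultRegLib.stalkPt_mem_support_iff _ x (primeOf h)).1 ((hmem _).2 (by rw [stalkPt_primeOf]))
  have h2 : primeOf h ≤ J := EquidimLib.le_of_stalkPt (by
    rw [stalkPt_primeOf]
    exact (hmem _).1 ((IntMultRegLib.stalkPt_mem_support_iff _ x J).2 le_rfl))
  exact le_antisymm h1 h2

theorem primeOf_stalkPt {x : X} (p : PrimeSpectrum (X.presheaf.stalk x)) :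
    primeOf (EquidimLib.stalkPt_specializes x p) = p :=
  EquidimLib.stalkPt_injective x (stalkPt_primeOf _)

end Stalk

variable {K : Type u} [Field K] [IsAlgClosed K] {X : Scheme.{u}} (f : X ⟶ Spec (CommRingCat.of K))
  [Smooth f] [IsSeparated f] [QuasiCompact f] [IsIntegral X]
variable (δ : X → ℤ) (hX : Cyc.IsSetup X δ) (hδ : Cyc.DeltaCompat f δ (fun _ => 0)) (n : ℤ)
  (hn : δ (genericPoint X) = n)

include hδ in
omit [IsAlgClosed K] [IsSeparated f] [QuasiCompact f] [IsIntegral X] in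
theorem exists_dim_closure (x : X) : ∃ m : ℕ, δ x = m ∧ topologicalKrullDim ↥(closure ({x} : Set X)) = m := by
  obtain ⟨m, h1, h2⟩ := hδ x
  refine ⟨m, by simpa using h2, ?_⟩
  rw [← IntMultRegLib.fibreClosureDim_eq f x, DimIneqLib.fibreClosureDim_eq_trH, DimIneqLib.trH_eq_natCast h1]
  rfl

include f hδ hn in
/-- Vanishing for two primes of the local ring. -/
theorem chi_primes_eq_zero {ζ : X} (P Q : PrimeSpectrum (X.presheaf.stalk ζ))
    (hmax : ∀ ω : X, stalkPt ζ P ⤳ ω → stalkPt ζ Q ⤳ ω → ω ⤳ ζ → ω = ζ)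
    (hlt : δ (stalkPt ζ P) + δ (stalkPt ζ Q) < n + δ ζ) :
    IntMult.chi (X.presheaf.stalk ζ) (↑(X.presheaf.stalk ζ) ⧸ P.asIdeal) (↑(X.presheaf.stalk ζ) ⧸ Q.asIdeal) = 0 := by
  have hP := EquidimLib.stalkPt_specializes ζ P
  have hQ := EquidimLib.stalkPt_specializes ζ Q
  haveI : IsIntegral (IntMult.ptIdeal (stalkPt ζ P)).subscheme := NagataFG.isIntegral_closure _
  haveI : IsIntegral (IntMult.ptIdeal (stalkPt ζ Q)).subscheme := NagataFG.isIntegral_closure _
  obtain ⟨r, hr1, hr2⟩ := exists_dim_closure f δ hδ (stalkPt ζ P)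
  obtain ⟨s, hs1, hs2⟩ := exists_dim_closure f δ hδ (stalkPt ζ Q)
  obtain ⟨d, hd1, hd2⟩ := exists_dim_closure f δ hδ ζ
  obtain ⟨m, hm1, hm2⟩ := exists_dim_closure f δ hδ (genericPoint X)
  rw [(genericPoint_spec X).def] at hm2
  have hdim : topologicalKrullDim X = (m : WithBot ℕ∞) :=
    (IsHomeomorph.topologicalKrullDim_eq _ (Homeomorph.Set.univ X).isHomeomorph).symm.trans hm2
  have hsupp : ∀ ξ : X, ((IntMult.ptIdeal ξ).support : Set X) = closure {ξ} := fun ξ => by
    rw [IntMult.ptIdeal, Scheme.IdealSheafData.coe_support_vanishingIdeal]; rfl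
  have h := mult_eq_zero f (IntMult.ptIdeal (stalkPt ζ Q)) (IntMult.ptIdeal (stalkPt ζ P)) m s r hdim
    (show topologicalKrullDim ↥((IntMult.ptIdeal (stalkPt ζ Q)).support : Set X) = _ by rw [hsupp]; exact hs2)
    (show topologicalKrullDim ↥((IntMult.ptIdeal (stalkPt ζ P)).support : Set X) = _ by rw [hsupp]; exact hr2) ζ
    (show ζ ∈ ((IntMult.ptIdeal (stalkPt ζ Q)).support : Set X) by rw [hsupp]; exact hQ.mem_closure)
    (show ζ ∈ ((IntMult.ptIdeal (stalkPt ζ P)).support : Set X) by rw [hsupp]; exact hP.mem_closure)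
    (fun ω hω1 hω2 hω => hmax ω (specializes_iff_mem_closure.2 ((hsupp _).subset hω2))
      (specializes_iff_mem_closure.2 ((hsupp _).subset hω1)) hω)
    (by
      rw [hd2]
      have : s + r < d + m := by omega
      exact_mod_cast this)
  rw [IntMult.mult, stalkIdeal_ptIdeal hQ, stalkIdeal_ptIdeal hP, primeOf_stalkPt, primeOf_stalkPt] at h
  exact h

include f hX hδ hn in
/-- Serre's formula for the intersection product of the cycles of two coherent sheaves. -/
theorem interProd_sheafFun (F G : X.Modules) (hF : Coh.IsCoh F) (hG : Coh.IsCoh G) (r s : ℤ)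
    (hr : ∀ x : X, Nontrivial (F.presheaf.stalk x) → δ x ≤ r) (hs : ∀ x : X, Nontrivial (G.presheaf.stalk x) → δ x ≤ s)
    (hrs : ∀ x : X, Nontrivial (F.presheaf.stalk x) → Nontrivial (G.presheaf.stalk x) → δ x ≤ r + s - n) :
    IntMult.IntersectProperly δ n (Cyc.sheafFun δ r F) (Cyc.sheafFun δ s G) ∧ ∀ ζ : X,
      IntMult.interProd δ n (Cyc.sheafFun δ r F) (Cyc.sheafFun δ s G) ζ =
        if δ ζ = r + s - n then IntMult.chi ↑(X.presheaf.stalk ζ) ↑(F.presheaf.stalk ζ) ↑(G.presheaf.stalk ζ)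
        else 0 := by
  classical
  haveI := hX.1
  haveI hFq : Coh.IsQCoh F := hF.1
  haveI hGq : Coh.IsQCoh G := hG.1
  have hne : ∀ (H : X.Modules) (k : ℤ) (ξ : X), Cyc.sheafFun δ k H ξ ≠ 0 → δ ξ = k ∧ Nontrivial (H.presheaf.stalk ξ) := by
    intro H k ξ hξ
    simp only [Cyc.sheafFun] at hξ
    split_ifs at hξ with e
    · refine ⟨e, not_subsingleton_iff_nontrivial.1 fun h0 => hξ ?_⟩
      rw [Module.length_eq_zero]
      simp
    · exact absurd rfl hξ
  have hspec : ∀ (H : X.Modules) [Coh.IsQCoh H] (_ : CohB1.IsFT H) {ξ x : X}, ξ ⤳ x →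
      Nontrivial (H.presheaf.stalk ξ) → Nontrivial (H.presheaf.stalk x) := by
    intro H _ hH ξ x hξx hξ
    have h1 : stalkPt x (primeOf hξx) ∈ CohB1.support H := by
      rw [stalkPt_primeOf]; exact not_subsingleton_iff_nontrivial.2 hξ
    obtain ⟨z, hz⟩ := Module.mem_support_iff'.1 ((DvrLenLib.mem_support_stalk_iff H hH x _).2 h1)
    refine ⟨z, 0, fun h0 => hz 1 (primeOf hξx).asIdeal.primeCompl.one_mem (by rw [h0, smul_zero])⟩
  refine ⟨fun ξ η ζ hξ hη hξζ hηζ => ?_, fun ζ => ?_⟩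
  · obtain ⟨e1, t1⟩ := hne F r ξ hξ
    obtain ⟨e2, t2⟩ := hne G s η hη
    rw [e1, e2]
    exact hrs ζ (hspec F hF.2 hξζ t1) (hspec G hG.2 hηζ t2)
  by_cases hζ : δ ζ = r + s - n
  swap
  · rw [if_neg hζ]
    refine finsum_eq_zero_of_forall_eq_zero fun p => ?_
    by_contra h0
    simp only [mul_ne_zero_iff] at h0
    exact hζ (by rw [← p.2.2.2, (hne F r _ h0.1.1).1, (hne G s _ h0.1.2).1])
  rw [if_pos hζ]
  let A := X.presheaf.stalk ζ
  haveI : IsRegularLocalRing A := WeilExtLib.isRegular_stalk_smooth f ζ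
  haveI : Module.Finite A (F.presheaf.stalk ζ) := DepthLib.finite_stalk F hF.2 ζ
  haveI : Module.Finite A (G.presheaf.stalk ζ) := DepthLib.finite_stalk G hG.2 ζ
  let IF := Module.annihilator A (F.presheaf.stalk ζ)
  let IG := Module.annihilator A (G.presheaf.stalk ζ)
  have hsF : ∀ p : PrimeSpectrum A, IF ≤ p.asIdeal ↔ Nontrivial (F.presheaf.stalk (stalkPt ζ p)) := fun p => by
    rw [← not_subsingleton_iff_nontrivial, ← Module.mem_support_iff_of_finite]
    exact DvrLenLib.mem_support_stalk_iff F hF.2 ζ p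
  have hsG : ∀ p : PrimeSpectrum A, IG ≤ p.asIdeal ↔ Nontrivial (G.presheaf.stalk (stalkPt ζ p)) := fun p => by
    rw [← not_subsingleton_iff_nontrivial, ← Module.mem_support_iff_of_finite]
    exact DvrLenLib.mem_support_stalk_iff G hG.2 ζ p
  have hlt : ∀ {x y : X}, x ⤳ y → x ≠ y → δ y < δ x := fun h hne => (hX.2.2 _ _ h hne).1
  have hcl : ∀ ω : X, Nontrivial (F.presheaf.stalk ω) → Nontrivial (G.presheaf.stalk ω) → ω ⤳ ζ → ω = ζ := by
    intro ω h1 h2 h3
    by_contra hne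
    have := hlt h3 hne
    have := hrs ω h1 h2
    omega
  have hmeet : ∀ p : PrimeSpectrum A, IF ⊔ IG ≤ p.asIdeal → p.asIdeal.IsMaximal := fun p hp => by
    have e := hcl _ ((hsF p).1 (le_sup_left.trans hp)) ((hsG p).1 (le_sup_right.trans hp))
      (EquidimLib.stalkPt_specializes ζ p)
    obtain rfl : p = IsLocalRing.closedPoint A :=
      EquidimLib.stalkPt_injective ζ (e.trans Scheme.fromSpecStalk_closedPoint.symm)
    exact IsLocalRing.maximalIdeal.isMaximal _
  have hfin : ∀ (H : X.Modules) (I : Ideal A) (k : ℤ), (∀ p : PrimeSpectrum A, I ≤ p.asIdeal ↔ Nontrivial (H.presheaf.stalk (stalkPt ζ p))) →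
      (∀ x : X, Nontrivial (H.presheaf.stalk x) → δ x ≤ k) →
      ∃ T : Finset (PrimeSpectrum A), (∀ P, P ∈ T ↔ I ≤ P.asIdeal ∧ δ (stalkPt ζ P) = k) ∧
        ∀ P ∈ T, ∀ Q : PrimeSpectrum A, I ≤ Q.asIdeal → Q.asIdeal ≤ P.asIdeal → Q = P := by
    intro H I k hI hk
    have hmin : ∀ P : PrimeSpectrum A, I ≤ P.asIdeal → δ (stalkPt ζ P) = k →
        ∀ Q : PrimeSpectrum A, I ≤ Q.asIdeal → Q.asIdeal ≤ P.asIdeal → Q = P := fun P _ hP Q hQ hQP => by
      by_contra hne
      have h1 := hlt (EquidimLib.specializes_stalkPt (x := ζ) hQP) fun e => hne (EquidimLib.stalkPt_injective ζ e)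
      have h2 := hk _ ((hI Q).1 hQ)
      omega
    have hf : {P : PrimeSpectrum A | I ≤ P.asIdeal ∧ δ (stalkPt ζ P) = k}.Finite := by
      refine ((I.finite_minimalPrimes_of_isNoetherianRing A).preimage (f := PrimeSpectrum.asIdeal)
        (fun _ _ _ _ e => PrimeSpectrum.ext e)).subset fun P hP => ?_
      exact ⟨⟨P.isPrime, hP.1⟩, fun q hq hqP => (congrArg PrimeSpectrum.asIdeal (hmin P hP.1 hP.2 ⟨q, hq.1⟩ hq.2 hqP)).ge⟩
    refine ⟨hf.toFinset, fun P => by simp, fun P hP => ?_⟩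
    rw [Set.Finite.mem_toFinset] at hP
    exact hmin P hP.1 hP.2
  obtain ⟨T, hT, hTmin⟩ := hfin F IF r hsF hr
  obtain ⟨U, hU, hUmin⟩ := hfin G IG s hsG hs
  have hvan : ∀ P Q : PrimeSpectrum A, IF ≤ P.asIdeal → IG ≤ Q.asIdeal → ¬ (P ∈ T ∧ Q ∈ U) →
      IntMult.chi A (↑A ⧸ P.asIdeal) (↑A ⧸ Q.asIdeal) = 0 := by
    intro P Q hP hQ hPQ
    have h1 := hr _ ((hsF P).1 hP)
    have h2 := hs _ ((hsG Q).1 hQ)
    refine chi_primes_eq_zero f δ hδ n hn P Q (fun ω h3 h4 h5 => ?_) ?_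
    · exact hcl ω (hspec F hF.2 h3 ((hsF P).1 hP)) (hspec G hG.2 h4 ((hsG Q).1 hQ)) h5
    · rw [hT, hU] at hPQ
      simp only [hP, hQ, true_and] at hPQ
      omega
  have hinner : ∀ P : PrimeSpectrum A, IF ≤ P.asIdeal → IntMult.chi A (↑A ⧸ P.asIdeal) (G.presheaf.stalk ζ) =
      ∑ Q ∈ U, ((IntMultRegLib.lenAt Q (G.presheaf.stalk ζ)).toNat : ℤ) *
        IntMult.chi A (↑A ⧸ P.asIdeal) (↑A ⧸ Q.asIdeal) := by
    intro P hP
    rw [IntMultRegLib.chi_comm]
    refine (IntMultRegLib.chi_eq_sum (↑A ⧸ P.asIdeal) IG (fun p hp => hmeet p ?_) U hUmin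
      (fun Q hQ hQU => ?_) (G.presheaf.stalk ζ) fun p hp => hp).trans (Finset.sum_congr rfl fun Q _ => by
        rw [IntMultRegLib.chi_comm])
    · rw [Ideal.annihilator_quotient] at hp
      exact sup_le (hP.trans (le_sup_right.trans hp)) (le_sup_left.trans hp)
    · rw [IntMultRegLib.chi_comm]
      exact hvan P Q hP hQ fun h => hQU h.2
  rw [IntMultRegLib.chi_eq_sum (G.presheaf.stalk ζ) IF hmeet T hTmin (fun P hP hPT => by
    rw [hinner P hP]
    refine Finset.sum_eq_zero fun Q hQ => ?_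
    rw [hvan P Q hP ((hU Q).1 hQ).1 fun h => hPT h.1, mul_zero]) (F.presheaf.stalk ζ) fun p hp => hp]
  -- the pairs of points
  let pr : {pq : PrimeSpectrum A × PrimeSpectrum A // pq ∈ T ×ˢ U} →
      {p : X × X // p.1 ⤳ ζ ∧ p.2 ⤳ ζ ∧ δ p.1 + δ p.2 - n = δ ζ} := fun pq =>
    ⟨(stalkPt ζ pq.1.1, stalkPt ζ pq.1.2), EquidimLib.stalkPt_specializes ζ _, EquidimLib.stalkPt_specializes ζ _, by
      have h := Finset.mem_product.1 pq.2
      rw [((hT _).1 h.1).2, ((hU _).1 h.2).2, hζ]⟩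
  have hinj : Function.Injective pr := fun a b e => by
    have e' := congrArg Subtype.val e
    exact Subtype.ext (Prod.ext (EquidimLib.stalkPt_injective ζ (congrArg Prod.fst e'))
      (EquidimLib.stalkPt_injective ζ (congrArg Prod.snd e')))
  rw [IntMult.interProd, finsum_eq_sum_of_support_subset _ (s := (T ×ˢ U).attach.image pr) (fun p hp => ?_)]
  · rw [Finset.sum_image fun a _ b _ e => hinj e, Finset.sum_attach (T ×ˢ U) (fun pq =>
        Cyc.sheafFun δ r F (stalkPt ζ pq.1) * Cyc.sheafFun δ s G (stalkPt ζ pq.2) *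
          IntMult.mult (IntMult.ptIdeal (stalkPt ζ pq.1)) (IntMult.ptIdeal (stalkPt ζ pq.2)) ζ), Finset.sum_product]
    refine Finset.sum_congr rfl fun P hP => ?_
    rw [hinner P ((hT P).1 hP).1, Finset.mul_sum]
    refine Finset.sum_congr rfl fun Q hQ => ?_
    simp only [Cyc.sheafFun, if_pos ((hT P).1 hP).2, if_pos ((hU Q).1 hQ).2]
    rw [length_stalk_eq_lenAt F (EquidimLib.stalkPt_specializes ζ P),
      length_stalk_eq_lenAt G (EquidimLib.stalkPt_specializes ζ Q), IntMult.mult,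
      stalkIdeal_ptIdeal (EquidimLib.stalkPt_specializes ζ P), stalkIdeal_ptIdeal (EquidimLib.stalkPt_specializes ζ Q),
      primeOf_stalkPt, primeOf_stalkPt, IntMultRegLib.chi_comm]
    ring
  · obtain ⟨⟨ξ, η⟩, hξ, hη, hd⟩ := p
    simp only [Function.mem_support, mul_ne_zero_iff] at hp
    obtain ⟨e1, t1⟩ := hne F r ξ hp.1.1
    obtain ⟨e2, t2⟩ := hne G s η hp.1.2
    obtain ⟨P, rfl⟩ := EquidimLib.exists_stalkPt hξ
    obtain ⟨Q, rfl⟩ := EquidimLib.exists_stalkPt hη
    rw [Finset.coe_image]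
    exact ⟨⟨(P, Q), Finset.mem_product.2 ⟨(hT P).2 ⟨(hsF P).2 t1, e1⟩, (hU Q).2 ⟨(hsG Q).2 t2, e2⟩⟩⟩,
      Finset.mem_attach _ _, rfl⟩

end DiagTorLib
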