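import Groth.Agent.IntMultRegLib.Algebra
import Groth.Agent.CommAlgDim.Regular
import Mathlib.RingTheory.Ideal.Cotangent
import Mathlib.RingTheory.SimpleModule.Basic

/-!
# Transversal intersections
-/

set_option autoImplicit false
set_option backward.isDefEq.respectTransparency false
set_option backward.isDefEq.respectTransparency.types false

universe u

open IsLocalRing

noncomputable section

namespace DiagTorLib

variable {R : Type u} [CommRing R] [IsLocalRing R] [IsNoetherianRing R]

/-- A minimal set of generators of the maximal ideal inside two ideals spanning it. -/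
theorem exists_generators {I J : Ideal R} (h : I ⊔ J = maximalIdeal R) :
    ∃ t : Finset R, Ideal.span (t : Set R) = maximalIdeal R ∧ t.card ≤ (maximalIdeal R).spanFinrank ∧
      ∀ x ∈ t, x ∈ I ∨ x ∈ J := by
  classical
  let S : Set (maximalIdeal R) := {x | (x : R) ∈ I ∨ (x : R) ∈ J}
  have hS : Submodule.span R S = ⊤ := by
    refine Submodule.map_injective_of_injective (Submodule.injective_subtype (maximalIdeal R)) ?_
    rw [Submodule.map_span, Submodule.map_top, Submodule.range_subtype,
      show (Submodule.subtype (maximalIdeal R)) '' S = (I : Set R) ∪ J from Set.ext fun y => by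
        constructor
        · rintro ⟨x, hx, rfl⟩; exact hx
        · intro hy
          refine ⟨⟨y, h ▸ ?_⟩, hy, rfl⟩
          rcases hy with hy | hy
          · exact Ideal.mem_sup_left hy
          · exact Ideal.mem_sup_right hy,
      Submodule.span_union, Submodule.span_eq, Submodule.span_eq]
    exact h
  have hV := CotangentSpace.span_image_eq_top_iff.2 hS
  obtain ⟨b, hb, hbspan, hbli⟩ := exists_linearIndependent (ResidueField R) ((maximalIdeal R).toCotangent '' S)
  rw [hV] at hbspan
  obtain ⟨s, hsS, hsb⟩ := Set.SurjOn.exists_bijOn_subset (hb : Set.SurjOn (maximalIdeal R).toCotangent S b)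
  have hbfin : b.Finite := hbli.setFinite
  have hsfin : s.Finite := hsb.finite_iff_finite.2 hbfin
  have hcard : b.ncard = (maximalIdeal R).spanFinrank := by
    rw [spanFinrank_maximalIdeal_eq_finrank_cotangentSpace]
    haveI := hbfin.fintype
    rw [Set.ncard_eq_toFinset_card' b, Set.toFinset_card]
    exact (Module.finrank_eq_card_basis (Module.Basis.mk hbli (by rw [Subtype.range_coe]; exact hbspan.ge))).symm
  refine ⟨hsfin.toFinset.image Subtype.val, ?_, ?_, fun x hx => ?_⟩
  · have hs : Submodule.span R s = ⊤ :=
      CotangentSpace.span_image_eq_top_iff.1 (by rw [hsb.image_eq]; exact hbspan)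
    rw [Finset.coe_image, Set.Finite.coe_toFinset, show (Subtype.val '' s : Set R) = (maximalIdeal R).subtype '' s from rfl,
      Ideal.span, ← Submodule.map_span, hs, Submodule.map_top, Submodule.range_subtype]
  · refine Finset.card_image_le.trans (le_of_eq ?_)
    rw [← Set.ncard_eq_toFinset_card s hsfin, ← hcard, ← hsb.image_eq, Set.InjOn.ncard_image hsb.injOn]
  · obtain ⟨y, hy, rfl⟩ := Finset.mem_image.1 hx
    exact hsS (hsfin.mem_toFinset.1 hy)

/-- The embedding dimensions of two ideals spanning the maximal ideal. -/
theorem spanFinrank_add_le {I J : Ideal R} [IsLocalRing (R ⧸ I)] [IsLocalRing (R ⧸ J)]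
    (h : I ⊔ J = maximalIdeal R) :
    (maximalIdeal (R ⧸ I)).spanFinrank + (maximalIdeal (R ⧸ J)).spanFinrank ≤ (maximalIdeal R).spanFinrank := by
  classical
  obtain ⟨t, ht, htc, htIJ⟩ := exists_generators h
  have key : ∀ (P : Ideal R) [IsLocalRing (R ⧸ P)],
      (maximalIdeal (R ⧸ P)).spanFinrank ≤ (t.filter (· ∉ P)).card := by
    intro P _
    have h1 : maximalIdeal (R ⧸ P) = Ideal.span (Ideal.Quotient.mk P '' ((t.filter (· ∉ P) : Finset R) : Set R)) := by
      rw [← map_maximalIdeal_of_surjective (Ideal.Quotient.mk P) Ideal.Quotient.mk_surjective, ← ht, Ideal.map_span]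
      refine le_antisymm (Ideal.span_le.2 ?_) (Ideal.span_mono (Set.image_mono (fun x hx => (Finset.mem_filter.1 hx).1)))
      rintro _ ⟨x, hx, rfl⟩
      by_cases hxP : x ∈ P
      · rw [Ideal.Quotient.eq_zero_iff_mem.2 hxP]; exact Submodule.zero_mem _
      · exact Ideal.subset_span ⟨x, Finset.mem_filter.2 ⟨hx, hxP⟩, rfl⟩
    rw [h1, ← Finset.coe_image]
    refine (Submodule.spanFinrank_span_le_ncard_of_finite (Finset.finite_toSet _)).trans ?_
    rw [Set.ncard_coe_finset]
    exact Finset.card_image_le
  refine le_trans (add_le_add (key I) (key J)) (le_trans ?_ htc)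
  rw [← Finset.card_union_of_disjoint (Finset.disjoint_left.2 fun x hx hx' => by
    rw [Finset.mem_filter] at hx hx'
    rcases htIJ x hx.1 with h' | h'
    · exact hx.2 h'
    · exact hx'.2 h')]
  exact Finset.card_le_card (Finset.union_subset (Finset.filter_subset _ _) (Finset.filter_subset _ _))

theorem sup_eq_maximalIdeal_of_length {I J : Ideal R} (h : Module.length R (R ⧸ (I ⊔ J)) = 1) :
    I ⊔ J = maximalIdeal R :=
  IsLocalRing.eq_maximalIdeal ⟨isSimpleModule_iff_isCoatom.1 (Module.length_eq_one_iff.1 h)⟩

/-- Both factors of a transversal intersection of complementary dimensions are regular. -/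
theorem isRegularLocalRing_of_transversal [IsRegularLocalRing R] {I J : Ideal R} [IsLocalRing (R ⧸ I)]
    [IsLocalRing (R ⧸ J)] (h : I ⊔ J = maximalIdeal R)
    (hdim : ringKrullDim R ≤ ringKrullDim (R ⧸ I) + ringKrullDim (R ⧸ J)) :
    IsRegularLocalRing (R ⧸ I) ∧ IsRegularLocalRing (R ⧸ J) := by
  have h1 := spanFinrank_add_le h
  have hI := ringKrullDim_le_spanFinrank_maximalIdeal (R ⧸ I)
  have hJ := ringKrullDim_le_spanFinrank_maximalIdeal (R ⧸ J)
  rw [← IsRegularLocalRing.spanFinrank_maximalIdeal] at hdim
  simp only [isRegularLocalRing_iff]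
  generalize ringKrullDim (R ⧸ I) = a at hdim hI ⊢
  generalize ringKrullDim (R ⧸ J) = b at hdim hJ ⊢
  cases a with
  | bot => simp at hdim
  | coe a =>
    cases b with
    | bot => simp at hdim
    | coe b =>
      cases a with
      | top => exact absurd hI (by norm_cast)
      | coe a =>
        cases b with
        | top => exact absurd hJ (by norm_cast)
        | coe b =>
          norm_cast at hdim hI hJ ⊢
          omega

end DiagTorLib
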