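import Groth.Prelude.Def_IntMult
import Groth.Prelude.Def_Cyc
import Groth.Agent.DiagTorLib.Serre
import Groth.Agent.DiagTorLib.Trans
import Groth.Agent.DiagTorLib.Mult
import Groth.Agent.DivDescLib.Local

/-!
# Transversal components of the intersection of two closed subschemes
-/

set_option autoImplicit false
set_option backward.isDefEq.respectTransparency false
set_option backward.isDefEq.respectTransparency.types false
set_option linter.style.haveILetI false

universe u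

open CategoryTheory CategoryTheory.Limits AlgebraicGeometry TopologicalSpace Topology
open EquidimLib (stalkPt)
open CycDivLib (primeOf stalkPt_primeOf)

noncomputable section

namespace DiagTorLib

variable {X : Scheme.{u}}

/-- The local ring of a closed subscheme, as a quotient. -/
theorem length_stalk_closed {Z : Scheme.{u}} (i : Z ⟶ X) [IsClosedImmersion i] (z : Z) :
    Module.length (Z.presheaf.stalk z) (Z.presheaf.stalk z) =
      Module.length (X.presheaf.stalk (i z)) (↑(X.presheaf.stalk (i z)) ⧸ IntMult.stalkIdeal i.ker (i z)) := by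
  letI : Algebra (X.presheaf.stalk (i z)) (Z.presheaf.stalk z) := (i.stalkMap z).hom.toAlgebra
  have hs : Function.Surjective (algebraMap (X.presheaf.stalk (i z)) (Z.presheaf.stalk z)) :=
    i.stalkMap_surjective z
  rw [← Module.length_eq_of_surjective (R := Z.presheaf.stalk z) hs]
  exact (((Submodule.quotEquivOfEq _ (LinearMap.ker (Algebra.linearMap (X.presheaf.stalk (i z)) (Z.presheaf.stalk z)))
    (stalkIdeal_ker i z)).trans (LinearMap.quotKerEquivOfSurjective _ hs))).length_eq.symm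

theorem isRegularLocalRing_closed {Z : Scheme.{u}} (i : Z ⟶ X) [IsClosedImmersion i] (z : Z)
    [IsRegularLocalRing (↑(X.presheaf.stalk (i z)) ⧸ IntMult.stalkIdeal i.ker (i z))] :
    IsRegularLocalRing (Z.presheaf.stalk z) :=
  IsRegularLocalRing.of_ringEquiv ((Ideal.quotEquivOfEq (stalkIdeal_ker i z)).trans
    (RingHom.quotientKerEquivOfSurjective (i.stalkMap_surjective z)))

/-- The stalk of an ideal sheaf at a generalization. -/
theorem stalkIdeal_specializes (I : X.IdealSheafData) {x ξ : X} (h : ξ ⤳ x) :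
    IntMult.stalkIdeal I ξ = (IntMult.stalkIdeal I x).map (X.presheaf.stalkSpecializes h).hom := by
  obtain ⟨U, hx⟩ := SDivLib.exists_affine x
  have hξ : ξ ∈ U.1 := h.mem_open U.1.2 hx
  rw [SDivLib.stalkIdeal_eq I U hx, SDivLib.stalkIdeal_eq I U hξ, Ideal.map_map]
  congr 1
  ext r
  exact (TopCat.Presheaf.germ_stalkSpecializes_apply X.presheaf hx h r).symm

/-- A generalization at which the ideal is the prime of the local ring has length one. -/
theorem length_quotient_primeOf (I : X.IdealSheafData) {x ξ : X} (h : ξ ⤳ x)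
    (hI : IntMult.stalkIdeal I x = (primeOf h).asIdeal) :
    Module.length (X.presheaf.stalk ξ) (↑(X.presheaf.stalk ξ) ⧸ IntMult.stalkIdeal I ξ) = 1 := by
  letI := (X.presheaf.stalkSpecializes h).hom.toAlgebra
  haveI := CycDivLib.isLocalization_stalkSpecializes h
  rw [stalkIdeal_specializes I h, hI, ← RingHom.algebraMap_toAlgebra (X.presheaf.stalkSpecializes h).hom,
    IsLocalization.AtPrime.map_eq_maximalIdeal (primeOf h).asIdeal, Module.length_eq_one_iff, isSimpleModule_iff_isCoatom]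
  exact (IsLocalRing.maximalIdeal.isMaximal _).out

/-- The stalk of the ideal of the intersection. -/
theorem stalkIdeal_ker_inter {Y Z : Scheme.{u}} (ιY : Y ⟶ X) (ιZ : Z ⟶ X) [IsClosedImmersion ιY] [IsClosedImmersion ιZ]
    (w : ↥(pullback ιY ιZ)) :
    IntMult.stalkIdeal (pullback.fst ιY ιZ ≫ ιY).ker ((pullback.fst ιY ιZ ≫ ιY) w) =
      IntMult.stalkIdeal ιY.ker (ιY (pullback.fst ιY ιZ w)) ⊔ IntMult.stalkIdeal ιZ.ker (ιY (pullback.fst ιY ιZ w)) := by
  refine (stalkIdeal_ker _ w).trans ?_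
  rw [Scheme.Hom.stalkMap_comp, CommRingCat.hom_comp, ← RingHom.comap_ker, ← stalkIdeal_ker (pullback.fst ιY ιZ) w,
    Scheme.IdealSheafData.ker_fst_of_isClosedImmersion, DivDescLib.stalkIdeal_comap,
    Ideal.comap_map_of_surjective _ (ιY.stalkMap_surjective _), ← RingHom.ker_eq_comap_bot,
    ← stalkIdeal_ker ιY, sup_comm]

variable {K : Type u} [Field K] [IsAlgClosed K] (f : X ⟶ Spec (CommRingCat.of K))
  [Smooth f] [IsSeparated f] [QuasiCompact f] [IsIntegral X]
variable (δ : X → ℤ) (hX : Cyc.IsSetup X δ) (hδ : Cyc.DeltaCompat f δ (fun _ => 0)) (n : ℤ)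
  (hn : δ (genericPoint X) = n)

include f hδ in
omit [IsAlgClosed K] [IsSeparated f] [QuasiCompact f] [IsIntegral X] in
theorem dim_quotient_eq (τ : X) (P : PrimeSpectrum (X.presheaf.stalk τ)) :
    ∃ d : ℕ, ringKrullDim (↑(X.presheaf.stalk τ) ⧸ P.asIdeal) = d ∧ δ (stalkPt τ P) = δ τ + d := by
  haveI : IsLocallyNoetherian X := LocallyOfFiniteType.isLocallyNoetherian f
  obtain ⟨a, ha1, ha2⟩ := exists_dim_closure f δ hδ (stalkPt τ P)
  obtain ⟨b, hb1, hb2⟩ := exists_dim_closure f δ hδ τ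
  obtain ⟨d, hd⟩ := EquidimLib.exists_dimBetween_eq_nat (EquidimLib.stalkPt_specializes τ P)
  have h := IntMultRegLib.fibreClosureDim_add f (EquidimLib.stalkPt_specializes τ P)
  rw [IntMultRegLib.fibreClosureDim_eq, IntMultRegLib.fibreClosureDim_eq, ha2, hb2, hd] at h
  refine ⟨d, (EquidimLib.stalk_quotient_dim_eq τ P).trans hd, ?_⟩
  have : a = b + d := by exact_mod_cast h
  omega

include f hδ hn in
omit [IsAlgClosed K] [IsSeparated f] [QuasiCompact f] in
theorem dim_stalk_eq (τ : X) : ∃ d : ℕ, ringKrullDim (X.presheaf.stalk τ) = d ∧ n = δ τ + d := by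
  haveI : IsLocallyNoetherian X := LocallyOfFiniteType.isLocallyNoetherian f
  obtain ⟨b, hb1, hb2⟩ := exists_dim_closure f δ hδ τ
  obtain ⟨m, hm1, hm2⟩ := exists_dim_closure f δ hδ (genericPoint X)
  rw [(genericPoint_spec X).def] at hm2
  obtain ⟨d, hd⟩ := EquidimLib.exists_stalk_dim_eq_nat τ
  have h := IntMultRegLib.dim_eq f τ
  rw [(IsHomeomorph.topologicalKrullDim_eq _ (Homeomorph.Set.univ X).isHomeomorph).symm.trans hm2,
    IntMultRegLib.fibreClosureDim_eq, hb2, hd] at h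
  refine ⟨d, hd, ?_⟩
  have : m = b + d := by exact_mod_cast h
  omega

variable {Y Z : Scheme.{u}} (ιY : Y ⟶ X) (ιZ : Z ⟶ X) [IsClosedImmersion ιY] [IsClosedImmersion ιZ]

omit [IsIntegral X] in
theorem subschemeFun_apply (k : ℤ) (y : Y) (hy : δ (ιY y) = k) :
    Cyc.subschemeFun δ k ιY (ιY y) = ((Module.length (Y.presheaf.stalk y) (Y.presheaf.stalk y)).toNat : ℤ) := by
  rw [Cyc.subschemeFun, if_pos hy, show {z : Y | ιY z = ιY y} = {y} from
    Set.ext fun z => ⟨fun hz => ιY.isClosedEmbedding.injective hz, fun hz => congrArg ιY hz⟩, finsum_mem_singleton]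

omit [IsIntegral X] [IsClosedImmersion ιY] in
theorem exists_of_subschemeFun_ne_zero (k : ℤ) (ξ : X) (h : Cyc.subschemeFun δ k ιY ξ ≠ 0) :
    δ ξ = k ∧ ∃ y, ιY y = ξ := by
  rw [Cyc.subschemeFun] at h
  split_ifs at h with e
  · obtain ⟨y, hy⟩ := exists_ne_zero_of_finsum_mem_ne_zero h
    exact ⟨e, y, hy.1⟩
  · exact absurd rfl h

include f hX hδ hn in
/-- A transversal component: both factors regular and multiplicity one. -/
theorem interProd_eq_one (r s : ℤ) (hY : ∀ y : Y, δ (ιY y) ≤ r) (hZ : ∀ z : Z, δ (ιZ z) ≤ s) (τ : X)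
    (hτ : δ τ = r + s - n)
    (hξ : ∃ ξ η : X, Cyc.subschemeFun δ r ιY ξ ≠ 0 ∧ Cyc.subschemeFun δ s ιZ η ≠ 0 ∧ ξ ⤳ τ ∧ η ⤳ τ)
    (hmult : Cyc.subschemeFun δ (r + s - n) (pullback.fst ιY ιZ ≫ ιY) τ = 1) :
    IntMult.interProd δ n (Cyc.subschemeFun δ r ιY) (Cyc.subschemeFun δ s ιZ) τ = 1 ∧
      (∀ y : Y, ιY y = τ → IsRegularLocalRing (Y.presheaf.stalk y)) ∧
      (∀ z : Z, ιZ z = τ → IsRegularLocalRing (Z.presheaf.stalk z)) := by
  classical
  haveI : IsLocallyNoetherian X := LocallyOfFiniteType.isLocallyNoetherian f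
  let A := X.presheaf.stalk τ
  haveI : IsRegularLocalRing A := WeilExtLib.isRegular_stalk_smooth f τ
  let I := IntMult.stalkIdeal ιY.ker τ
  let J := IntMult.stalkIdeal ιZ.ker τ
  obtain ⟨ξ, η, hξ1, hη1, hξτ, hητ⟩ := hξ
  obtain ⟨eξ, y₀, rfl⟩ := exists_of_subschemeFun_ne_zero δ ιY r ξ hξ1
  obtain ⟨eη, z₀, rfl⟩ := exists_of_subschemeFun_ne_zero δ ιZ s η hη1
  have hmemY : ∀ P : PrimeSpectrum A, I ≤ P.asIdeal ↔ ∃ y, ιY y = stalkPt τ P := fun P => by
    rw [← IntMultRegLib.stalkPt_mem_support_iff, ← SetLike.mem_coe, coe_support_ker ιY]; rfl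
  have hmemZ : ∀ P : PrimeSpectrum A, J ≤ P.asIdeal ↔ ∃ z, ιZ z = stalkPt τ P := fun P => by
    rw [← IntMultRegLib.stalkPt_mem_support_iff, ← SetLike.mem_coe, coe_support_ker ιZ]; rfl
  have hP : I ≤ (primeOf hξτ).asIdeal := (hmemY _).2 ⟨y₀, (stalkPt_primeOf hξτ).symm⟩
  have hQ : J ≤ (primeOf hητ).asIdeal := (hmemZ _).2 ⟨z₀, (stalkPt_primeOf hητ).symm⟩
  haveI : IsLocalRing (↑A ⧸ I) := by
    haveI : Nontrivial (↑A ⧸ I) := Ideal.Quotient.nontrivial_iff.2 fun h => (primeOf hξτ).isPrime.ne_top (top_le_iff.1 (h ▸ hP))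
    exact IsLocalRing.of_surjective' (Ideal.Quotient.mk _) Ideal.Quotient.mk_surjective
  haveI : IsLocalRing (↑A ⧸ J) := by
    haveI : Nontrivial (↑A ⧸ J) := Ideal.Quotient.nontrivial_iff.2 fun h => (primeOf hητ).isPrime.ne_top (top_le_iff.1 (h ▸ hQ))
    exact IsLocalRing.of_surjective' (Ideal.Quotient.mk _) Ideal.Quotient.mk_surjective
  -- length one
  have hlen : Module.length A (↑A ⧸ (I ⊔ J)) = 1 := by
    have h := hmult
    obtain ⟨-, w, hw⟩ := exists_of_subschemeFun_ne_zero δ (pullback.fst ιY ιZ ≫ ιY) (r + s - n) τ (by rw [h]; exact one_ne_zero)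
    subst hw
    rw [subschemeFun_apply δ _ (r + s - n) w hτ, length_stalk_closed (pullback.fst ιY ιZ ≫ ιY) w, stalkIdeal_ker_inter] at h
    have h' : (Module.length A (↑A ⧸ (I ⊔ J))).toNat = 1 := by exact_mod_cast h
    rwa [ENat.toNat_eq_iff one_ne_zero] at h'
  have hsup : I ⊔ J = IsLocalRing.maximalIdeal A := sup_eq_maximalIdeal_of_length hlen
  obtain ⟨dA, hdA, hdA'⟩ := dim_stalk_eq f δ hδ n hn τ
  obtain ⟨dP, hdP, hdP'⟩ := dim_quotient_eq f δ hδ τ (primeOf hξτ)
  obtain ⟨dQ, hdQ, hdQ'⟩ := dim_quotient_eq f δ hδ τ (primeOf hητ)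
  rw [stalkPt_primeOf, eξ] at hdP'
  rw [stalkPt_primeOf, eη] at hdQ'
  have hdim : ringKrullDim A ≤ ringKrullDim (↑A ⧸ I) + ringKrullDim (↑A ⧸ J) := by
    refine le_trans ?_ (add_le_add (ringKrullDim_le_of_surjective _ (Ideal.Quotient.factor_surjective hP))
      (ringKrullDim_le_of_surjective _ (Ideal.Quotient.factor_surjective hQ)))
    rw [hdA, hdP, hdQ]
    have : dA ≤ dP + dQ := by omega
    exact_mod_cast this
  obtain ⟨hI, hJ⟩ := isRegularLocalRing_of_transversal hsup hdim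
  haveI := hI
  haveI := hJ
  haveI := CommAlgDim.isDomain_of_isRegularLocalRing (↑A ⧸ I)
  haveI := CommAlgDim.isDomain_of_isRegularLocalRing (↑A ⧸ J)
  haveI hIp : I.IsPrime := (Ideal.Quotient.isDomain_iff_prime _).1 inferInstance
  haveI hJp : J.IsPrime := (Ideal.Quotient.isDomain_iff_prime _).1 inferInstance
  let P₀ : PrimeSpectrum A := ⟨I, hIp⟩
  let Q₀ : PrimeSpectrum A := ⟨J, hJp⟩
  have huniq : ∀ (k : ℤ) (P₁ P : PrimeSpectrum A), P₁.asIdeal ≤ P.asIdeal → δ (stalkPt τ P₁) ≤ k →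
      δ (stalkPt τ P) = k → P = P₁ := fun k P₁ P h1 h2 h3 => by
    by_contra hne
    have := (hX.2.2 _ _ (EquidimLib.specializes_stalkPt (x := τ) (show P₁ ≤ P from h1))
      (fun e => hne (EquidimLib.stalkPt_injective τ e).symm)).1
    omega
  obtain ⟨y₁, hy₁⟩ := (hmemY P₀).1 le_rfl
  obtain ⟨z₁, hz₁⟩ := (hmemZ Q₀).1 le_rfl
  have heP : primeOf hξτ = P₀ := huniq r P₀ _ hP (hy₁ ▸ hY y₁) (by rw [stalkPt_primeOf]; exact eξ)
  have heQ : primeOf hητ = Q₀ := huniq s Q₀ _ hQ (hz₁ ▸ hZ z₁) (by rw [stalkPt_primeOf]; exact eη)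
  refine ⟨?_, fun y hy => ?_, fun z hz => ?_⟩
  swap
  · subst hy; haveI := hI; exact isRegularLocalRing_closed ιY y
  swap
  · subst hz; haveI := hJ; exact isRegularLocalRing_closed ιZ z
  rw [IntMult.interProd, finsum_eq_single _ ⟨(ιY y₀, ιZ z₀), hξτ, hητ, by show δ (ιY y₀) + δ (ιZ z₀) - n = δ τ; omega⟩ (fun p hne => ?_)]
  · rw [subschemeFun_apply δ ιY r y₀ eξ, subschemeFun_apply δ ιZ s z₀ eη, length_stalk_closed ιY y₀, length_stalk_closed ιZ z₀,
      length_quotient_primeOf _ hξτ (by rw [heP]), length_quotient_primeOf _ hητ (by rw [heQ]), IntMult.mult,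
      stalkIdeal_ptIdeal hξτ, stalkIdeal_ptIdeal hητ, heP, heQ]
    obtain ⟨rs, hrs, hrsI⟩ := CommAlgDim.exists_isRegular_of_regular_quotient (R := A) (J := I)
    have hg : I = Ideal.span (Set.range rs.get) := by rw [Set.range_list_get]; exact hrsI.symm
    have hreg : RingTheory.Sequence.IsRegular (↑A) (List.ofFn rs.get) := by rw [List.ofFn_get]; exact hrs
    have hI' := ringKrullDim_add_length_eq_ringKrullDim_of_isRegular _ hrs
    rw [hrsI] at hI'
    have hle : (rs.length : WithBot ℕ∞) ≤ ringKrullDim (↑A ⧸ J) := by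
      have e1 : ringKrullDim (↑A ⧸ I) = dP := by rw [← hdP, heP]
      have e2 : ringKrullDim (↑A ⧸ J) = dQ := by rw [← hdQ, heQ]
      rw [e1, hdA] at hI'
      rw [e2]
      have : dP + rs.length = dA := by exact_mod_cast hI'
      have : rs.length ≤ dQ := by omega
      exact_mod_cast this
    have hM := IntMultRegLib.isWeaklyRegular_of_CM rs.get
      (fun i => IsLocalRing.le_maximalIdeal hIp.ne_top (hg ▸ Ideal.subset_span ⟨i, rfl⟩)) J
      (CommAlgDim.isCM_of_isRegularLocalRing _) hle fun p hp => by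
        rw [← hg, sup_comm, hsup] at hp
        rw [← (IsLocalRing.maximalIdeal.isMaximal A).eq_of_le p.isPrime.ne_top hp]
        exact IsLocalRing.maximalIdeal.isMaximal A
    have h := IntMultRegLib.chi_eq_length rs.get hreg.toIsWeaklyRegular J hM
    rw [← hg, sup_comm, hlen] at h
    rw [show P₀.asIdeal = I from rfl, show Q₀.asIdeal = J from rfl, h]
    simp
  · obtain ⟨⟨ξ', η'⟩, h1, h2, h3⟩ := p
    by_contra h0
    simp only [mul_ne_zero_iff] at h0
    obtain ⟨e1, y, hy⟩ := exists_of_subschemeFun_ne_zero δ ιY r ξ' h0.1.1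
    obtain ⟨e2, z, hz⟩ := exists_of_subschemeFun_ne_zero δ ιZ s η' h0.1.2
    have a1 := huniq r P₀ (primeOf h1) ((hmemY _).2 ⟨y, hy.trans (stalkPt_primeOf h1).symm⟩) (hy₁ ▸ hY y₁)
      (by rw [stalkPt_primeOf]; exact e1)
    have a2 := huniq s Q₀ (primeOf h2) ((hmemZ _).2 ⟨z, hz.trans (stalkPt_primeOf h2).symm⟩) (hz₁ ▸ hZ z₁)
      (by rw [stalkPt_primeOf]; exact e2)
    refine hne (Subtype.ext (Prod.ext ?_ ?_))
    · exact (stalkPt_primeOf h1).symm.trans ((congrArg (stalkPt τ) (a1.trans heP.symm)).trans (stalkPt_primeOf hξτ))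
    · exact (stalkPt_primeOf h2).symm.trans ((congrArg (stalkPt τ) (a2.trans heQ.symm)).trans (stalkPt_primeOf hητ))

end DiagTorLib
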