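import Groth.Prelude.Def_IntMult
import Groth.Prelude.Def_Cyc
import Groth.Agent.DiagTorLib.Serre
import Groth.Agent.DiagTorLib.SubInt
import Groth.Agent.IntMultRegLib.BaseChange
import Groth.Agent.CycLimLib.Sheaf
import Groth.Agent.CycLimLib.Gen
import Groth.Agent.ConsLib.ModLoci
import Groth.Agent.DevissLib.ClosedImm

/-!
# Flat pullback commutes with the intersection product
-/

set_option autoImplicit false
set_option backward.isDefEq.respectTransparency false
set_option backward.isDefEq.respectTransparency.types false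
set_option linter.style.haveILetI false

universe u

open CategoryTheory CategoryTheory.Limits AlgebraicGeometry TopologicalSpace Topology

noncomputable section

namespace DiagTorLib

theorem chi_eq_zero_of_subsingleton {R : Type u} [CommRing R] (M N : Type u) [AddCommGroup M] [Module R M]
    [AddCommGroup N] [Module R N] [Subsingleton M] : IntMult.chi R M N = 0 := by
  refine finsum_eq_zero_of_forall_eq_zero fun i => ?_
  have h : Module.length R (DRing.Tor R i M N) = 0 := by
    rw [Module.length_eq_zero_iff]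
    rcases i with _ | i
    · obtain ⟨e⟩ := TorShiftLib.nonempty_tor_zero (R := R) (N := N) M
      exact e.toEquiv.subsingleton
    · exact subsingleton_tor_flat_left M N i.succ_pos
  rw [h]
  simp

theorem chi_congr_pair {R : Type u} [CommRing R] {M M' N N' : Type u} [AddCommGroup M] [Module R M] [AddCommGroup M']
    [Module R M'] [AddCommGroup N] [Module R N] [AddCommGroup N'] [Module R N'] (e : M ≃ₗ[R] M') (e' : N ≃ₗ[R] N') :
    IntMult.chi R M N = IntMult.chi R M' N' :=
  finsum_congr fun i => by
    obtain ⟨g⟩ := nonempty_tor_congr e e' i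
    rw [g.length_eq]

variable {X Y : Scheme.{u}}

/-- The multiplicity of two pulled back sheaves. -/
theorem chi_pullback (f : X ⟶ Y) [Flat f] (F G : Y.Modules) (x : X) :
    IntMult.chi (X.presheaf.stalk x) (((Scheme.Modules.pullback f).obj F).presheaf.stalk x)
        (((Scheme.Modules.pullback f).obj G).presheaf.stalk x) =
      IntMult.chi (Y.presheaf.stalk (f x)) (F.presheaf.stalk (f x)) (G.presheaf.stalk (f x)) *
        ((Module.length (X.presheaf.stalk x) (↑(X.presheaf.stalk x) ⧸
          Ideal.map (f.stalkMap x).hom (IsLocalRing.maximalIdeal (Y.presheaf.stalk (f x))))).toNat : ℤ) := by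
  letI : Algebra (Y.presheaf.stalk (f x)) (X.presheaf.stalk x) := (f.stalkMap x).hom.toAlgebra
  haveI : Module.Flat (Y.presheaf.stalk (f x)) (X.presheaf.stalk x) := Flat.stalkMap f x
  haveI : IsLocalHom (algebraMap (Y.presheaf.stalk (f x)) (X.presheaf.stalk x)) :=
    inferInstanceAs (IsLocalHom (f.stalkMap x).hom)
  refine (chi_congr_pair ((KFlatLib.stalkPullIso f x).app F).toLinearEquiv
    ((KFlatLib.stalkPullIso f x).app G).toLinearEquiv).trans ?_
  exact IntMultRegLib.chi_baseChange (X.presheaf.stalk x) ((DevissLib.St (f x)).obj F) ((DevissLib.St (f x)).obj G)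

variable {K : Type u} [Field K] [IsAlgClosed K] (f : X ⟶ Y) (gX : X ⟶ Spec (CommRingCat.of K))
  (gY : Y ⟶ Spec (CommRingCat.of K)) (hf : f ≫ gY = gX) [Smooth gX] [IsSeparated gX] [QuasiCompact gX] [IsIntegral X]
  [Smooth gY] [IsSeparated gY] [QuasiCompact gY] [IsIntegral Y] [Flat f] (δX : X → ℤ) (δY : Y → ℤ)
  (hX : Cyc.IsSetup X δX) (hY : Cyc.IsSetup Y δY) (hδX : Cyc.DeltaCompat gX δX (fun _ => 0))
  (hδY : Cyc.DeltaCompat gY δY (fun _ => 0)) (hδ : Cyc.DeltaCompat f δX δY) (n m : ℤ)
  (hn : δX (genericPoint X) = n) (hm : δY (genericPoint Y) = m) (e : ℕ) (he : (e : ℤ) = n - m)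
  (hrel : Cyc.HasRelDim f e)

include hf hX hY hδX hδY hδ hn hm he hrel in
/-- Flat pullback and the product of the cycles of two sheaves. -/
theorem pull_sheafFun (F G : Y.Modules) (hF : Coh.IsCoh F) (hG : Coh.IsCoh G) (r s : ℤ)
    (hr : ∀ y : Y, Nontrivial (F.presheaf.stalk y) → δY y ≤ r)
    (hs : ∀ y : Y, Nontrivial (G.presheaf.stalk y) → δY y ≤ s)
    (hrs : ∀ y : Y, Nontrivial (F.presheaf.stalk y) → Nontrivial (G.presheaf.stalk y) → δY y ≤ r + s - m) :
    IntMult.IntersectProperly δX n (Cyc.sheafFun δX (r + e) ((Scheme.Modules.pullback f).obj F))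
        (Cyc.sheafFun δX (s + e) ((Scheme.Modules.pullback f).obj G)) ∧
      Cyc.pullFun f δX δY e (IntMult.interProd δY m (Cyc.sheafFun δY r F) (Cyc.sheafFun δY s G)) =
        IntMult.interProd δX n (Cyc.sheafFun δX (r + e) ((Scheme.Modules.pullback f).obj F))
          (Cyc.sheafFun δX (s + e) ((Scheme.Modules.pullback f).obj G)) := by
  haveI : LocallyOfFiniteType f := by
    haveI : LocallyOfFiniteType (f ≫ gY) := hf.symm ▸ inferInstance
    exact locallyOfFiniteType_of_comp f gY
  haveI := hX.1
  have hle := CycLimLib.delta_le f hδ hrel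
  obtain ⟨hr', -⟩ := CycLimLib.pullFun_sheafFun f δY δX e hle r F hr
  obtain ⟨hs', -⟩ := CycLimLib.pullFun_sheafFun f δY δX e hle s G hs
  have hrs' : ∀ x : X, Nontrivial (((Scheme.Modules.pullback f).obj F).presheaf.stalk x) →
      Nontrivial (((Scheme.Modules.pullback f).obj G).presheaf.stalk x) → δX x ≤ r + e + (s + e) - n := fun x h1 h2 => by
    have := hrs _ (CycLimLib.nontrivial_of_pullback f F x h1) (CycLimLib.nontrivial_of_pullback f G x h2)
    have := hle x
    omega
  obtain ⟨-, hprY⟩ := interProd_sheafFun gY δY hY hδY m hm F G hF hG r s hr hs hrs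
  obtain ⟨hint, hprX⟩ := interProd_sheafFun gX δX hX hδX n hn _ _ (ConsLib.isCoh_pullback f hF)
    (ConsLib.isCoh_pullback f hG) (r + e) (s + e) hr' hs' hrs'
  refine ⟨hint, funext fun x => ?_⟩
  rw [hprX, chi_pullback, Cyc.pullFun, hprY]
  by_cases hx : δX x = r + e + (s + e) - n
  · rw [if_pos hx]
    by_cases hzero : IntMult.chi (Y.presheaf.stalk (f x)) (F.presheaf.stalk (f x)) (G.presheaf.stalk (f x)) = 0
    · rw [hzero]
      split_ifs <;> simp
    · have h1 : Nontrivial (F.presheaf.stalk (f x)) := by
        by_contra h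
        rw [not_nontrivial_iff_subsingleton] at h
        exact hzero (chi_eq_zero_of_subsingleton _ _)
      have h2 : Nontrivial (G.presheaf.stalk (f x)) := by
        by_contra h
        rw [not_nontrivial_iff_subsingleton] at h
        exact hzero ((IntMultRegLib.chi_comm _ _).trans (chi_eq_zero_of_subsingleton _ _))
      have := hrs _ h1 h2
      have := hle x
      rw [if_pos (by omega), if_pos (by omega)]
  · rw [if_neg hx]
    split_ifs with h1 h2
    · omega
    · simp
    · rfl

end DiagTorLib
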