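import Groth.Agent.IntMultRegLib.Algebra
import Mathlib.RingTheory.Flat.Stability
import Mathlib.LinearAlgebra.TensorProduct.RightExactness

/-!
# Shifting `Tor` along acyclic modules, and semilinear identifications
-/

set_option autoImplicit false
set_option backward.isDefEq.respectTransparency false
set_option backward.isDefEq.respectTransparency.types false

universe u

open CategoryTheory CategoryTheory.Limits HomologicalComplex MonoidalCategory

noncomputable section

namespace DiagTorLib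

variable {R : Type u} [CommRing R]

section Congr

/-- `Tor` respects isomorphisms. -/
theorem nonempty_tor_congr {M M' N N' : Type u} [AddCommGroup M] [Module R M] [AddCommGroup M'] [Module R M']
    [AddCommGroup N] [Module R N] [AddCommGroup N'] [Module R N'] (e : M ≃ₗ[R] M') (e' : N ≃ₗ[R] N') (i : ℕ) :
    Nonempty (DRing.Tor R i M N ≃ₗ[R] DRing.Tor R i M' N') :=
  ⟨((((CategoryTheory.Tor (ModuleCat.{u} R) i).mapIso e.toModuleIso).app (ModuleCat.of R N)) ≪≫
    ((CategoryTheory.Tor (ModuleCat.{u} R) i).obj (ModuleCat.of R M')).mapIso e'.toModuleIso).toLinearEquiv⟩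

theorem subsingleton_tor_flat_left (M N : Type u) [AddCommGroup M] [Module R M] [AddCommGroup N] [Module R N]
    [Module.Flat R M] {i : ℕ} (hi : 0 < i) : Subsingleton (DRing.Tor R i M N) :=
  haveI : Module.Flat R (ModuleCat.of R M) := ‹Module.Flat R M›
  ModuleCat.subsingleton_of_isZero (TorSESLib.isZero_tor_of_flat (ModuleCat.of R N) (ModuleCat.of R M) hi)

theorem subsingleton_tor_flat_right (M N : Type u) [AddCommGroup M] [Module R M] [AddCommGroup N] [Module R N]
    [Module.Flat R N] {i : ℕ} (hi : 0 < i) : Subsingleton (DRing.Tor R i M N) := by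
  haveI := subsingleton_tor_flat_left N M (R := R) hi
  rw [← Module.length_eq_zero_iff (R := R), IntMultRegLib.length_tor_comm M N i, Module.length_eq_zero_iff]
  infer_instance

end Congr

section Shift

variable {X₁ X₂ X₃ : Type u} [AddCommGroup X₁] [Module R X₁] [AddCommGroup X₂] [Module R X₂]
  [AddCommGroup X₃] [Module R X₃] (f : X₁ →ₗ[R] X₂) (g : X₂ →ₗ[R] X₃) (hf : Function.Injective f)
  (hg : Function.Surjective g) (he : Function.Exact f g) (N : Type u) [AddCommGroup N] [Module R N]

theorem isZero_G_of_vanish (M : Type u) [AddCommGroup M] [Module R M]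
    (hv : ∀ i : ℕ, 0 < i → Subsingleton (DRing.Tor R i M N)) (P : ProjectiveResolution (ModuleCat.of R N))
    (i : ℕ) (hi : 0 < i) : IsZero ((TorRegLib.G P (ModuleCat.of R M)).homology i) :=
  haveI := hv i hi
  (ModuleCat.isZero_of_subsingleton (((CategoryTheory.Tor (ModuleCat.{u} R) i).obj (ModuleCat.of R M)).obj (ModuleCat.of R N))).of_iso (P.isoLeftDerivedObj ((tensoringLeft (ModuleCat.{u} R)).obj (ModuleCat.of R M)) i).symm

include hf hg he in
theorem exists_shift_cx : ∃ S : ShortComplex (ModuleCat.{u} R), S.ShortExact ∧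
    S = ShortComplex.moduleCatMk f g (LinearMap.ext fun x => he.apply_apply_eq_zero x) :=
  ⟨_, { exact := (ShortComplex.ShortExact.moduleCat_exact_iff_function_exact _).2 he
        mono_f := (ModuleCat.mono_iff_injective _).2 hf
        epi_g := (ModuleCat.epi_iff_surjective _).2 hg }, rfl⟩

include hf hg he in
theorem nonempty_shift_succ_of_vanish (hv : ∀ i : ℕ, 0 < i → Subsingleton (DRing.Tor R i X₂ N)) (r : ℕ) :
    Nonempty (DRing.Tor R (r + 2) X₃ N ≃ₗ[R] DRing.Tor R (r + 1) X₁ N) := by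
  obtain ⟨S, hS, rfl⟩ := exists_shift_cx f g hf hg he
  let P := projectiveResolution (ModuleCat.of R N)
  have hC := TorRegLib.cx_shortExact P _ hS
  have hiso := hC.isIso_δ (r + 2) (r + 1) (by simp)
    (isZero_G_of_vanish N X₂ hv P (r + 2) (by omega)) (isZero_G_of_vanish N X₂ hv P (r + 1) (by omega))
  exact ⟨((P.isoLeftDerivedObj _ (r + 2)) ≪≫ @asIso _ _ _ _ (hC.δ (r + 2) (r + 1) (by simp)) hiso ≪≫
    (P.isoLeftDerivedObj _ (r + 1)).symm).toLinearEquiv⟩

include hf hg he in
theorem nonempty_shift_one_of_vanish (hv : ∀ i : ℕ, 0 < i → Subsingleton (DRing.Tor R i X₂ N)) :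
    Nonempty (DRing.Tor R 1 X₃ N ≃ₗ[R] LinearMap.ker (f.rTensor N)) := by
  obtain ⟨S, hS, rfl⟩ := exists_shift_cx f g hf hg he
  let P := projectiveResolution (ModuleCat.of R N)
  have hC := TorRegLib.cx_shortExact P _ hS
  haveI hmono : Mono (hC.δ 1 0 (by simp)) :=
    hC.mono_δ 1 0 (by simp) (isZero_G_of_vanish N X₂ hv P 1 Nat.one_pos)
  have hex := (ShortComplex.ShortExact.moduleCat_exact_iff_function_exact _).1 (hC.homology_exact₁ 1 0 (by simp))
  let δ := (hC.δ 1 0 (by simp)).hom
  let e₁ := (TorShiftLib.h0 P (ModuleCat.of R X₁)).toLinearEquiv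
  let e₂ := (TorShiftLib.h0 P (ModuleCat.of R X₂)).toLinearEquiv
  have hnat : ∀ x, f.rTensor N (e₁ x) = e₂ ((homologyMap (TorRegLib.Gmap P (ModuleCat.ofHom f)) 0).hom x) :=
    fun x => (LinearMap.congr_fun (congrArg ModuleCat.Hom.hom (TorShiftLib.h0_naturality P (ModuleCat.ofHom f))) x).symm
  let ψ : DRing.Tor R 1 X₃ N →ₗ[R] TensorProduct R X₁ N :=
    e₁.toLinearMap ∘ₗ δ ∘ₗ (P.isoLeftDerivedObj _ 1).toLinearEquiv.toLinearMap
  have hψi : Function.Injective ψ :=
    e₁.injective.comp (((ModuleCat.mono_iff_injective _).1 hmono).comp (P.isoLeftDerivedObj _ 1).toLinearEquiv.injective)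
  have hψr : LinearMap.range ψ = LinearMap.ker (f.rTensor N) := by
    ext y
    obtain ⟨x, rfl⟩ := e₁.surjective y
    rw [LinearMap.mem_ker, hnat]
    refine Iff.trans ?_ e₂.map_eq_zero_iff.symm
    constructor
    · rintro ⟨t, ht⟩
      exact (hex x).2 ⟨_, e₁.injective ht⟩
    · intro hx
      obtain ⟨t, ht⟩ := (hex x).1 hx
      refine ⟨(P.isoLeftDerivedObj _ 1).toLinearEquiv.symm t, ?_⟩
      exact congrArg e₁ ((congrArg δ ((P.isoLeftDerivedObj _ 1).toLinearEquiv.apply_symm_apply t)).trans ht)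
  exact ⟨(LinearEquiv.ofInjective ψ hψi).trans (LinearEquiv.ofEq _ _ hψr)⟩

end Shift

section Semi

variable (B A : Type u) [CommRing B] [CommRing A] [Algebra B A]

/-- An identification of a `B`-module with an `A`-module along `B → A`. -/
def Semi (X Y : Type u) [AddCommGroup X] [Module B X] [AddCommGroup Y] [Module A Y] : Prop :=
  ∃ e : X ≃+ Y, ∀ (b : B) (x : X), e (b • x) = algebraMap B A b • e x

variable {B A} {X X' Y Y' : Type u} [AddCommGroup X] [Module B X] [AddCommGroup X'] [Module B X']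
  [AddCommGroup Y] [Module A Y] [AddCommGroup Y'] [Module A Y']

theorem Semi.congr (h : Semi B A X' Y') (e : X ≃ₗ[B] X') (e' : Y' ≃ₗ[A] Y) : Semi B A X Y := by
  obtain ⟨f, hf⟩ := h
  refine ⟨e.toAddEquiv.trans (f.trans e'.toAddEquiv), fun b x => ?_⟩
  show e' (f (e (b • x))) = algebraMap B A b • e' (f (e x))
  rw [map_smul, hf, map_smul]

theorem Semi.subsingleton (h : Semi B A X Y) [Subsingleton Y] : Subsingleton X :=
  let ⟨e, _⟩ := h
  e.toEquiv.subsingleton

theorem Semi.length_eq (h : Semi B A X Y) (hs : Function.Surjective (algebraMap B A)) :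
    Module.length B X = Module.length A Y := by
  obtain ⟨e, he⟩ := h
  letI : Module B Y := Module.compHom Y (algebraMap B A)
  haveI : IsScalarTower B A Y := IsScalarTower.of_algebraMap_smul fun _ _ => rfl
  let l : X ≃ₗ[B] Y := e.toLinearEquiv he
  rw [l.length_eq, Module.length_eq_of_surjective (S := B) (R := A) (M := Y) hs]

theorem Semi.ker {f : X →ₗ[B] X'} {g : Y →ₗ[A] Y'} (e : X ≃+ Y) (e' : X' ≃+ Y')
    (he : ∀ (b : B) (x : X), e (b • x) = algebraMap B A b • e x) (hsq : ∀ x, g (e x) = e' (f x)) :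
    Semi B A (LinearMap.ker f) (LinearMap.ker g) := by
  refine ⟨{ toEquiv := e.toEquiv.subtypeEquiv fun x => ?_, map_add' := fun x y => Subtype.ext (map_add e x.1 y.1) },
    fun b x => Subtype.ext (he b x.1)⟩
  rw [LinearMap.mem_ker, LinearMap.mem_ker, AddEquiv.toEquiv_eq_coe, AddEquiv.coe_toEquiv, hsq,
    AddEquiv.map_eq_zero_iff]

end Semi

end DiagTorLib
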