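import Groth.Prelude.Def_IntMult
import Groth.Agent.DiagTorLib.Semi
import Groth.Agent.DiagTorLib.Pull
import Groth.Agent.IntMultRegLib.BaseChange

/-!
# `Tor` of an extended module and a module flat over the base
-/

set_option autoImplicit false
set_option backward.isDefEq.respectTransparency false
set_option backward.isDefEq.respectTransparency.types false
set_option linter.style.haveILetI false

universe u

open CategoryTheory TensorProduct

noncomputable section

namespace DiagTorLib

variable {A : Type u} [CommRing A] (B : Type u) [CommRing B] [Algebra A B] [Module.Flat A B]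
variable (N : Type u) [AddCommGroup N] [Module A N] [Module B N] [IsScalarTower A B N] [Module.Flat A N]

omit [Module.Flat A B] in
theorem injective_rTensor_baseChange {L F : Type u} [AddCommGroup L] [Module A L] [AddCommGroup F] [Module A F]
    (f : L →ₗ[A] F) (hf : Function.Injective f) : Function.Injective ((f.baseChange B).rTensor N) := by
  have hnat : ∀ z : N ⊗[B] (B ⊗[A] L), AlgebraTensorModule.cancelBaseChange A B B N F ((f.baseChange B).lTensor N z) =
      f.lTensor N (AlgebraTensorModule.cancelBaseChange A B B N L z) := fun z => by
    induction z using TensorProduct.induction_on with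
    | zero => simp
    | add x y hx hy => simp only [map_add, hx, hy]
    | tmul n w =>
      induction w using TensorProduct.induction_on with
      | zero => simp
      | add x y hx hy => simp only [TensorProduct.tmul_add, map_add, hx, hy]
      | tmul b l => simp
  have h1 : Function.Injective ((f.baseChange B).lTensor N) := fun z₁ z₂ h => by
    have h' := congrArg (AlgebraTensorModule.cancelBaseChange A B B N F) h
    rw [hnat, hnat] at h'
    exact (AlgebraTensorModule.cancelBaseChange A B B N L).injective
      (Module.Flat.lTensor_preserves_injective_linearMap f hf h')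
  have h2 : ∀ z, (f.baseChange B).rTensor N z =
      TensorProduct.comm B N (B ⊗[A] F) ((f.baseChange B).lTensor N (TensorProduct.comm B (B ⊗[A] L) N z)) := fun z => by
    induction z using TensorProduct.induction_on with
    | zero => simp
    | add x y hx hy => simp only [map_add, hx, hy]
    | tmul w n => simp
  intro z₁ z₂ h
  rw [h2, h2] at h
  exact (TensorProduct.comm B (B ⊗[A] L) N).injective (h1 ((TensorProduct.comm B N (B ⊗[A] F)).injective h))

/-- An extended module is `Tor`-independent of a module flat over the base. -/
theorem subsingleton_tor_extended : ∀ (i : ℕ) (M : Type u) [AddCommGroup M] [Module A M],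
    Subsingleton (DRing.Tor B (i + 1) (B ⊗[A] M) N) := by
  intro i
  induction i with
  | zero =>
    intro M _ _
    obtain ⟨F, _, _, _, g, hg⟩ : ∃ (F : Type u) (_ : AddCommGroup F) (_ : Module A F) (_ : Module.Free A F)
        (g : F →ₗ[A] M), Function.Surjective g :=
      ⟨M →₀ A, inferInstance, inferInstance, inferInstance, Finsupp.linearCombination A id,
        fun m => ⟨Finsupp.single m 1, by simp⟩⟩
    obtain ⟨L, _, _, f, hf, he⟩ : ∃ (L : Type u) (_ : AddCommGroup L) (_ : Module A L) (f : L →ₗ[A] F),
        Function.Injective f ∧ Function.Exact f g :=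
      ⟨LinearMap.ker g, inferInstance, inferInstance, Submodule.subtype _, Submodule.subtype_injective _,
        LinearMap.exact_subtype_ker_map g⟩
    have hf' : Function.Injective (f.baseChange B) :=
      Module.Flat.lTensor_preserves_injective_linearMap f hf
    have he' : Function.Exact (f.baseChange B) (g.baseChange B) := by
      show Function.Exact (f.lTensor B) (g.lTensor B)
      exact lTensor_exact B he hg
    obtain ⟨e⟩ := TorShiftLib.nonempty_shift_one (f.baseChange B) (g.baseChange B) hf'
      (LinearMap.lTensor_surjective B hg) he' N
    haveI : Subsingleton (LinearMap.ker ((f.baseChange B).rTensor N)) := by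
      refine subsingleton_of_forall_eq 0 fun z => Subtype.ext (injective_rTensor_baseChange B N f hf ?_)
      exact z.2.trans (map_zero _).symm
    exact e.toEquiv.subsingleton
  | succ i ih =>
    intro M _ _
    obtain ⟨F, _, _, _, g, hg⟩ : ∃ (F : Type u) (_ : AddCommGroup F) (_ : Module A F) (_ : Module.Free A F)
        (g : F →ₗ[A] M), Function.Surjective g :=
      ⟨M →₀ A, inferInstance, inferInstance, inferInstance, Finsupp.linearCombination A id,
        fun m => ⟨Finsupp.single m 1, by simp⟩⟩
    obtain ⟨L, _, _, f, hf, he⟩ : ∃ (L : Type u) (_ : AddCommGroup L) (_ : Module A L) (f : L →ₗ[A] F),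
        Function.Injective f ∧ Function.Exact f g :=
      ⟨LinearMap.ker g, inferInstance, inferInstance, Submodule.subtype _, Submodule.subtype_injective _,
        LinearMap.exact_subtype_ker_map g⟩
    have hf' : Function.Injective (f.baseChange B) :=
      Module.Flat.lTensor_preserves_injective_linearMap f hf
    have he' : Function.Exact (f.baseChange B) (g.baseChange B) := by
      show Function.Exact (f.lTensor B) (g.lTensor B)
      exact lTensor_exact B he hg
    obtain ⟨e⟩ := TorShiftLib.nonempty_shift_succ (f.baseChange B) (g.baseChange B) hf'
      (LinearMap.lTensor_surjective B hg) he' N i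
    haveI := ih L
    exact e.toEquiv.subsingleton

/-- The intersection number of two transversal quotients. -/
theorem chi_extended [IsLocalRing B] [IsNoetherianRing B] (I : Ideal A) (J : Ideal B) [Module.Flat A (B ⧸ J)] :
    IntMult.chi B (B ⊗[A] (A ⧸ I)) (B ⧸ J) =
      ((Module.length B (B ⧸ (J ⊔ I.map (algebraMap A B)))).toNat : ℤ) := by
  rw [IntMult.chi, finsum_eq_single _ 0 fun i hi => ?_]
  · obtain ⟨e⟩ := TorShiftLib.nonempty_tor_zero (R := B) (N := B ⧸ J) (B ⊗[A] (A ⧸ I))
    rw [(e.trans ((TensorProduct.congr (Ideal.qoutMapEquivTensorQout B).symm (LinearEquiv.refl B _)).trans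
      (quotTensorEquivQuotSMul (B ⧸ J) (I.map (algebraMap A B))))).length_eq,
      IntMultRegLib.length_quotient_quotient]
    simp
  · obtain ⟨i, rfl⟩ := Nat.exists_eq_succ_of_ne_zero hi
    haveI := subsingleton_tor_extended (A := A) B (B ⧸ J) i (A ⧸ I)
    rw [Module.length_eq_zero]
    simp

end DiagTorLib
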