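import Groth.Agent.DiagTorLib.Mult
import Groth.Agent.IntMultRegLib.Geom
import Groth.Agent.AlbLib.AlgClosed
import Groth.Agent.S4662
import Groth.Agent.S6472

/-!
# A proper intersection seen on the diagonal
-/

set_option autoImplicit false
set_option backward.isDefEq.respectTransparency false
set_option backward.isDefEq.respectTransparency.types false
set_option linter.style.haveILetI false

universe u

open CategoryTheory CategoryTheory.Limits AlgebraicGeometry TopologicalSpace Topology

noncomputable section

namespace DiagTorLib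

theorem dim_image {X Y : Scheme.{u}} (m : X ⟶ Y) (hm : IsEmbedding m) (S : Set X) :
    topologicalKrullDim ↥(m '' S) = topologicalKrullDim ↥S := by
  let e := hm.homeomorphImage S
  exact (IsHomeomorph.topologicalKrullDim_eq e e.isHomeomorph).symm

theorem coe_support_ker {X Y : Scheme.{u}} (m : X ⟶ Y) [IsClosedImmersion m] :
    (m.ker.support : Set Y) = Set.range m := by
  rw [Scheme.Hom.support_ker, m.isClosedEmbedding.isClosed_range.closure_eq]

theorem dim_support_ker {X Y : Scheme.{u}} (m : X ⟶ Y) [IsClosedImmersion m] :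
    topologicalKrullDim ↥(m.ker.support : Set Y) = topologicalKrullDim X := by
  rw [coe_support_ker, ← Set.image_univ, dim_image m m.isClosedEmbedding.isEmbedding]
  exact IsHomeomorph.topologicalKrullDim_eq _ (Homeomorph.Set.univ X).isHomeomorph

theorem isIntegral_subscheme_ker {X Y : Scheme.{u}} (m : X ⟶ Y) [IsClosedImmersion m] [IsIntegral X] :
    IsIntegral m.ker.subscheme := by
  haveI : IsIso m.toImage := inferInstance
  haveI : Nonempty ↥m.image := ⟨m.toImage (Classical.arbitrary X)⟩
  exact isIntegral_of_isOpenImmersion (X := m.image) (inv m.toImage)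

variable {K : Type u} [Field K] [IsAlgClosed K] {X : Scheme.{u}} (f : X ⟶ Spec (CommRingCat.of K))

theorem isIntegral_pullback {V W : Scheme.{u}} (g : V ⟶ Spec (CommRingCat.of K)) (h : W ⟶ Spec (CommRingCat.of K))
    [LocallyOfFiniteType g] [LocallyOfFiniteType h] [IsIntegral V] [IsIntegral W] : IsIntegral (pullback g h) :=
  @AlbLib.isIntegral_tensor K _ _ (Over.mk g) (Over.mk h) ‹LocallyOfFiniteType g› ‹IsIntegral V›
    ‹LocallyOfFiniteType h› ‹IsIntegral W›

theorem dim_pullback {V W : Scheme.{u}} (g : V ⟶ Spec (CommRingCat.of K)) (h : W ⟶ Spec (CommRingCat.of K))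
    [LocallyOfFiniteType g] [LocallyOfFiniteType h] [IsIntegral V] [IsIntegral W] :
    topologicalKrullDim ↥(pullback g h) = topologicalKrullDim ↥V + topologicalKrullDim ↥W := by
  haveI := isIntegral_pullback g h
  have h' := Groth.Agent.S4662.result g h (Set.univ : Set ↥(pullback g h))
    ((irreducibleComponents_eq_singleton (X := ↥(pullback g h))).symm ▸ rfl)
  rwa [IsHomeomorph.topologicalKrullDim_eq _ (Homeomorph.Set.univ ↥(pullback g h)).isHomeomorph] at h'

variable [Smooth f] [IsSeparated f] [QuasiCompact f] [IsIntegral X]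

/-- The equations of the diagonal in the local ring. -/
theorem exists_regular_diag (n : ℕ) (hn : topologicalKrullDim X = n) (x : X) :
    ∃ g : Fin n → ↑((pullback f f).presheaf.stalk (pullback.diagonal f x)),
      IntMult.stalkIdeal (pullback.diagonal f).ker (pullback.diagonal f x) = Ideal.span (Set.range g) ∧
        RingTheory.Sequence.IsRegular ↑((pullback f f).presheaf.stalk (pullback.diagonal f x)) (List.ofFn g) := by
  haveI : IsLocallyNoetherian (pullback f f) := LocallyOfFiniteType.isLocallyNoetherian (pullback.fst f f ≫ f)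
  obtain ⟨⟨U, hU⟩, hxU, -, rs, hlen, hrs, hker⟩ := (Groth.Agent.S6472.result K X f n hn).2 x
  let i := pullback.diagonal f
  have hV : IsAffineOpen (i ⁻¹ᵁ U) := hU.preimage i
  have hs : Function.Surjective (i.app U) := i.app_surjective U hU
  letI := (pullback f f).presheaf.algebra_section_stalk (⟨i x, hxU⟩ : U)
  haveI : IsLocalization.AtPrime ((pullback f f).presheaf.stalk (i x)) (hU.primeIdealOf ⟨i x, hxU⟩).asIdeal :=
    hU.isLocalization_stalk ⟨i x, hxU⟩
  obtain ⟨hk1, hk2⟩ := RegImmKindLib.ker_stalkMap i hU hV hs x hxU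
  let l := rs.map (algebraMap Γ(pullback f f, U) ((pullback f f).presheaf.stalk (i x)))
  have hl : l.length = n := by simp [l, hlen]
  subst hl
  refine ⟨l.get, ?_, ?_⟩
  · rw [stalkIdeal_ker i x, hk1, hker, Ideal.map_ofList, Set.range_list_get]
  · rw [List.ofFn_get]
    refine RegImmKindLib.isRegular_of_seq RegImm.Kind.regular (hU.primeIdealOf ⟨i x, hxU⟩).asIdeal rs
      (fun r hr => hk2 ?_) hrs _
    rw [hker]
    exact Ideal.subset_span hr

variable (IV IW : X.IdealSheafData)

/-- The support of the product, on the diagonal. -/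
theorem mem_inter_iff (z : ↥(pullback f f)) :
    z ∈ (pullback.diagonal f).ker.support ∧ z ∈ (pullback.map (IV.subschemeι ≫ f) (IW.subschemeι ≫ f) f f IV.subschemeι
      IW.subschemeι (𝟙 _) (Category.comp_id _) (Category.comp_id _)).ker.support ↔
      z ∈ (pullback.diagonal f) '' ((IV.support : Set X) ∩ IW.support) := by
  have h1 : ∀ x, pullback.fst f f (pullback.diagonal f x) = x := fun x => base_eq _ _ (pullback.diagonal_fst f) x
  have h2 : ∀ x, pullback.snd f f (pullback.diagonal f x) = x := fun x => base_eq _ _ (pullback.diagonal_snd f) x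
  rw [ker_map, Scheme.IdealSheafData.support_sup, Scheme.IdealSheafData.support_comap,
    Scheme.IdealSheafData.support_comap]
  show z ∈ ((pullback.diagonal f).ker.support : Set _) ∧ _ ↔ _
  rw [coe_support_ker]
  constructor
  · rintro ⟨⟨x, rfl⟩, hv, hw⟩
    refine ⟨x, ⟨?_, ?_⟩, rfl⟩
    · exact h1 x ▸ hv
    · exact h2 x ▸ hw
  · rintro ⟨x, ⟨hv, hw⟩, rfl⟩
    exact ⟨⟨x, rfl⟩, show pullback.fst f f _ ∈ IV.support from (h1 x).symm ▸ hv,
      show pullback.snd f f _ ∈ IW.support from (h2 x).symm ▸ hw⟩

end DiagTorLib
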