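import Groth.Agent.DiagTorLib.Cycles
import Groth.Agent.DiagTorLib.ExtAlg
import Groth.Agent.DiagTorLib.Prod
import Groth.Agent.CycBivLib.Setup
import Groth.Agent.CycC1Lib.Degree

/-!
# The exterior product as an intersection product
-/

set_option autoImplicit false
set_option backward.isDefEq.respectTransparency false
set_option backward.isDefEq.respectTransparency.types false
set_option linter.style.haveILetI false

universe u

open CategoryTheory CategoryTheory.Limits AlgebraicGeometry TopologicalSpace Topology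
open EquidimLib (stalkPt)
open CycDivLib (primeOf stalkPt_primeOf)

noncomputable section

namespace DiagTorLib

theorem stalkIdeal_ptIdeal_self {X : Scheme.{u}} (x : X) :
    IntMult.stalkIdeal (IntMult.ptIdeal x) x = IsLocalRing.maximalIdeal (X.presheaf.stalk x) := by
  rw [stalkIdeal_ptIdeal specializes_rfl]
  exact congrArg PrimeSpectrum.asIdeal
    (show primeOf (specializes_rfl : x ⤳ x) = IsLocalRing.closedPoint _ from
      EquidimLib.stalkPt_injective x ((stalkPt_primeOf _).trans Scheme.fromSpecStalk_closedPoint.symm))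

variable {K : Type u} [Field K] [IsAlgClosed K] {X Y : Scheme.{u}} (f : X ⟶ Spec (CommRingCat.of K))
  (g : Y ⟶ Spec (CommRingCat.of K))

/-- The local ring of a closed subscheme flat over the target, as a flat quotient. -/
theorem flat_quotient_ker {P Z S : Scheme.{u}} (i : Z ⟶ P) [IsClosedImmersion i] (p : P ⟶ S) [Flat (i ≫ p)] (w : Z) :
    letI := (p.stalkMap (i w)).hom.toAlgebra
    Module.Flat (S.presheaf.stalk (p (i w))) (↑(P.presheaf.stalk (i w)) ⧸ IntMult.stalkIdeal i.ker (i w)) := by
  letI := (p.stalkMap (i w)).hom.toAlgebra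
  have hf : ((i ≫ p).stalkMap w).hom.Flat := Flat.stalkMap _ w
  revert hf
  rw [Scheme.Hom.stalkMap_comp, CommRingCat.hom_comp]
  intro hf
  letI : Algebra (S.presheaf.stalk (p (i w))) (Z.presheaf.stalk w) :=
    ((i.stalkMap w).hom.comp (p.stalkMap (i w)).hom).toAlgebra
  haveI : Module.Flat (S.presheaf.stalk (p (i w))) (Z.presheaf.stalk w) := hf
  let φ : ↑(P.presheaf.stalk (i w)) →ₗ[S.presheaf.stalk (p (i w))] Z.presheaf.stalk w :=
    { toFun := (i.stalkMap w).hom
      map_add' := map_add _
      map_smul' := fun a b => by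
        show (i.stalkMap w).hom ((p.stalkMap (i w)).hom a * b) = _
        rw [map_mul]; rfl }
  refine Module.Flat.of_linearEquiv
    ((Submodule.Quotient.restrictScalarsEquiv _ (IntMult.stalkIdeal i.ker (i w))).symm.trans
      ((Submodule.quotEquivOfEq _ (LinearMap.ker φ) ?_).trans
        (φ.quotKerEquivOfSurjective (i.stalkMap_surjective w))))
  ext b
  rw [Submodule.restrictScalars_mem, stalkIdeal_ker]
  rfl

/-- Modulo the maximal ideal of one factor, the local ring of the product is flat over the other. -/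
theorem flat_quotient_snd (z : ↥(pullback f g)) :
    letI := ((pullback.fst f g).stalkMap z).hom.toAlgebra
    Module.Flat (X.presheaf.stalk (pullback.fst f g z)) (↑((pullback f g).presheaf.stalk z) ⧸
      (IsLocalRing.maximalIdeal (Y.presheaf.stalk (pullback.snd f g z))).map ((pullback.snd f g).stalkMap z).hom) := by
  letI := ((pullback.fst f g).stalkMap z).hom.toAlgebra
  have hz : z ∈ Set.range ((IntMult.ptIdeal (pullback.snd f g z)).comap (pullback.snd f g)).subschemeι := by
    rw [Scheme.IdealSheafData.range_subschemeι]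
    show z ∈ ((IntMult.ptIdeal (pullback.snd f g z)).comap (pullback.snd f g)).support
    rw [Scheme.IdealSheafData.support_comap]
    exact (mem_support_ptIdeal _ _).2 specializes_rfl
  have hJ : (IsLocalRing.maximalIdeal (Y.presheaf.stalk (pullback.snd f g z))).map ((pullback.snd f g).stalkMap z).hom =
      IntMult.stalkIdeal ((IntMult.ptIdeal (pullback.snd f g z)).comap (pullback.snd f g)) z := by
    rw [DivDescLib.stalkIdeal_comap, stalkIdeal_ptIdeal_self]
  rw [hJ]
  generalize hI : IntMult.ptIdeal (pullback.snd f g z) = I at hz ⊢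
  clear hJ hI
  obtain ⟨w, rfl⟩ := hz
  haveI : Flat (I.subschemeι ≫ g) := inferInstance
  haveI : Flat ((I.comap (pullback.snd f g)).subschemeι ≫ pullback.fst f g) := by
    rw [← Scheme.IdealSheafData.comapIso_hom_fst, Category.assoc, ← pullbackLeftPullbackSndIso_hom_fst]
    infer_instance
  have h := flat_quotient_ker (I.comap (pullback.snd f g)).subschemeι (pullback.fst f g) w
  rwa [Scheme.IdealSheafData.ker_subschemeι] at h

variable [Smooth f] [IsSeparated f] [QuasiCompact f] [IsIntegral X]
  [Smooth g] [IsSeparated g] [QuasiCompact g] [IsIntegral Y]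
  (δX : X → ℤ) (δY : Y → ℤ) (δ : ↥(pullback f g) → ℤ) (hX : Cyc.DeltaCompat f δX (fun _ => 0))
  (hY : Cyc.DeltaCompat g δY (fun _ => 0)) (hXY : Cyc.DeltaCompat (pullback.fst f g ≫ f) δ (fun _ => 0))

include hX hY hXY in
/-- A point of the product has at most the sum of the dimensions of its projections. -/
theorem delta_pullback_le (z : ↥(pullback f g)) : δ z ≤ δX (pullback.fst f g z) + δY (pullback.snd f g z) := by
  let ιV := (IntMult.ptIdeal (pullback.fst f g z)).subschemeι
  let ιW := (IntMult.ptIdeal (pullback.snd f g z)).subschemeι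
  haveI : IsIntegral (IntMult.ptIdeal (pullback.fst f g z)).subscheme := NagataFG.isIntegral_closure _
  haveI : IsIntegral (IntMult.ptIdeal (pullback.snd f g z)).subscheme := NagataFG.isIntegral_closure _
  let ψ := pullback.map (ιV ≫ f) (ιW ≫ g) f g ιV ιW (𝟙 _) (Category.comp_id _) (Category.comp_id _)
  haveI : IsClosedImmersion ψ :=
    MorphismProperty.pullback_map (P := @IsClosedImmersion) (i₁ := ιV) (i₂ := ιW) (inferInstance : IsClosedImmersion ιV)
      (inferInstance : IsClosedImmersion ιW) rfl rfl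
  obtain ⟨a, ha1, ha2⟩ := exists_dim_closure f δX hX (pullback.fst f g z)
  obtain ⟨b, hb1, hb2⟩ := exists_dim_closure g δY hY (pullback.snd f g z)
  obtain ⟨c, hc1, hc2⟩ := exists_dim_closure (pullback.fst f g ≫ f) δ hXY z
  have hV : topologicalKrullDim ↥(IntMult.ptIdeal (pullback.fst f g z)).subscheme = a := by
    rw [← dim_support_ker ιV, Scheme.IdealSheafData.ker_subschemeι, IntMult.ptIdeal,
      Scheme.IdealSheafData.coe_support_vanishingIdeal]
    exact ha2
  have hW : topologicalKrullDim ↥(IntMult.ptIdeal (pullback.snd f g z)).subscheme = b := by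
    rw [← dim_support_ker ιW, Scheme.IdealSheafData.ker_subschemeι, IntMult.ptIdeal,
      Scheme.IdealSheafData.coe_support_vanishingIdeal]
    exact hb2
  have hz : z ∈ Set.range ψ := by
    rw [Scheme.Pullback.range_map, Scheme.IdealSheafData.range_subschemeι, Scheme.IdealSheafData.range_subschemeι]
    exact ⟨(mem_support_ptIdeal _ _).2 specializes_rfl, (mem_support_ptIdeal _ _).2 specializes_rfl⟩
  have h : (c : WithBot ℕ∞) ≤ (a : WithBot ℕ∞) + b := by
    rw [← hc2, ← hV, ← hW, ← dim_pullback (ιV ≫ f) (ιW ≫ g), ← dim_support_ker ψ, coe_support_ker]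
    exact (IsEmbedding.inclusion (closure_minimal (Set.singleton_subset_iff.2 hz)
      ψ.isClosedEmbedding.isClosed_range)).isInducing.topologicalKrullDim_le
  have : c ≤ a + b := by exact_mod_cast h
  omega

variable (n m : ℕ) (hn : δX (genericPoint X) = n) (hm : δY (genericPoint Y) = m)

include hX hY hXY hn hm in
theorem delta_generic [IsIntegral (pullback f g)] : δ (genericPoint ↥(pullback f g)) = (n : ℤ) + m := by
  obtain ⟨a, ha1, ha2⟩ := exists_dim_closure f δX hX (genericPoint X)
  obtain ⟨b, hb1, hb2⟩ := exists_dim_closure g δY hY (genericPoint Y)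
  obtain ⟨c, hc1, hc2⟩ := exists_dim_closure (pullback.fst f g ≫ f) δ hXY (genericPoint ↥(pullback f g))
  rw [(genericPoint_spec _).def] at ha2 hb2 hc2
  rw [IsHomeomorph.topologicalKrullDim_eq _ (Homeomorph.Set.univ _).isHomeomorph] at ha2 hb2 hc2
  rw [dim_pullback f g, ha2, hb2] at hc2
  have : a + b = c := by exact_mod_cast hc2
  omega

include hX hY hXY hn hm in
/-- The product of the pullbacks of two cycles is their exterior product. -/
theorem interProd_pull (r s : ℤ) (α : AlgebraicCycle X ℤ) (β : AlgebraicCycle Y ℤ) (hα : α ∈ Cyc.Zk X δX r)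
    (hβ : β ∈ Cyc.Zk Y δY s) :
    IntMult.IntersectProperly δ (n + m) (Cyc.pullFun (pullback.fst f g) δ δX m ⇑α)
        (Cyc.pullFun (pullback.snd f g) δ δY n ⇑β) ∧
      IntMult.interProd δ (n + m) (Cyc.pullFun (pullback.fst f g) δ δX m ⇑α)
        (Cyc.pullFun (pullback.snd f g) δ δY n ⇑β) = IntMult.extProd f g δX δY δ ⇑α ⇑β := by
  classical
  have hXs : Cyc.IsSetup X δX := CycBivLib.isSetup_of_lft f CycC1Lib.isSetup_field hX
  have hYs : Cyc.IsSetup Y δY := CycBivLib.isSetup_of_lft g CycC1Lib.isSetup_field hY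
  have hPs : Cyc.IsSetup (pullback f g) δ :=
    CycBivLib.isSetup_of_lft (pullback.fst f g ≫ f) CycC1Lib.isSetup_field hXY
  haveI := hXs.1
  haveI := hYs.1
  haveI := hPs.1
  haveI := isIntegral_pullback f g
  haveI : Flat (pullback.fst f g) := inferInstance
  haveI : Flat (pullback.snd f g) := inferInstance
  have hgen := delta_generic f g δX δY δ hX hY hXY n m hn hm
  have hsum := delta_pullback_le f g δX δY δ hX hY hXY
  have hmaxX : ∀ x, δX x ≤ n := fun x => by
    by_cases e : genericPoint X = x
    · rw [← e, hn]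
    · have := (hXs.2.2 _ _ ((genericPoint_spec X).specializes trivial) e).1
      omega
  have hmaxY : ∀ y, δY y ≤ m := fun y => by
    by_cases e : genericPoint Y = y
    · rw [← e, hm]
    · have := (hYs.2.2 _ _ ((genericPoint_spec Y).specializes trivial) e).1
      omega
  have hle1 : ∀ z, δ z ≤ δX (pullback.fst f g z) + m := fun z => by
    have := hsum z; have := hmaxY (pullback.snd f g z); omega
  have hle2 : ∀ z, δ z ≤ δY (pullback.snd f g z) + n := fun z => by
    have := hsum z; have := hmaxX (pullback.fst f g z); omega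
  have hmono : ∀ {Z : Scheme.{u}} {d : Z → ℤ}, Cyc.IsSetup Z d → ∀ {a b : Z}, a ⤳ b → d b ≤ d a ∧ (d b = d a → b = a) := by
    intro Z d hd a b h
    by_cases e : a = b
    · subst e; exact ⟨le_rfl, fun _ => rfl⟩
    · have := (hd.2.2 _ _ h e).1
      exact ⟨this.le, fun h' => absurd h' this.ne⟩
  have hdα : ∀ y, α y ≠ 0 → δX y = r := fun y h => not_not.1 fun h' => h (hα y h')
  have hdβ : ∀ y, β y ≠ 0 → δY y = s := fun y h => not_not.1 fun h' => h (hβ y h')
  refine ⟨fun ξ η ζ hξ hη h1 h2 => ?_, funext fun ζ => ?_⟩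
  · simp only [Cyc.pullFun] at hξ hη
    split_ifs at hξ with e1
    swap; · exact absurd rfl hξ
    split_ifs at hη with e2
    swap; · exact absurd rfl hη
    have := hdα _ (left_ne_zero_of_mul hξ)
    have := hdβ _ (left_ne_zero_of_mul hη)
    have := (hmono hXs (h1.map (pullback.fst f g).continuous)).1
    have := (hmono hYs (h2.map (pullback.snd f g).continuous)).1
    have := hsum ζ
    omega
  let x := pullback.fst f g ζ
  let y := pullback.snd f g ζ
  let S := (finite_generalizations α x).toFinset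
  let T := (finite_generalizations β y).toFinset
  have hS : ∀ p, p ∈ S ↔ p ⤳ x ∧ α p ≠ 0 := fun p => Set.Finite.mem_toFinset _
  have hT : ∀ p, p ∈ T ↔ p ⤳ y ∧ β p ≠ 0 := fun p => Set.Finite.mem_toFinset _
  -- the pullback of one point
  have hpt : ∀ {Z : Scheme.{u}} [IsLocallyNoetherian Z] (p : pullback f g ⟶ Z) (d : Z → ℤ) (c : ℤ),
      Cyc.IsSetup Z d → (∀ z, δ z ≤ d (p z) + c) → ∀ (ξ : Z),
      {z | z ⤳ ζ ∧ Cyc.pullFun p δ d c (single ξ) z ≠ 0}.Finite := by
    intro Z _ p d c hd hle ξ
    refine (finite_top_points δ hPs ((IntMult.ptIdeal ξ).comap p) (d ξ + c) (fun z hz => ?_) ζ).subset fun z hz => ?_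
    · rw [Scheme.IdealSheafData.support_comap] at hz
      have := (hmono hd ((mem_support_ptIdeal _ _).1 hz)).1
      have := hle z
      omega
    · obtain ⟨hz1, hz2⟩ := hz
      simp only [Cyc.pullFun] at hz2
      split_ifs at hz2 with e
      swap; · exact absurd rfl hz2
      have h3 : p z = ξ := not_not.1 fun h' => left_ne_zero_of_mul hz2 (single_ne _ _ h')
      refine ⟨hz1, ?_, by rw [e, h3]⟩
      rw [Scheme.IdealSheafData.support_comap]
      exact (mem_support_ptIdeal _ _).2 (by rw [h3])
  have hlin : ∀ {Z : Scheme.{u}} (p : pullback f g ⟶ Z) (d : Z → ℤ) (c : ℤ) (a : Z → ℤ) (S : Finset Z)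
      (z : ↥(pullback f g)), (a (p z) ≠ 0 → p z ∈ S) →
      Cyc.pullFun p δ d c a z = ∑ ξ ∈ S, a ξ * Cyc.pullFun p δ d c (single ξ) z := by
    intro Z p d c a S z h
    simp only [Cyc.pullFun]
    split_ifs
    · rw [eq_sum_single a S (p z) h, Finset.sum_mul]
      exact Finset.sum_congr rfl fun ξ _ => mul_assoc _ _ _
    · simp
  rw [interProd_sum δ (n + m) (Cyc.pullFun (pullback.fst f g) δ δX m ⇑α) (Cyc.pullFun (pullback.snd f g) δ δY n ⇑β) ζ
    S T ⇑α ⇑β (fun ξ => Cyc.pullFun (pullback.fst f g) δ δX m (single ξ))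
    (fun η => Cyc.pullFun (pullback.snd f g) δ δY n (single η))
    (fun ξ _ => hpt (pullback.fst f g) δX m hXs hle1 ξ) (fun η _ => hpt (pullback.snd f g) δY n hYs hle2 η)
    (fun z hz => hlin _ δX m _ S z fun h => (hS _).2 ⟨hz.map (pullback.fst f g).continuous, h⟩)
    (fun z hz => hlin _ δY n _ T z fun h => (hT _).2 ⟨hz.map (pullback.snd f g).continuous, h⟩)]
  -- one term
  have term : ∀ ξ ∈ S, ∀ η ∈ T, IntMult.interProd δ (n + m) (Cyc.pullFun (pullback.fst f g) δ δX m (single ξ))
      (Cyc.pullFun (pullback.snd f g) δ δY n (single η)) ζ =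
      if δ ζ = r + s ∧ ξ = x ∧ η = y then
        ((Module.length ((pullback f g).presheaf.stalk ζ) (↑((pullback f g).presheaf.stalk ζ) ⧸
          ((IsLocalRing.maximalIdeal (X.presheaf.stalk x)).map ((pullback.fst f g).stalkMap ζ).hom ⊔
           (IsLocalRing.maximalIdeal (Y.presheaf.stalk y)).map ((pullback.snd f g).stalkMap ζ).hom))).toNat : ℤ)
      else 0 := by
    intro ξ hξ η hη
    obtain ⟨F, hF, hF1, hF2⟩ := exists_sheaf_single δX hXs ξ
    obtain ⟨G, hG, hG1, hG2⟩ := exists_sheaf_single δY hYs η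
    have er : δX ξ = r := hdα _ ((hS ξ).1 hξ).2
    have es : δY η = s := hdβ _ ((hT η).1 hη).2
    rw [er] at hF2 hF1
    rw [es] at hG2 hG1
    obtain ⟨hF', hF2'⟩ := CycLimLib.pullFun_sheafFun (pullback.fst f g) δX δ m hle1 r F fun p hp => (hF1 p hp).2
    obtain ⟨hG', hG2'⟩ := CycLimLib.pullFun_sheafFun (pullback.snd f g) δY δ n hle2 s G fun p hp => (hG1 p hp).2
    rw [← hF2, ← hG2, hF2', hG2']
    rw [(interProd_sheafFun (pullback.fst f g ≫ f) δ hPs hXY (n + m) hgen _ _ (ConsLib.isCoh_pullback _ hF)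
      (ConsLib.isCoh_pullback _ hG) (r + m) (s + n) hF' hG' fun p h1 h2 => by
        have := (hF1 _ (CycLimLib.nontrivial_of_pullback _ F p h1)).2
        have := (hG1 _ (CycLimLib.nontrivial_of_pullback _ G p h2)).2
        have := hsum p
        omega).2 ζ]
    by_cases hd : δ ζ = r + s
    swap
    · rw [if_neg (by omega), if_neg (fun h => hd h.1)]
    rw [if_pos (by omega)]
    by_cases hxy : ξ = x ∧ η = y
    · rw [if_pos ⟨hd, hxy⟩]
      obtain ⟨rfl, rfl⟩ := hxy
      let A := X.presheaf.stalk x
      let C := Y.presheaf.stalk y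
      let B := (pullback f g).presheaf.stalk ζ
      have hres : ∀ {Z : Scheme.{u}} (H : Z.Modules) (d : Z → ℤ) (k : ℤ) (z : Z), d z = k →
          Cyc.sheafFun d k H = single z →
          Nonempty ((DevissLib.St z).obj H ≃ₗ[Z.presheaf.stalk z] (↑(Z.presheaf.stalk z) ⧸ IsLocalRing.maximalIdeal (Z.presheaf.stalk z))) := by
        intro Z H d k z hk hH
        have h1 := congrFun hH z
        rw [single_self, Cyc.sheafFun, if_pos hk] at h1
        have h2 : Module.length (Z.presheaf.stalk z) ((DevissLib.St z).obj H) = 1 := by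
          have h3 : (Module.length (Z.presheaf.stalk z) ((DevissLib.St z).obj H)).toNat = 1 := by exact_mod_cast h1
          rwa [ENat.toNat_eq_iff one_ne_zero] at h3
        obtain ⟨I, hI, ⟨e⟩⟩ := isSimpleModule_iff_quot_maximal.1 (Module.length_eq_one_iff.1 h2)
        rw [IsLocalRing.eq_maximalIdeal hI] at e
        exact ⟨e⟩
      obtain ⟨eA⟩ := hres F δX r x er hF2
      obtain ⟨eC⟩ := hres G δY s y es hG2
      letI : Algebra A B := ((pullback.fst f g).stalkMap ζ).hom.toAlgebra
      haveI : Module.Flat A B := Flat.stalkMap (pullback.fst f g) ζ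
      haveI : Module.Flat A (↑B ⧸ (IsLocalRing.maximalIdeal C).map ((pullback.snd f g).stalkMap ζ).hom) :=
        flat_quotient_snd f g ζ
      letI : Algebra C B := ((pullback.snd f g).stalkMap ζ).hom.toAlgebra
      refine (chi_congr_pair (((KFlatLib.stalkPullIso (pullback.fst f g) ζ).app F).toLinearEquiv.trans (eA.baseChange A B))
        ((((KFlatLib.stalkPullIso (pullback.snd f g) ζ).app G).toLinearEquiv.trans (eC.baseChange C B)).trans
          (Ideal.qoutMapEquivTensorQout B).symm)).trans ?_
      rw [sup_comm]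
      exact chi_extended B (IsLocalRing.maximalIdeal A) ((IsLocalRing.maximalIdeal C).map ((pullback.snd f g).stalkMap ζ).hom)
    · rw [if_neg (fun h => hxy h.2)]
      by_contra hne
      have h1 : Nontrivial (((Scheme.Modules.pullback (pullback.fst f g)).obj F).presheaf.stalk ζ) := by
        by_contra h
        rw [not_nontrivial_iff_subsingleton] at h
        exact hne (chi_eq_zero_of_subsingleton _ _)
      have h2 : Nontrivial (((Scheme.Modules.pullback (pullback.snd f g)).obj G).presheaf.stalk ζ) := by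
        by_contra h
        rw [not_nontrivial_iff_subsingleton] at h
        exact hne ((IntMultRegLib.chi_comm _ _).trans (chi_eq_zero_of_subsingleton _ _))
      obtain ⟨a1, a2⟩ := hF1 _ (CycLimLib.nontrivial_of_pullback _ F ζ h1)
      obtain ⟨b1, b2⟩ := hG1 _ (CycLimLib.nontrivial_of_pullback _ G ζ h2)
      have := hsum ζ
      exact hxy ⟨((hmono hXs a1).2 (by rw [er]; omega)).symm, ((hmono hYs b1).2 (by rw [es]; omega)).symm⟩
  rw [Finset.sum_congr rfl fun ξ hξ => Finset.sum_congr rfl fun η hη => by rw [term ξ hξ η hη]]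
  rw [IntMult.extProd]
  by_cases hxy : x ∈ S ∧ y ∈ T
  · have e1 := hdα _ ((hS x).1 hxy.1).2
    have e2 := hdβ _ ((hT y).1 hxy.2).2
    rw [Finset.sum_eq_single x (fun ξ _ hne => Finset.sum_eq_zero fun η _ => by rw [if_neg (fun h => hne h.2.1), mul_zero])
      (fun h => absurd hxy.1 h),
      Finset.sum_eq_single y (fun η _ hne => by rw [if_neg (fun h => hne h.2.2), mul_zero]) (fun h => absurd hxy.2 h)]
    show _ = if δ ζ = δX x + δY y then _ else _
    rw [e1, e2]
    by_cases hd : δ ζ = r + s
    · rw [if_pos ⟨hd, rfl, rfl⟩, if_pos hd]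
    · rw [if_neg (fun h => hd h.1), if_neg hd, mul_zero]
  · rw [Finset.sum_eq_zero fun ξ hξ => Finset.sum_eq_zero fun η hη => by
      rw [if_neg (fun h : δ ζ = r + s ∧ ξ = x ∧ η = y => hxy ⟨h.2.1 ▸ hξ, h.2.2 ▸ hη⟩), mul_zero]]
    split_ifs with hd
    · rw [not_and_or, hS, hT] at hxy
      rcases hxy with h | h
      · rw [not_not.1 fun h' => h ⟨specializes_rfl, h'⟩]; simp
      · rw [not_not.1 fun h' => h ⟨specializes_rfl, h'⟩]; simp
    · rfl

end DiagTorLib
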