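import Groth.Agent.DiagTorLib.AssocLocal
import Groth.Agent.DiagTorLib.DiagProd
import Groth.Agent.IntMultRegLib.BaseChange

/-!
# Associativity of the intersection product of three prime cycles
-/

set_option autoImplicit false
set_option backward.isDefEq.respectTransparency false
set_option backward.isDefEq.respectTransparency.types false
set_option linter.style.haveILetI false

universe u

open CategoryTheory CategoryTheory.Limits AlgebraicGeometry TopologicalSpace Topology
open EquidimLib (stalkPt)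
open CycDivLib (primeOf stalkPt_primeOf)
open TensorProduct

noncomputable section

namespace DiagTorLib

theorem length_localized {R L : Type u} [CommRing R] [CommRing L] [Algebra R L] (Q : PrimeSpectrum R)
    [IsLocalization.AtPrime L Q.asIdeal] (M : Type u) [AddCommGroup M] [Module R M] :
    Module.length L (L ⊗[R] M) = IntMultRegLib.lenAt Q M :=
  DvrLenLib.length_eq_of_isLocalizedModule Q.asIdeal.primeCompl (TensorProduct.mk R L M 1)
    (LocalizedModule.mkLinearMap Q.asIdeal.primeCompl M)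

variable {K : Type u} [Field K] {X : Scheme.{u}} (f : X ⟶ Spec (CommRingCat.of K))

/-- Associativity at a point. -/
theorem assoc_stalk [Smooth f] [IsSeparated f] [QuasiCompact f] [IsAlgClosed K] [IsIntegral X] (x : X)
    (I : X.IdealSheafData) (V W : Type u) [AddCommGroup V] [Module (X.presheaf.stalk x) V]
    [Module.Finite (X.presheaf.stalk x) V] [AddCommGroup W] [Module (X.presheaf.stalk x) W]
    [Module.Finite (X.presheaf.stalk x) W]
    (h3 : ∀ p : PrimeSpectrum (X.presheaf.stalk x), IntMult.stalkIdeal I x ⊔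
      (Module.annihilator (X.presheaf.stalk x) V ⊔ Module.annihilator (X.presheaf.stalk x) W) ≤ p.asIdeal →
        p.asIdeal.IsMaximal) :
    ∑ᶠ q : ℕ, (-1 : ℤ) ^ q * IntMult.chi (X.presheaf.stalk x) (↑(X.presheaf.stalk x) ⧸ IntMult.stalkIdeal I x)
        (DRing.Tor (X.presheaf.stalk x) q V W) =
      ∑ᶠ p : ℕ, (-1 : ℤ) ^ p * IntMult.chi (X.presheaf.stalk x)
        (DRing.Tor (X.presheaf.stalk x) p (↑(X.presheaf.stalk x) ⧸ IntMult.stalkIdeal I x) V) W := by
  haveI : IsLocallyNoetherian X := LocallyOfFiniteType.isLocallyNoetherian f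
  let F := pullback.fst f f ≫ f
  haveI : IsLocallyNoetherian (pullback f f) := LocallyOfFiniteType.isLocallyNoetherian F
  let A := X.presheaf.stalk x
  let B := (pullback f f).presheaf.stalk (pullback.diagonal f x)
  haveI : IsRegularLocalRing A := WeilExtLib.isRegular_stalk_smooth f x
  haveI : IsRegularLocalRing B := WeilExtLib.isRegular_stalk_smooth F _
  let π := ((pullback.diagonal f).stalkMap x).hom
  letI : Algebra B A := π.toAlgebra
  letI : Algebra A B := (ι₁ f x).hom.toAlgebra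
  have h1 : ∀ a, π ((ι₁ f x).hom a) = a := fun a =>
    RingHom.congr_fun (congrArg CommRingCat.Hom.hom (proj_comp (pullback.diagonal f) _ (pullback.diagonal_fst f) x)) a
  have h2 : ∀ a, π ((ι₂ f x).hom a) = a := fun a =>
    RingHom.congr_fun (congrArg CommRingCat.Hom.hom (proj_comp (pullback.diagonal f) _ (pullback.diagonal_snd f) x)) a
  haveI : IsScalarTower A B A := IsScalarTower.of_algebraMap_eq fun a => (h1 a).symm
  haveI : Module.Flat A B := flat_proj (pullback.diagonal f) (pullback.fst f f) (pullback.diagonal_fst f) x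
  have hι₂ : (ι₂ f x).hom.Flat := flat_proj (pullback.diagonal f) (pullback.snd f f) (pullback.diagonal_snd f) x
  let J := IntMult.stalkIdeal I x
  haveI : Module.Flat A (↑B ⧸ J.map (ι₂ f x).hom) := RingHom.flat_algebraMap_iff.1 (flat_quot_proj f I x)
  have hI : (J.map (ι₂ f x).hom).map (algebraMap B A) = J := by
    rw [Ideal.map_map, show (algebraMap B A).comp (ι₂ f x).hom = RingHom.id A from RingHom.ext h2, Ideal.map_id]
  let eU : (↑A ⊗[B] (↑B ⧸ J.map (ι₂ f x).hom)) ≃ₗ[A] (↑A ⧸ J) :=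
    (Ideal.qoutMapEquivTensorQout A).symm.trans (Submodule.quotEquivOfEq _ _ hI)
  obtain ⟨m, -, hm⟩ : ∃ m : ℕ, True ∧ topologicalKrullDim X = m := by
    obtain ⟨a, ha⟩ := UOpenLib.exists_fibreClosureDim_eq_nat f x
    obtain ⟨b, hb⟩ := EquidimLib.exists_stalk_dim_eq_nat x
    refine ⟨a + b, trivial, ?_⟩
    rw [IntMultRegLib.dim_eq f x, ha, hb]
    push_cast
    rfl
  obtain ⟨g, hg, hreg⟩ := exists_regular_diag f m hm x
  have hker : Groth.Agent.KoszChiLib.Idl (List.ofFn g) = RingHom.ker (algebraMap B A) := by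
    rw [Groth.Agent.KoszChiLib.Idl_ofFn g, ← hg, stalkIdeal_ker]
    rfl
  refine assoc_local (A := A) (B := B) (↑A ⧸ J) V W (↑B ⧸ J.map (ι₂ f x).hom)
    (fun P _ _ _ j hj => subsingleton_tor_quot (A := A) (B := B) (ι₂ f x).hom h2 hι₂ J P hj) eU (List.ofFn g) hreg hker
    fun p hp => h3 p ?_
  rwa [Ideal.annihilator_quotient] at hp

variable [Smooth f] [IsSeparated f] [QuasiCompact f] [IsAlgClosed K] [IsIntegral X]
  (δ : X → ℤ) (hX : Cyc.IsSetup X δ) (hδ : Cyc.DeltaCompat f δ (fun _ => 0)) (n : ℤ) (hn : δ (genericPoint X) = n)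

omit [Smooth f] [IsSeparated f] [QuasiCompact f] [IsAlgClosed K] [IsIntegral X] in
theorem interProd_comm (a b : X → ℤ) : IntMult.interProd δ n a b = IntMult.interProd δ n b a := by
  funext ζ
  let e : {p : X × X // p.1 ⤳ ζ ∧ p.2 ⤳ ζ ∧ δ p.1 + δ p.2 - n = δ ζ} ≃
      {p : X × X // p.1 ⤳ ζ ∧ p.2 ⤳ ζ ∧ δ p.1 + δ p.2 - n = δ ζ} :=
    (Equiv.prodComm X X).subtypeEquiv fun p => by
      simp only [Equiv.prodComm_apply, Prod.fst_swap, Prod.snd_swap]
      constructor <;> rintro ⟨h1, h2, h3⟩ <;> exact ⟨h2, h1, by omega⟩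
  refine (finsum_comp_equiv e).symm.trans (finsum_congr fun p => ?_)
  show a p.1.2 * b p.1.1 * IntMult.mult _ _ ζ = b p.1.1 * a p.1.2 * IntMult.mult _ _ ζ
  rw [mul_comm (a p.1.2), IntMult.mult, IntMult.mult, IntMultRegLib.chi_comm]
  rfl

omit [Smooth f] [IsSeparated f] [QuasiCompact f] [IsAlgClosed K] [IsIntegral X] in
theorem support_triple {a b c x : X}
    (h : IntMult.interProd δ n (single a) (IntMult.interProd δ n (single b) (single c)) x ≠ 0) :
    a ⤳ x ∧ b ⤳ x ∧ c ⤳ x ∧ δ x = δ a + δ b + δ c - 2 * n := by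
  obtain ⟨p, hp⟩ := exists_ne_zero_of_finsum_mem_ne_zero (f := fun p : X × X => single a p.1 *
    IntMult.interProd δ n (single b) (single c) p.2 * IntMult.mult (IntMult.ptIdeal p.1) (IntMult.ptIdeal p.2) x)
    (s := {p : X × X | p.1 ⤳ x ∧ p.2 ⤳ x ∧ δ p.1 + δ p.2 - n = δ x})
    (by rwa [← finsum_set_coe_eq_finsum_mem])
  obtain ⟨⟨h1, h2, h3⟩, hne⟩ := hp
  simp only [mul_ne_zero_iff] at hne
  have e1 : p.1 = a := not_not.1 fun h' => hne.1.1 (single_ne _ _ h')
  have h4 := hne.1.2
  rw [interProd_single] at h4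
  obtain ⟨h5, h6, h7⟩ := Set.mem_of_indicator_ne_zero h4
  refine ⟨e1 ▸ h1, h5.trans h2, h6.trans h2, ?_⟩
  simp only at h7
  rw [e1] at h3
  omega

include f hX hδ hn in
/-- A triple product is the alternating sum of the intersection numbers with the `Tor` modules. -/
theorem triple_formula (a b c x : X) (ha : a ⤳ x) (hb : b ⤳ x) (hc : c ⤳ x)
    (hx : δ x = δ a + δ b + δ c - 2 * n)
    (hbc : IntMult.IntersectProperly δ n (single b) (single c))
    (h3 : ∀ ζ : X, a ⤳ ζ → b ⤳ ζ → c ⤳ ζ → δ ζ ≤ δ a + δ b + δ c - 2 * n) :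
    IntMult.interProd δ n (single a) (IntMult.interProd δ n (single b) (single c)) x =
      ∑ᶠ q : ℕ, (-1 : ℤ) ^ q * IntMult.chi (X.presheaf.stalk x) (↑(X.presheaf.stalk x) ⧸ (primeOf ha).asIdeal)
        (DRing.Tor (X.presheaf.stalk x) q (↑(X.presheaf.stalk x) ⧸ (primeOf hb).asIdeal)
          (↑(X.presheaf.stalk x) ⧸ (primeOf hc).asIdeal)) := by
  classical
  haveI := hX.1
  let A := X.presheaf.stalk x
  haveI : IsRegularLocalRing A := WeilExtLib.isRegular_stalk_smooth f x
  let Pa := primeOf ha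
  let Pb := primeOf hb
  let Pc := primeOf hc
  let k := δ b + δ c - n
  let I₀ := Pb.asIdeal ⊔ Pc.asIdeal
  have hsp : ∀ {v : X} (h : v ⤳ x) (Q : PrimeSpectrum A), (primeOf h).asIdeal ≤ Q.asIdeal ↔ v ⤳ stalkPt x Q := by
    intro v h Q
    constructor
    · intro hle
      have := EquidimLib.specializes_stalkPt (x := x) (show primeOf h ≤ Q from hle)
      rwa [stalkPt_primeOf] at this
    · intro hs
      exact EquidimLib.le_of_stalkPt (show stalkPt x (primeOf h) ⤳ stalkPt x Q by rwa [stalkPt_primeOf])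
  have hlt : ∀ {v w : X}, v ⤳ w → v ≠ w → δ w < δ v := fun h hne => (hX.2.2 _ _ h hne).1
  have hk : ∀ Q : PrimeSpectrum A, I₀ ≤ Q.asIdeal → δ (stalkPt x Q) ≤ k := fun Q hQ =>
    hbc b c _ (by rw [single_self]; exact one_ne_zero) (by rw [single_self]; exact one_ne_zero)
      ((hsp hb Q).1 (le_sup_left.trans hQ)) ((hsp hc Q).1 (le_sup_right.trans hQ))
  have hmin : ∀ P : PrimeSpectrum A, δ (stalkPt x P) = k →
      ∀ Q : PrimeSpectrum A, I₀ ≤ Q.asIdeal → Q.asIdeal ≤ P.asIdeal → Q = P := fun P hP Q hQ hQP => by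
    by_contra hne
    have := hlt (EquidimLib.specializes_stalkPt (x := x) (show Q ≤ P from hQP)) fun e => hne (EquidimLib.stalkPt_injective x e)
    have := hk Q hQ
    omega
  have hfin : {P : PrimeSpectrum A | I₀ ≤ P.asIdeal ∧ δ (stalkPt x P) = k}.Finite := by
    refine ((I₀.finite_minimalPrimes_of_isNoetherianRing A).preimage (f := PrimeSpectrum.asIdeal)
      (fun _ _ _ _ e => PrimeSpectrum.ext e)).subset fun P hP => ?_
    exact ⟨⟨P.isPrime, hP.1⟩, fun q hq hqP => (congrArg PrimeSpectrum.asIdeal (hmin P hP.2 ⟨q, hq.1⟩ hq.2 hqP)).ge⟩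
  let T := hfin.toFinset
  have hT : ∀ P, P ∈ T ↔ I₀ ≤ P.asIdeal ∧ δ (stalkPt x P) = k := fun P => Set.Finite.mem_toFinset _
  have hone : ∀ ω : X, a ⤳ ω → b ⤳ ω → c ⤳ ω → ω ⤳ x → ω = x := fun ω h1 h2 h4 h5 => by
    by_contra hne
    have := hlt h5 hne
    have := h3 ω h1 h2 h4
    omega
  have hmeet : ∀ p : PrimeSpectrum A, I₀ ⊔ Module.annihilator A (↑A ⧸ Pa.asIdeal) ≤ p.asIdeal → p.asIdeal.IsMaximal := by
    intro p hp
    rw [Ideal.annihilator_quotient] at hp
    have e := hone _ ((hsp ha p).1 (le_sup_right.trans hp)) ((hsp hb p).1 (le_sup_left.trans (le_sup_left.trans hp)))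
      ((hsp hc p).1 (le_sup_right.trans (le_sup_left.trans hp))) (EquidimLib.stalkPt_specializes x p)
    obtain rfl : p = IsLocalRing.closedPoint A :=
      EquidimLib.stalkPt_injective x (e.trans Scheme.fromSpecStalk_closedPoint.symm)
    exact IsLocalRing.maximalIdeal.isMaximal _
  have hvan : ∀ Q : PrimeSpectrum A, I₀ ≤ Q.asIdeal → Q ∉ T →
      IntMult.chi A (↑A ⧸ Q.asIdeal) (↑A ⧸ Pa.asIdeal) = 0 := by
    intro Q hQ hQT
    refine chi_primes_eq_zero f δ hδ n hn Q Pa (fun ω h1 h2 h4 => ?_) ?_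
    · rw [stalkPt_primeOf] at h2
      exact hone ω h2 (((hsp hb Q).1 (le_sup_left.trans hQ)).trans h1) (((hsp hc Q).1 (le_sup_right.trans hQ)).trans h1) h4
    · have h5 : δ (stalkPt x Q) ≠ k := fun h => hQT ((hT Q).2 ⟨hQ, h⟩)
      have := hk Q hQ
      rw [stalkPt_primeOf]
      omega
  let Tq := fun q : ℕ => DRing.Tor A q (↑A ⧸ Pb.asIdeal) (↑A ⧸ Pc.asIdeal)
  haveI hTfin : ∀ q, Module.Finite A (Tq q) := fun q => IntMultRegLib.finite_tor (R := A) _ q _
  have hchi : ∀ q, IntMult.chi A (↑A ⧸ Pa.asIdeal) (Tq q) =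
      ∑ Q ∈ T, ((IntMultRegLib.lenAt Q (Tq q)).toNat : ℤ) * IntMult.chi A (↑A ⧸ Q.asIdeal) (↑A ⧸ Pa.asIdeal) := by
    intro q
    rw [IntMultRegLib.chi_comm]
    refine IntMultRegLib.chi_eq_sum (↑A ⧸ Pa.asIdeal) I₀ hmeet T (fun P hP => hmin P ((hT P).1 hP).2) hvan (Tq q)
      fun p hp => ?_
    have := (IntMultRegLib.tor_killed (R := A) (↑A ⧸ Pb.asIdeal) (↑A ⧸ Pc.asIdeal) q).trans hp
    rwa [Ideal.annihilator_quotient, Ideal.annihilator_quotient] at this
  -- the multiplicity at a component, through localization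
  have hmult : ∀ Q ∈ T, IntMult.mult (IntMult.ptIdeal b) (IntMult.ptIdeal c) (stalkPt x Q) =
      ∑ᶠ q : ℕ, (-1 : ℤ) ^ q * ((IntMultRegLib.lenAt Q (Tq q)).toNat : ℤ) := by
    intro Q hQ
    let τ := stalkPt x Q
    have hτ : τ ⤳ x := EquidimLib.stalkPt_specializes x Q
    let L := X.presheaf.stalk τ
    letI : Algebra A L := (X.presheaf.stalkSpecializes hτ).hom.toAlgebra
    haveI : IsLocalization.AtPrime L Q.asIdeal := by
      have h := CycDivLib.isLocalization_stalkSpecializes hτ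
      rwa [primeOf_stalkPt] at h
    haveI : Module.Flat A L := IsLocalization.flat L Q.asIdeal.primeCompl
    have hid : ∀ {v : X} (hv : v ⤳ x), (primeOf hv).asIdeal.map (algebraMap A L) =
        IntMult.stalkIdeal (IntMult.ptIdeal v) τ := fun hv => by
      rw [stalkIdeal_specializes _ hτ, stalkIdeal_ptIdeal hv]
      rfl
    let e : ∀ {v : X} (hv : v ⤳ x), (↑L ⧸ IntMult.stalkIdeal (IntMult.ptIdeal v) τ) ≃ₗ[L] L ⊗[A] (↑A ⧸ (primeOf hv).asIdeal) :=
      fun hv => (Submodule.quotEquivOfEq _ _ (hid hv).symm).trans (Ideal.qoutMapEquivTensorQout L)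
    rw [IntMult.mult, IntMultRegLib.chi_comm, chi_congr₂ (e hb) (e hc), IntMult.chi]
    refine finsum_congr fun q => ?_
    obtain ⟨e'⟩ := IntMultRegLib.nonempty_tor_baseChange (A := A) L (↑A ⧸ Pc.asIdeal) q (↑A ⧸ Pb.asIdeal)
    rw [← e'.length_eq, length_localized Q]
  -- finiteness of the range of degrees
  let D := (IsLocalRing.maximalIdeal A).spanFinrank + 1
  have hTzero : ∀ q, D ≤ q → Subsingleton (Tq q) := fun q hq =>
    IntMultRegLib.subsingleton_tor_regular (R := A) _ _ q (by omega)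
  have hlen0 : ∀ q, D ≤ q → ∀ Q, IntMultRegLib.lenAt Q (Tq q) = 0 := fun q hq Q => by
    haveI := hTzero q hq
    have h1 : (1 : A) ∈ Module.annihilator A (Tq q) :=
      Module.mem_annihilator.2 fun y => Subsingleton.elim (α := Tq q) _ _
    exact IntMultRegLib.lenAt_eq_zero_of_not_le Q _ fun hle => Q.isPrime.ne_top ((Ideal.eq_top_iff_one _).2 (hle h1))
  -- the left side
  let S := T.image (stalkPt x)
  have hS : ∀ v, v ⤳ x → IntMult.interProd δ n (single b) (single c) v ≠ 0 → v ∈ S := by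
    intro v hv h
    rw [interProd_single] at h
    obtain ⟨h5, h6, h7⟩ := Set.mem_of_indicator_ne_zero h
    obtain ⟨P, rfl⟩ := EquidimLib.exists_stalkPt hv
    exact Finset.mem_image_of_mem _ ((hT P).2 ⟨sup_le ((hsp hb P).2 h5) ((hsp hc P).2 h6), by simp only at h7; omega⟩)
  rw [interProd_eq_sum δ n (single a) (IntMult.interProd δ n (single b) (single c)) x {a} S
    (fun v _ h => Finset.mem_singleton.2 (not_not.1 fun h' => h (single_ne _ _ h'))) hS, Finset.sum_product,
    Finset.sum_singleton, Finset.sum_image fun _ _ _ _ e => EquidimLib.stalkPt_injective x e]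
  rw [finsum_eq_sum_of_support_subset _ (s := Finset.range D) (fun q hq => ?_)]
  · have hR : ∀ q ∈ Finset.range D, (-1 : ℤ) ^ q * IntMult.chi A (↑A ⧸ Pa.asIdeal) (Tq q) =
        ∑ Q ∈ T, (-1 : ℤ) ^ q * (((IntMultRegLib.lenAt Q (Tq q)).toNat : ℤ) *
          IntMult.chi A (↑A ⧸ Q.asIdeal) (↑A ⧸ Pa.asIdeal)) := fun q _ => by rw [hchi q, Finset.mul_sum]
    refine Eq.trans ?_ ((Finset.sum_congr rfl hR).trans Finset.sum_comm).symm
    refine Finset.sum_congr rfl fun Q hQ => ?_
    obtain ⟨hQ1, hQ2⟩ := (hT Q).1 hQ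
    rw [Set.indicator_of_mem (show (a, stalkPt x Q) ∈ {p : X × X | p.1 ⤳ x ∧ p.2 ⤳ x ∧ δ p.1 + δ p.2 - n = δ x} from
      ⟨ha, EquidimLib.stalkPt_specializes x Q, by show δ a + δ (stalkPt x Q) - n = δ x; omega⟩), single_self, one_mul,
      interProd_single, Set.indicator_of_mem (show (b, c) ∈ {p : X × X | p.1 ⤳ stalkPt x Q ∧ p.2 ⤳ stalkPt x Q ∧
        δ p.1 + δ p.2 - n = δ (stalkPt x Q)} from
      ⟨(hsp hb Q).1 (le_sup_left.trans hQ1), (hsp hc Q).1 (le_sup_right.trans hQ1), hQ2.symm⟩)]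
    show IntMult.mult (IntMult.ptIdeal b) (IntMult.ptIdeal c) (stalkPt x Q) *
      IntMult.mult (IntMult.ptIdeal a) (IntMult.ptIdeal (stalkPt x Q)) x = _
    rw [hmult Q hQ, finsum_eq_sum_of_support_subset _ (s := Finset.range D) (fun q hq => ?_), Finset.sum_mul,
      IntMult.mult, stalkIdeal_ptIdeal ha, stalkIdeal_ptIdeal (EquidimLib.stalkPt_specializes x Q), primeOf_stalkPt]
    · exact Finset.sum_congr rfl fun q _ => mul_assoc _ _ _
    · rw [Finset.coe_range, Set.mem_Iio]
      by_contra hlt'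
      exact hq (by simp [hlen0 q (by omega) Q])
  · rw [Finset.coe_range, Set.mem_Iio]
    by_contra hlt'
    refine hq ?_
    show (-1 : ℤ) ^ q * IntMult.chi A (↑A ⧸ Pa.asIdeal) (Tq q) = 0
    rw [hchi q, Finset.sum_eq_zero fun Q _ => by rw [hlen0 q (by omega) Q]; simp, mul_zero]

include f hX hδ hn in
/-- Associativity for three prime cycles. -/
theorem interProd_assoc_single (a b c : X) (hab : IntMult.IntersectProperly δ n (single a) (single b))
    (hbc : IntMult.IntersectProperly δ n (single b) (single c))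
    (h3 : ∀ ζ : X, a ⤳ ζ → b ⤳ ζ → c ⤳ ζ → δ ζ ≤ δ a + δ b + δ c - 2 * n) :
    IntMult.interProd δ n (single a) (IntMult.interProd δ n (single b) (single c)) =
      IntMult.interProd δ n (IntMult.interProd δ n (single a) (single b)) (single c) := by
  funext x
  haveI := hX.1
  rw [interProd_comm δ n (IntMult.interProd δ n (single a) (single b)) (single c)]
  by_cases h : a ⤳ x ∧ b ⤳ x ∧ c ⤳ x ∧ δ x = δ a + δ b + δ c - 2 * n
  swap
  · have h1 : IntMult.interProd δ n (single a) (IntMult.interProd δ n (single b) (single c)) x = 0 :=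
      not_not.1 fun h' => h (support_triple δ n h')
    have h2 : IntMult.interProd δ n (single c) (IntMult.interProd δ n (single a) (single b)) x = 0 :=
      not_not.1 fun h' => h (by
        obtain ⟨k1, k2, k3, k4⟩ := support_triple δ n h'
        exact ⟨k2, k3, k1, by omega⟩)
    rw [h1, h2]
  obtain ⟨ha, hb, hc, hx⟩ := h
  rw [triple_formula f δ hX hδ n hn a b c x ha hb hc hx hbc h3,
    triple_formula f δ hX hδ n hn c a b x hc ha hb (by omega) hab (fun ζ k1 k2 k3 => by
      have := h3 ζ k2 k3 k1; omega)]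
  haveI : IsRegularLocalRing (X.presheaf.stalk x) := WeilExtLib.isRegular_stalk_smooth f x
  have hI : IntMult.stalkIdeal (IntMult.ptIdeal a) x = (primeOf ha).asIdeal := stalkIdeal_ptIdeal ha
  have key := assoc_stalk f x (IntMult.ptIdeal a) (↑(X.presheaf.stalk x) ⧸ (primeOf hb).asIdeal)
    (↑(X.presheaf.stalk x) ⧸ (primeOf hc).asIdeal) fun p hp => by
      rw [hI, Ideal.annihilator_quotient, Ideal.annihilator_quotient] at hp
      have hsp : ∀ {v : X} (h : v ⤳ x), (primeOf h).asIdeal ≤ p.asIdeal → v ⤳ stalkPt x p := fun h hle => by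
        have := EquidimLib.specializes_stalkPt (x := x) (show primeOf h ≤ p from hle)
        rwa [stalkPt_primeOf] at this
      have k1 := hsp ha (le_sup_left.trans hp)
      have k2 := hsp hb ((le_sup_left.trans le_sup_right).trans hp)
      have k3 := hsp hc ((le_sup_right.trans le_sup_right).trans hp)
      have e : stalkPt x p = x := by
        by_contra hne
        have := (hX.2.2 _ _ (EquidimLib.stalkPt_specializes x p) hne).1
        have := h3 _ k1 k2 k3
        omega
      obtain rfl : p = IsLocalRing.closedPoint (X.presheaf.stalk x) :=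
        EquidimLib.stalkPt_injective x (e.trans Scheme.fromSpecStalk_closedPoint.symm)
      exact IsLocalRing.maximalIdeal.isMaximal _
  rw [hI] at key
  rw [key]
  exact finsum_congr fun q => by rw [IntMultRegLib.chi_comm]

end DiagTorLib
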