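import Groth.Agent.IntMultRegLib.Geom
import Groth.Agent.DimIneqLib.Fibre
import Groth.Agent.SmoothDimLib.Chart
import Groth.Agent.QSecLib.Scheme
import Groth.Agent.FibDimLib.Comps
import Groth.Agent.FibDimLib.SchemeInv
import Mathlib.RingTheory.Ideal.KrullsHeightTheorem

/-!
# Dimension of the points cut out by a regular immersion
-/

set_option autoImplicit false
set_option backward.isDefEq.respectTransparency false
set_option backward.isDefEq.respectTransparency.types false
set_option linter.style.haveILetI false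

universe u

open CategoryTheory CategoryTheory.Limits AlgebraicGeometry TopologicalSpace Topology

noncomputable section

namespace DiagTorLib

theorem ringKrullDim_le_length {O : Type u} [CommRing O] [IsLocalRing O] [IsNoetherianRing O] (l : List O)
    (hl : ∀ a ∈ l, a ∈ IsLocalRing.maximalIdeal O)
    (h : ∀ p : PrimeSpectrum O, (∀ a ∈ l, a ∈ p.asIdeal) → p.asIdeal = IsLocalRing.maximalIdeal O) :
    ringKrullDim O ≤ l.length := by
  classical
  have hm : IsLocalRing.maximalIdeal O ∈ (Ideal.span (l.toFinset : Set O)).minimalPrimes :=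
    ⟨⟨(IsLocalRing.maximalIdeal.isMaximal O).isPrime, Ideal.span_le.2 fun a ha => hl a (List.mem_toFinset.1 ha)⟩,
      fun q hq hle => (h ⟨q, hq.1⟩ fun a ha => hq.2 (Ideal.subset_span (List.mem_toFinset.2 ha))).ge⟩
  rw [← IsLocalRing.maximalIdeal_height_eq_ringKrullDim]
  have h1 : (IsLocalRing.maximalIdeal O).height ≤ (l.length : ℕ∞) :=
    le_trans (Ideal.height_le_card_of_mem_minimalPrimes_span_finset hm)
      (by exact_mod_cast List.toFinset_card_le l)
  exact_mod_cast h1

/-- A point maximal among those sent into the range of a map cut out by `c` equations has codimension at most `c`. -/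
theorem stalk_dim_le_of_max {P Y Z : Scheme.{u}} [IsLocallyNoetherian Z] (f : P ⟶ Y) (ι : Z ⟶ Y) (z : Z) (x : P)
    (hzx : ι z = f x) (U : Y.affineOpens) (hxU : f x ∈ U.1) (hcl : IsClosedImmersion (f ∣_ U.1)) (rs : List Γ(Y, U.1))
    (hker : RingHom.ker (f.app U.1).hom = Ideal.ofList rs)
    (hmax : ∀ z' : Z, z' ⤳ z → ι z' ∈ Set.range f → z' = z) :
    ringKrullDim (Z.presheaf.stalk z) ≤ rs.length := by
  obtain ⟨U, hU⟩ := U
  obtain ⟨hV, hs⟩ := (KRLib.isClosedImmersion_restrict_iff f hU).1 hcl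
  have hrange : ∀ v : Y, ∀ hv : v ∈ U, RingHom.ker (f.app U).hom ≤ (hU.primeIdealOf ⟨v, hv⟩).asIdeal →
      v ∈ Set.range f := by
    intro v hv hle
    obtain ⟨q, hq⟩ : hU.primeIdealOf ⟨v, hv⟩ ∈ Set.range (PrimeSpectrum.comap (f.app U).hom) := by
      rw [range_comap_of_surjective _ _ hs]; exact hle
    refine ⟨hV.fromSpec q, ?_⟩
    calc f (hV.fromSpec q) = (hV.fromSpec ≫ f) q := rfl
      _ = (Spec.map (f.appLE U (f ⁻¹ᵁ U) le_rfl) ≫ hU.fromSpec) q := by
          rw [IsAffineOpen.SpecMap_appLE_fromSpec f hU hV le_rfl]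
      _ = hU.fromSpec (PrimeSpectrum.comap (f.app U).hom q) := by rw [← Scheme.Hom.app_eq_appLE]; rfl
      _ = v := by rw [hq, hU.fromSpec_primeIdealOf]
  have hzU : ι z ∈ U := hzx ▸ hxU
  obtain ⟨W, hW, hzW, hWU⟩ := exists_isAffineOpen_mem_and_subset (x := z) (U := ι ⁻¹ᵁ U) hzU
  have hWU : W ≤ ι ⁻¹ᵁ U := hWU
  let a : Γ(Y, U) → Z.presheaf.stalk z := fun r => (Z.presheaf.germ W z hzW).hom ((ι.appLE U W hWU).hom r)
  have key : ∀ (p : PrimeSpectrum (Z.presheaf.stalk z)),
      (∀ r ∈ rs, a r ∈ p.asIdeal) ↔ ι (EquidimLib.stalkPt z p) ∈ Set.range f := by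
    intro p
    have hy : EquidimLib.stalkPt z p ∈ W := (EquidimLib.stalkPt_specializes z p).mem_open W.2 hzW
    have hprm : (hW.primeIdealOf ⟨EquidimLib.stalkPt z p, hy⟩).asIdeal =
        Ideal.comap (Z.presheaf.germ W z hzW).hom p.asIdeal := by
      refine congrArg PrimeSpectrum.asIdeal (a₂ := PrimeSpectrum.comap (Z.presheaf.germ W z hzW).hom p)
        (hW.fromSpec.isOpenEmbedding.injective ?_)
      rw [hW.fromSpec_primeIdealOf]
      show (Z.fromSpecStalk z).base p = _
      rw [← hW.fromSpecStalk_eq_fromSpecStalk hzW, IsAffineOpen.fromSpecStalk]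
      rfl
    have hcomap := IsAffineOpen.comap_primeIdealOf_appLE (f := ι) U hU W hW hWU hy
    have hiff : ∀ r, a r ∈ p.asIdeal ↔ r ∈ (hU.primeIdealOf ⟨ι (EquidimLib.stalkPt z p), hWU hy⟩).asIdeal := fun r => by
      rw [← hcomap]
      show _ ↔ (ι.appLE U W hWU).hom r ∈ (hW.primeIdealOf ⟨EquidimLib.stalkPt z p, hy⟩).asIdeal
      rw [hprm]
      rfl
    constructor
    · intro h
      refine hrange _ (hWU hy) ?_
      rw [hker]
      exact Ideal.span_le.2 fun r hr => (hiff r).1 (h r hr)
    · rintro ⟨x', hx'⟩ r hr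
      refine (hiff r).2 ?_
      have hx'U : f x' ∈ U := hx' ▸ hWU hy
      have h2 : r ∈ (hU.primeIdealOf ⟨f x', hx'U⟩).asIdeal :=
        (RegImmKindLib.ker_stalkMap f hU hV hs x' hx'U).2 (hker ▸ Ideal.subset_span hr)
      have e : (⟨f x', hx'U⟩ : U) = ⟨ι (EquidimLib.stalkPt z p), hWU hy⟩ := Subtype.ext hx'
      rwa [e] at h2
  have hcp : ι (EquidimLib.stalkPt z (IsLocalRing.closedPoint (Z.presheaf.stalk z))) ∈ Set.range f := by
    rw [show EquidimLib.stalkPt z (IsLocalRing.closedPoint (Z.presheaf.stalk z)) = z from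
      Scheme.fromSpecStalk_closedPoint]
    exact ⟨x, hzx.symm⟩
  have h := ringKrullDim_le_length (rs.map a)
    (fun b hb => by obtain ⟨r, hr, rfl⟩ := List.mem_map.1 hb; exact (key _).2 hcp r hr)
    (fun p hp => by
      obtain rfl : p = IsLocalRing.closedPoint (Z.presheaf.stalk z) := EquidimLib.stalkPt_injective z
        ((hmax _ (EquidimLib.stalkPt_specializes z p)
          ((key p).1 fun r hr => hp _ (List.mem_map.2 ⟨r, hr, rfl⟩))).trans Scheme.fromSpecStalk_closedPoint.symm)
      rfl)
  simpa using h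

/-- An immersion does not change dimensions of closures of points. -/
theorem fibreClosureDim_comp_immersion {W Z S : Scheme.{u}} (i : W ⟶ Z) [IsImmersion i] (g : Z ⟶ S)
    [LocallyOfFiniteType g] (w : W) : UOpenLib.fibreClosureDim (i ≫ g) w = UOpenLib.fibreClosureDim g (i w) := by
  rw [DimIneqLib.fibreClosureDim_eq_trH, DimIneqLib.fibreClosureDim_eq_trH, Scheme.residueFieldMap_comp,
    CommRingCat.hom_comp, DimIneqLib.trH_comp, DimIneqLib.trH_of_bijective (i.residueFieldMap w).hom
      ⟨RingHom.injective _, ?_⟩, add_zero]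
  intro b
  obtain ⟨b', rfl⟩ := W.residue_surjective w b
  obtain ⟨a, rfl⟩ := i.stalkMap_surjective w b'
  exact ⟨Z.residue (i w) a, congrArg (fun φ : Z.presheaf.stalk (i w) ⟶ W.residueField w => φ a)
    (Scheme.residue_residueFieldMap i w)⟩

variable {K : Type u} [Field K] {X : Scheme.{u}} (f : X ⟶ Spec (CommRingCat.of K))

/-- The diagonal of a smooth variety over any field. -/
theorem regularOfCodim_diagonal [Smooth f] [IsSeparated f] [IsIntegral X] (n : ℕ) (hn : topologicalKrullDim X = n) :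
    RegImm.IsRegularImmersionOfCodim RegImm.Kind.regular n (pullback.diagonal f) := by
  haveI : IsOpenImmersion (pullback.diagonal f ≫ pullback.snd f f) := by
    rw [pullback.diagonal_snd]
    infer_instance
  refine QSecLib.regularOfCodim_of_smooth (pullback.snd f f) (pullback.diagonal f) n fun z => ?_
  rw [FibDimLib.fibreDimAt_baseChange (IsPullback.of_hasPullback f f),
    show (pullback.fst f f).base ((pullback.diagonal f) z) = z from by
      show (pullback.diagonal f ≫ pullback.fst f f).base z = z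
      rw [pullback.diagonal_fst]
      rfl,
    SmoothDimLib.fibreDimAt_eq_localDim f z, FibDimLib.localDim_of_irreducible f z, hn]

end DiagTorLib
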