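import Groth.Agent.DiagTorLib.AssocAlg

/-!
# Associativity of the intersection number at a point
-/

set_option autoImplicit false
set_option backward.isDefEq.respectTransparency false
set_option backward.isDefEq.respectTransparency.types false
set_option linter.style.haveILetI false

universe u

open TensorProduct

noncomputable section

namespace DiagTorLib

open Groth.Agent.KoszChiLib (H Idl)

theorem chi_congr₂ {R : Type u} [CommRing R] {M M' N N' : Type u} [AddCommGroup M] [Module R M] [AddCommGroup M']
    [Module R M'] [AddCommGroup N] [Module R N] [AddCommGroup N'] [Module R N'] (e : M ≃ₗ[R] M') (e' : N ≃ₗ[R] N') :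
    IntMult.chi R M N = IntMult.chi R M' N' :=
  finsum_congr fun i => by
    obtain ⟨g⟩ := nonempty_tor_congr e e' i
    rw [g.length_eq]

variable {A B : Type u} [CommRing A] [CommRing B] [Algebra A B] [Algebra B A] [IsScalarTower A B A]
variable [IsLocalRing A] [IsNoetherianRing A] [IsRegularLocalRing A]
variable [IsLocalRing B] [IsNoetherianRing B] [IsRegularLocalRing B] [Module.Flat A B]
variable (U V W : Type u) [AddCommGroup U] [Module A U] [Module.Finite A U] [AddCommGroup V] [Module A V] [Module.Finite A V]
  [AddCommGroup W] [Module A W] [Module.Finite A W]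
variable (Q : Type u) [AddCommGroup Q] [Module A Q] [Module B Q] [IsScalarTower A B Q] [Module.Finite B Q] [Module.Flat A Q]

theorem assoc_local (hQ : ∀ (P : Type u) [AddCommGroup P] [Module B P] [Module.Flat B P], ∀ i : ℕ, 0 < i →
      Subsingleton (DRing.Tor B i (P ⊗[B] Q) A))
    (eU : (A ⊗[B] Q) ≃ₗ[A] U) (g : List B) (hg : RingTheory.Sequence.IsRegular B g)
    (hker : Idl g = RingHom.ker (algebraMap B A))
    (h3 : ∀ p : PrimeSpectrum A, Module.annihilator A U ⊔ (Module.annihilator A V ⊔ Module.annihilator A W) ≤ p.asIdeal →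
      p.asIdeal.IsMaximal) :
    ∑ᶠ q : ℕ, (-1 : ℤ) ^ q * IntMult.chi A U (DRing.Tor A q V W) =
      ∑ᶠ p : ℕ, (-1 : ℤ) ^ p * IntMult.chi A (DRing.Tor A p U V) W := by
  have hs : Function.Surjective (algebraMap B A) := fun a => ⟨algebraMap A B a, by
    rw [← IsScalarTower.algebraMap_apply A B A]; rfl⟩
  have hl : LCI.IsKoszulRegularSeq B g := KoszTorLib.koszulRegular_of_regular g hg
  have hk : LinearMap.ker (Algebra.linearMap B A) = Idl g := hker.symm
  let e₃ : (B ⧸ Idl g) ≃ₗ[B] A :=
    (Submodule.quotEquivOfEq _ _ hk.symm).trans (LinearMap.quotKerEquivOfSurjective (Algebra.linearMap B A) hs)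
  let M := Q ⊗[A] V
  let N := B ⊗[A] W
  haveI : Module.Finite B (Q ⊗[A] V) := Module.Finite.equiv (AlgebraTensorModule.cancelBaseChange A B B Q V)
  haveI : Module.Finite B M := ‹Module.Finite B (Q ⊗[A] V)›
  -- the multiplicity against `U`, upstairs
  have hU : ∀ (T : Type u) [AddCommGroup T] [Module A T],
      Groth.Agent.KoszChiLib.chi g (ModuleCat.of B (Q ⊗[A] T)) = IntMult.chi A U T := by
    intro T _ _
    rw [← KoszTorLib.chi_eq g hl (Q ⊗[A] T), chi_congr₂ e₃ (AlgebraTensorModule.cancelBaseChange A B B Q T).symm,
      IntMultRegLib.chi_comm, IntMultRegLib.chi_comm (R := A) U T]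
    refine finsum_congr fun i => ?_
    obtain ⟨e⟩ := nonempty_tor_congr (R := A) (M := T) (M' := T) (LinearEquiv.refl A T) eU i
    rw [(semi_tor_of_flat (A := A) (B := B) Q hQ i T).length_eq hs, e.length_eq]
  -- the meeting condition upstairs
  have hgood : Good (R := B) N g M := by
    intro p hp
    have hp1 : RingHom.ker (algebraMap B A) ≤ p.asIdeal := hker ▸ le_sup_left.trans hp
    have hp2 : Module.annihilator B M ≤ p.asIdeal := (le_sup_left.trans le_sup_right).trans hp
    have hp3 : Module.annihilator B N ≤ p.asIdeal := (le_sup_right.trans le_sup_right).trans hp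
    haveI : (p.asIdeal.map (algebraMap B A)).IsPrime := Ideal.map_isPrime_of_surjective hs hp1
    have hmem : ∀ a : A, algebraMap A B a ∈ p.asIdeal → a ∈ p.asIdeal.map (algebraMap B A) := fun a ha => by
      have := Ideal.mem_map_of_mem (algebraMap B A) ha
      rwa [← IsScalarTower.algebraMap_apply A B A] at this
    have hm : (p.asIdeal.map (algebraMap B A)).IsMaximal := by
      refine h3 ⟨p.asIdeal.map (algebraMap B A), ‹_›⟩ (sup_le (fun a ha => hmem a ?_) (sup_le (fun a ha => hmem a (hp2 ?_)) (fun a ha => hmem a (hp3 ?_))))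
      · have h1 : p ∈ Module.support B Q := Module.mem_support_iff_of_finite.2 (le_trans (fun b hb =>
          Module.mem_annihilator.2 fun z => by
            induction z using TensorProduct.induction_on with
            | zero => exact smul_zero b
            | add x y hx hy => rw [smul_add, hx, hy, add_zero]
            | tmul q v => rw [TensorProduct.smul_tmul', Module.mem_annihilator.1 hb, TensorProduct.zero_tmul]) hp2)
        have h2 : p ∈ Module.support B (Q ⧸ (Idl g) • (⊤ : Submodule B Q)) := by
          rw [Module.support_quotient]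
          exact ⟨h1, (PrimeSpectrum.mem_zeroLocus _ _).2 (SetLike.coe_subset_coe.2 (le_sup_left.trans hp))⟩
        let e : (Q ⧸ (Idl g) • (⊤ : Submodule B Q)) ≃ₗ[B] A ⊗[B] Q :=
          (TensorProduct.quotTensorEquivQuotSMul Q (Idl g)).symm.trans (TensorProduct.congr e₃ (LinearEquiv.refl B Q))
        refine Module.mem_support_iff_of_finite.1 h2 ?_
        rw [e.annihilator_eq]
        refine Module.mem_annihilator.2 fun z => ?_
        rw [algebraMap_smul]
        exact eU.injective (by rw [map_smul, Module.mem_annihilator.1 ha, map_zero])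
      · refine Module.mem_annihilator.2 fun z => ?_
        rw [algebraMap_smul]
        induction z using TensorProduct.induction_on with
        | zero => exact smul_zero a
        | add x y hx hy => rw [smul_add, hx, hy, add_zero]
        | tmul q v => rw [← TensorProduct.tmul_smul, Module.mem_annihilator.1 ha, TensorProduct.tmul_zero]
      · refine Module.mem_annihilator.2 fun z => ?_
        rw [algebraMap_smul]
        induction z using TensorProduct.induction_on with
        | zero => exact smul_zero a
        | add x y hx hy => rw [smul_add, hx, hy, add_zero]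
        | tmul q v => rw [← TensorProduct.tmul_smul, Module.mem_annihilator.1 ha, TensorProduct.tmul_zero]
    have h := Ideal.comap_isMaximal_of_surjective (algebraMap B A) hs (K := p.asIdeal.map (algebraMap B A))
    rwa [Ideal.comap_map_of_surjective _ hs, ← RingHom.ker_eq_comap_bot, sup_eq_left.2 hp1] at h
  have hFG := FF_eq_GG (R := B) N g M hgood
  -- the first order
  have hF : FF (R := B) N g M = ∑ᶠ q : ℕ, (-1 : ℤ) ^ q * IntMult.chi A U (DRing.Tor A q V W) := by
    have e : ∀ q : ℕ, Groth.Agent.KoszChiLib.chi g (TP (R := B) N M q) = IntMult.chi A U (DRing.Tor A q V W) := by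
      intro q
      rw [← hU]
      obtain ⟨e1⟩ := nonempty_TP (R := B) N M q
      obtain ⟨e2⟩ := IntMultRegLib.nonempty_tor_comm (R := B) M N q
      obtain ⟨e3⟩ := nonempty_tor_extend (A := A) B Q V q W
      obtain ⟨e4⟩ := IntMultRegLib.nonempty_tor_comm (R := A) W V q
      exact Groth.Agent.KoszChiLib.chi_of_iso g ((e1.symm.trans (e2.trans (e3.symm.trans
        (AlgebraTensorModule.congr (LinearEquiv.refl B Q) e4)))).toModuleIso)
    rw [← finsum_congr fun q => congrArg ((-1 : ℤ) ^ q * ·) (e q)]
    refine (finsum_eq_sum_of_support_subset _ fun q hq => ?_).symm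
    rw [Finset.coe_range, Set.mem_Iio]
    by_contra hlt
    haveI := subsingleton_TP (R := B) N M q (by omega)
    exact hq (mul_eq_zero_of_right _ (Groth.Agent.KoszChiLib.chi_of_subsingleton _ _))
  -- the second order
  have hG : GG (R := B) N g M = ∑ᶠ p : ℕ, (-1 : ℤ) ^ p * IntMult.chi A (DRing.Tor A p U V) W := by
    have e : ∀ p : ℕ, IntMult.chi B (H g (ModuleCat.of B M) (-(p : ℤ))) N = IntMult.chi A (DRing.Tor A p U V) W := by
      intro p
      let P := DRing.Tor A p U V
      letI : Module B P := Module.compHom P (algebraMap B A)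
      haveI : IsScalarTower B A P := IsScalarTower.of_algebraMap_smul fun _ _ => rfl
      haveI : IsScalarTower A B P := IsScalarTower.of_algebraMap_smul fun a x => by
        show algebraMap B A (algebraMap A B a) • x = a • x
        rw [← IsScalarTower.algebraMap_apply A B A]
        rfl
      obtain ⟨k1⟩ := nonempty_tor_koszul g hl M p
      obtain ⟨k2⟩ := nonempty_tor_congr (R := B) e₃ (AlgebraTensorModule.cancelBaseChange A B B Q V).symm p
      obtain ⟨k3⟩ := IntMultRegLib.nonempty_tor_comm (R := B) A (Q ⊗[B] (B ⊗[A] V)) p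
      obtain ⟨k4⟩ := nonempty_tor_congr (R := A) (M := V) (M' := V) (LinearEquiv.refl A V) eU p
      obtain ⟨k5⟩ := IntMultRegLib.nonempty_tor_comm (R := A) V U p
      have hsemi : Semi B A (H g (ModuleCat.of B M) (-(p : ℤ))) P :=
        (semi_tor_of_flat (A := A) (B := B) Q hQ p V).congr ((k1.symm.trans k2).trans k3) (k4.trans k5)
      obtain ⟨c, hc⟩ := hsemi
      rw [chi_congr₂ (c.toLinearEquiv hc) (LinearEquiv.refl B N), IntMultRegLib.chi_comm,
        IntMultRegLib.chi_comm (R := A) (DRing.Tor A p U V) W]
      refine finsum_congr fun i => ?_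
      rw [(semi_tor_adjoint (A := A) (B := B) P i W).length_eq hs]
    rw [← finsum_congr fun p => congrArg ((-1 : ℤ) ^ p * ·) (e p)]
    refine (finsum_eq_sum_of_support_subset _ fun p hp => ?_).symm
    rw [Finset.coe_range, Set.mem_Iio]
    by_contra hlt
    haveI := Groth.Agent.KoszChiLib.H_eq_zero g (ModuleCat.of B M) (-(p : ℤ)) (Or.inr (by omega))
    refine hp (mul_eq_zero_of_right _ (finsum_eq_zero_of_forall_eq_zero fun i => ?_))
    haveI : Subsingleton (DRing.Tor B i (H g (ModuleCat.of B M) (-(p : ℤ))) N) := subsingleton_of_forall_eq 0 fun y => by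
      have h1 : (1 : B) ∈ Module.annihilator B (H g (ModuleCat.of B M) (-(p : ℤ))) :=
        Module.mem_annihilator.2 fun x => Subsingleton.elim _ _
      simpa using Module.mem_annihilator.1 (IntMultRegLib.tor_killed _ N i (Ideal.mem_sup_left h1)) y
    rw [Module.length_eq_zero]
    simp
  rw [← hF, ← hG, hFG]

end DiagTorLib
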