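import Groth.Agent.DiagTorLib.Semi
import Mathlib.RingTheory.TensorProduct.Quotient
import Mathlib.RingTheory.IsTensorProduct

/-!
# `Tor` over a retraction: reduction to the diagonal

For a retraction `π : B → A` of `ι : A → B` and a `B`-module `Q`,
`Tor^B(Q ⊗_B (B ⊗_A M), A) = Tor^A(M, A ⊗_B Q)` under flatness and acyclicity hypotheses.
-/

set_option autoImplicit false
set_option backward.isDefEq.respectTransparency false
set_option backward.isDefEq.respectTransparency.types false

universe u

open TensorProduct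

noncomputable section

namespace DiagTorLib

variable {A B : Type u} [CommRing A] [CommRing B] [Algebra A B] [Algebra B A] [IsScalarTower A B A]
variable (Q : Type u) [AddCommGroup Q] [Module B Q]

/-- The comparison in degree zero. -/
def t0 (M : Type u) [AddCommGroup M] [Module A M] :
    (Q ⊗[B] (B ⊗[A] M)) ⊗[B] A ≃+ M ⊗[A] (A ⊗[B] Q) :=
  ((TensorProduct.comm B (Q ⊗[B] (B ⊗[A] M)) A).trans
    ((TensorProduct.assoc B A Q (B ⊗[A] M)).symm.trans
      (AlgebraTensorModule.cancelBaseChange A B B (A ⊗[B] Q) M))).toAddEquiv.trans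
    (TensorProduct.comm A (A ⊗[B] Q) M).toAddEquiv

theorem t0_smul (M : Type u) [AddCommGroup M] [Module A M] (b : B) (x : (Q ⊗[B] (B ⊗[A] M)) ⊗[B] A) :
    t0 Q M (b • x) = algebraMap B A b • t0 Q M x := by
  let e := (TensorProduct.comm B (Q ⊗[B] (B ⊗[A] M)) A).trans
    ((TensorProduct.assoc B A Q (B ⊗[A] M)).symm.trans
      (AlgebraTensorModule.cancelBaseChange A B B (A ⊗[B] Q) M))
  show TensorProduct.comm A (A ⊗[B] Q) M (e (b • x)) = algebraMap B A b • TensorProduct.comm A (A ⊗[B] Q) M (e x)
  rw [e.map_smul, ← (TensorProduct.comm A (A ⊗[B] Q) M).map_smul, algebraMap_smul]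

theorem t0_tmul (M : Type u) [AddCommGroup M] [Module A M] (q : Q) (b : B) (m : M) (a : A) :
    t0 Q M ((q ⊗ₜ[B] (b ⊗ₜ[A] m)) ⊗ₜ[B] a) = m ⊗ₜ[A] (b • (a ⊗ₜ[B] q)) := by
  simp [t0]

theorem t0_natural {L M : Type u} [AddCommGroup L] [Module A L] [AddCommGroup M] [Module A M] (f : L →ₗ[A] M)
    (x : (Q ⊗[B] (B ⊗[A] L)) ⊗[B] A) :
    f.rTensor (A ⊗[B] Q) (t0 Q L x) = t0 Q M (((f.baseChange B).lTensor Q).rTensor A x) := by
  induction x using TensorProduct.induction_on with
  | zero => simp
  | add x y hx hy => simp only [map_add, hx, hy]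
  | tmul y a =>
    induction y using TensorProduct.induction_on with
    | zero => simp
    | add y z hy hz => simp only [TensorProduct.add_tmul, map_add, hy, hz]
    | tmul q w =>
      induction w using TensorProduct.induction_on with
      | zero => simp
      | add w z hw hz => simp only [TensorProduct.tmul_add, TensorProduct.add_tmul, map_add, hw, hz]
      | tmul b m =>
        rw [LinearMap.rTensor_tmul, LinearMap.lTensor_tmul, LinearMap.baseChange_tmul, t0_tmul, t0_tmul,
          LinearMap.rTensor_tmul]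

/-- Reduction to the diagonal, abstract form. -/
theorem semi_tor
    (hex : ∀ (L F : Type u) [AddCommGroup L] [Module A L] [AddCommGroup F] [Module A F] (f : L →ₗ[A] F),
      Function.Injective f → Function.Injective ((f.baseChange B).lTensor Q))
    (hfree : ∀ (F : Type u) [AddCommGroup F] [Module A F] [Module.Free A F], ∀ i : ℕ, 0 < i →
      Subsingleton (DRing.Tor B i (Q ⊗[B] (B ⊗[A] F)) A)) :
    ∀ (i : ℕ) (M : Type u) [AddCommGroup M] [Module A M],
      Semi B A (DRing.Tor B i (Q ⊗[B] (B ⊗[A] M)) A) (DRing.Tor A i M (A ⊗[B] Q)) := by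
  intro i
  induction i using Nat.strong_induction_on with
  | _ i ih =>
  intro M _ _
  rcases i with _ | i
  · obtain ⟨e⟩ := TorShiftLib.nonempty_tor_zero (R := B) (N := A) (Q ⊗[B] (B ⊗[A] M))
    obtain ⟨e'⟩ := TorShiftLib.nonempty_tor_zero (R := A) (N := A ⊗[B] Q) M
    have h : Semi B A ((Q ⊗[B] (B ⊗[A] M)) ⊗[B] A) (M ⊗[A] (A ⊗[B] Q)) := ⟨t0 Q M, t0_smul Q M⟩
    exact h.congr e e'.symm
  let π : (M →₀ A) →ₗ[A] M := Finsupp.linearCombination A id
  have hπ : Function.Surjective π := fun m => ⟨Finsupp.single m 1, by simp [π]⟩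
  obtain ⟨L, _, _, ι, hι, he⟩ : ∃ (L : Type u) (_ : AddCommGroup L) (_ : Module A L) (ι : L →ₗ[A] (M →₀ A)),
      Function.Injective ι ∧ Function.Exact ι π :=
    ⟨LinearMap.ker π, inferInstance, inferInstance, Submodule.subtype _, Submodule.subtype_injective _,
      LinearMap.exact_subtype_ker_map π⟩
  have hYi := hex L (M →₀ A) ι hι
  have hπB : Function.Surjective (π.baseChange B) := by
    rw [LinearMap.baseChange_eq_ltensor]; exact LinearMap.lTensor_surjective B hπ
  have heB : Function.Exact (ι.baseChange B) (π.baseChange B) := by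
    rw [LinearMap.baseChange_eq_ltensor, LinearMap.baseChange_eq_ltensor]; exact lTensor_exact B he hπ
  have hYs := LinearMap.lTensor_surjective Q hπB
  have hYe := lTensor_exact Q heB hπB
  have hv := hfree (M →₀ A)
  have hv' : ∀ j : ℕ, 0 < j → Subsingleton (DRing.Tor A j (M →₀ A) (A ⊗[B] Q)) :=
    fun j hj => subsingleton_tor_flat_left _ _ hj
  rcases i with _ | i
  · obtain ⟨e⟩ := nonempty_shift_one_of_vanish _ _ hYi hYs hYe A hv
    obtain ⟨e'⟩ := nonempty_shift_one_of_vanish ι π hι hπ he (A ⊗[B] Q) hv'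
    have h : Semi B A (LinearMap.ker (((ι.baseChange B).lTensor Q).rTensor A))
        (LinearMap.ker (ι.rTensor (A ⊗[B] Q))) :=
      Semi.ker (t0 Q _) (t0 Q _) (t0_smul Q _) (t0_natural Q ι)
    exact h.congr e e'.symm
  · obtain ⟨e⟩ := nonempty_shift_succ_of_vanish _ _ hYi hYs hYe A hv i
    obtain ⟨e'⟩ := nonempty_shift_succ_of_vanish ι π hι hπ he (A ⊗[B] Q) hv' i
    exact (ih (i + 1) (by omega) _).congr e e'.symm

/-- Against a flat factor the higher `Tor` vanish. -/
theorem subsingleton_tor_of_flat [Module.Flat A B] [Module.Flat B Q] (N : Type u) [AddCommGroup N] [Module A N]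
    {i : ℕ} (hi : 0 < i) : Subsingleton (DRing.Tor B i (Q ⊗[B] (B ⊗[A] N)) A) := by
  haveI := subsingleton_tor_flat_right N (A ⊗[B] Q) (R := A) hi
  refine (semi_tor Q (fun L F _ _ _ _ f hf => ?_) (fun F _ _ _ j hj => subsingleton_tor_flat_left _ _ hj) i N).subsingleton
  refine Module.Flat.lTensor_preserves_injective_linearMap _ ?_
  rw [LinearMap.baseChange_eq_ltensor]
  exact Module.Flat.lTensor_preserves_injective_linearMap _ hf

variable [Module A Q] [IsScalarTower A B Q]

/-- Reduction to the diagonal. -/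
theorem semi_tor_of_flat [Module.Flat A B] [Module.Flat A Q]
    (hQ : ∀ (P : Type u) [AddCommGroup P] [Module B P] [Module.Flat B P], ∀ i : ℕ, 0 < i →
      Subsingleton (DRing.Tor B i (P ⊗[B] Q) A)) (i : ℕ) (M : Type u) [AddCommGroup M] [Module A M] :
    Semi B A (DRing.Tor B i (Q ⊗[B] (B ⊗[A] M)) A) (DRing.Tor A i M (A ⊗[B] Q)) := by
  refine semi_tor Q (fun L F _ _ _ _ f hf => ?_) (fun F _ _ _ j hj => ?_) i M
  · have h := Module.Flat.lTensor_preserves_injective_linearMap (M := Q) f hf
    have hsq : ∀ x, AlgebraTensorModule.cancelBaseChange A B B Q F ((f.baseChange B).lTensor Q x) =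
        f.lTensor Q (AlgebraTensorModule.cancelBaseChange A B B Q L x) := by
      intro x
      induction x using TensorProduct.induction_on with
      | zero => simp
      | add x y hx hy => simp only [map_add, hx, hy]
      | tmul q w =>
        induction w using TensorProduct.induction_on with
        | zero => simp
        | add w z hw hz => simp only [TensorProduct.tmul_add, map_add, hw, hz]
        | tmul b m => simp
    intro x y hxy
    exact (AlgebraTensorModule.cancelBaseChange A B B Q L).injective (h (by rw [← hsq, ← hsq, hxy]))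
  · haveI := hQ (B ⊗[A] F) j hj
    obtain ⟨e⟩ := nonempty_tor_congr (R := B) (M := Q ⊗[B] (B ⊗[A] F)) (M' := (B ⊗[A] F) ⊗[B] Q) (TensorProduct.comm B Q (B ⊗[A] F)) (LinearEquiv.refl B A) j
    exact e.toEquiv.subsingleton

end DiagTorLib
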