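import Groth.Agent.DiagTorLib.Index
import Groth.Agent.DiagTorLib.Algebra
import Groth.Agent.IntMultRegLib.BaseChange

/-!
# Associativity of the intersection number, local algebra
-/

set_option autoImplicit false
set_option backward.isDefEq.respectTransparency false
set_option backward.isDefEq.respectTransparency.types false
set_option linter.style.haveILetI false

universe u

open TensorProduct CategoryTheory

noncomputable section

namespace DiagTorLib

section Extend

variable {A : Type u} [CommRing A] (B : Type u) [CommRing B] [Algebra A B]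
variable (Q : Type u) [AddCommGroup Q] [Module A Q] [Module B Q] [IsScalarTower A B Q]
variable (V : Type u) [AddCommGroup V] [Module A V]

/-- The comparison in degree zero. -/
def extendEquiv (L : Type u) [AddCommGroup L] [Module A L] :
    Q ⊗[A] (L ⊗[A] V) ≃ₗ[B] (B ⊗[A] L) ⊗[B] (Q ⊗[A] V) :=
  (AlgebraTensorModule.congr (LinearEquiv.refl B Q) (TensorProduct.comm A L V)).trans
    ((AlgebraTensorModule.assoc A A B Q V L).symm.trans
      ((AlgebraTensorModule.cancelBaseChange A B B (Q ⊗[A] V) L).symm.trans
        (TensorProduct.comm B (Q ⊗[A] V) (B ⊗[A] L))))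

theorem extendEquiv_tmul (L : Type u) [AddCommGroup L] [Module A L] (q : Q) (l : L) (v : V) :
    extendEquiv B Q V L (q ⊗ₜ[A] (l ⊗ₜ[A] v)) = ((1 : B) ⊗ₜ[A] l) ⊗ₜ[B] (q ⊗ₜ[A] v) := by
  simp [extendEquiv]

theorem extendEquiv_natural {L F : Type u} [AddCommGroup L] [Module A L] [AddCommGroup F] [Module A F] (f : L →ₗ[A] F)
    (z : Q ⊗[A] (L ⊗[A] V)) :
    extendEquiv B Q V F (AlgebraTensorModule.lTensor B Q (f.rTensor V) z) =
      (f.baseChange B).rTensor (Q ⊗[A] V) (extendEquiv B Q V L z) := by
  induction z using TensorProduct.induction_on with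
  | zero => simp
  | add x y hx hy => simp only [map_add, hx, hy]
  | tmul q w =>
    induction w using TensorProduct.induction_on with
    | zero => simp
    | add x y hx hy => simp only [TensorProduct.tmul_add, map_add, hx, hy]
    | tmul l v => simp [extendEquiv_tmul]

variable [Module.Flat A B] [Module.Flat A Q]

theorem nonempty_tor_extend : ∀ (i : ℕ) (W : Type u) [AddCommGroup W] [Module A W],
    Nonempty ((Q ⊗[A] DRing.Tor A i W V) ≃ₗ[B] DRing.Tor B i (B ⊗[A] W) (Q ⊗[A] V)) := by
  intro i
  induction i with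
  | zero =>
    intro W _ _
    obtain ⟨e⟩ := TorShiftLib.nonempty_tor_zero (R := A) (N := V) W
    obtain ⟨e'⟩ := TorShiftLib.nonempty_tor_zero (R := B) (N := Q ⊗[A] V) (B ⊗[A] W)
    exact ⟨(AlgebraTensorModule.congr (LinearEquiv.refl B Q) e).trans ((extendEquiv B Q V W).trans e'.symm)⟩
  | succ i ih =>
    intro W _ _
    obtain ⟨F, _, _, _, g, hg⟩ : ∃ (F : Type u) (_ : AddCommGroup F) (_ : Module A F) (_ : Module.Free A F)
        (g : F →ₗ[A] W), Function.Surjective g :=
      ⟨W →₀ A, inferInstance, inferInstance, inferInstance, Finsupp.linearCombination A id,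
        fun m => ⟨Finsupp.single m 1, by simp⟩⟩
    obtain ⟨L, _, _, f, hf, he⟩ : ∃ (L : Type u) (_ : AddCommGroup L) (_ : Module A L) (f : L →ₗ[A] F),
        Function.Injective f ∧ Function.Exact f g :=
      ⟨LinearMap.ker g, inferInstance, inferInstance, Submodule.subtype _, Submodule.subtype_injective _,
        LinearMap.exact_subtype_ker_map g⟩
    have hf' : Function.Injective (f.baseChange B) := Module.Flat.lTensor_preserves_injective_linearMap f hf
    have hg' : Function.Surjective (g.baseChange B) := LinearMap.lTensor_surjective B hg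
    have he' : Function.Exact (f.baseChange B) (g.baseChange B) := by
      show Function.Exact (f.lTensor B) (g.lTensor B)
      exact lTensor_exact B he hg
    rcases i with _ | i
    · obtain ⟨e1⟩ := TorShiftLib.nonempty_shift_one f g hf hg he V
      obtain ⟨e2⟩ := TorShiftLib.nonempty_shift_one (f.baseChange B) (g.baseChange B) hf' hg' he' (Q ⊗[A] V)
      have hmap : (LinearMap.ker (AlgebraTensorModule.lTensor B Q (f.rTensor V))).map
          (extendEquiv (A := A) B Q V L : Q ⊗[A] (L ⊗[A] V) →ₗ[B] (B ⊗[A] L) ⊗[B] (Q ⊗[A] V)) =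
          LinearMap.ker ((f.baseChange B).rTensor (Q ⊗[A] V)) := by
        ext x
        rw [Submodule.mem_map_equiv, LinearMap.mem_ker, LinearMap.mem_ker,
          ← (extendEquiv (A := A) B Q V F).map_eq_zero_iff, extendEquiv_natural, LinearEquiv.apply_symm_apply]
      exact ⟨(AlgebraTensorModule.congr (LinearEquiv.refl B Q) e1).trans
        ((LinearMap.tensorKerEquiv B Q (f.rTensor V)).trans
          (((extendEquiv (A := A) B Q V L).submoduleMap _).trans ((LinearEquiv.ofEq _ _ hmap).trans e2.symm)))⟩
    · obtain ⟨e1⟩ := TorShiftLib.nonempty_shift_succ f g hf hg he V i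
      obtain ⟨e2⟩ := TorShiftLib.nonempty_shift_succ (f.baseChange B) (g.baseChange B) hf' hg' he' (Q ⊗[A] V) i
      obtain ⟨e3⟩ := ih L
      exact ⟨(AlgebraTensorModule.congr (LinearEquiv.refl B Q) e1).trans (e3.trans e2.symm)⟩

end Extend

section Adjoint

variable {A B : Type u} [CommRing A] [CommRing B] [Algebra A B] [Algebra B A] [IsScalarTower A B A] [Module.Flat A B]
variable (P : Type u) [AddCommGroup P] [Module A P] [Module B P] [IsScalarTower A B P] [IsScalarTower B A P]

/-- The comparison in degree zero. -/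
def adjEquiv (L : Type u) [AddCommGroup L] [Module A L] : (B ⊗[A] L) ⊗[B] P ≃+ L ⊗[A] P :=
  ((TensorProduct.comm B (B ⊗[A] L) P).trans (AlgebraTensorModule.cancelBaseChange A B B P L)).toAddEquiv.trans
    (TensorProduct.comm A P L).toAddEquiv

theorem adjEquiv_smul (L : Type u) [AddCommGroup L] [Module A L] (b : B) (x : (B ⊗[A] L) ⊗[B] P) :
    adjEquiv P L (b • x) = algebraMap B A b • adjEquiv P L x := by
  let e := (TensorProduct.comm B (B ⊗[A] L) P).trans (AlgebraTensorModule.cancelBaseChange A B B P L)
  show TensorProduct.comm A P L (e (b • x)) = algebraMap B A b • TensorProduct.comm A P L (e x)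
  rw [e.map_smul, ← (TensorProduct.comm A P L).map_smul, algebraMap_smul]

theorem adjEquiv_natural {L F : Type u} [AddCommGroup L] [Module A L] [AddCommGroup F] [Module A F] (f : L →ₗ[A] F)
    (z : (B ⊗[A] L) ⊗[B] P) : f.rTensor P (adjEquiv P L z) = adjEquiv P F ((f.baseChange B).rTensor P z) := by
  induction z using TensorProduct.induction_on with
  | zero => simp
  | add x y hx hy => simp only [map_add, hx, hy]
  | tmul w p =>
    induction w using TensorProduct.induction_on with
    | zero => simp
    | add x y hx hy => simp only [TensorProduct.add_tmul, map_add, hx, hy]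
    | tmul b l => simp [adjEquiv]

theorem semi_tor_adjoint : ∀ (i : ℕ) (W : Type u) [AddCommGroup W] [Module A W],
    Semi B A (DRing.Tor B i (B ⊗[A] W) P) (DRing.Tor A i W P) := by
  intro i
  induction i with
  | zero =>
    intro W _ _
    obtain ⟨e⟩ := TorShiftLib.nonempty_tor_zero (R := B) (N := P) (B ⊗[A] W)
    obtain ⟨e'⟩ := TorShiftLib.nonempty_tor_zero (R := A) (N := P) W
    have h : Semi B A ((B ⊗[A] W) ⊗[B] P) (W ⊗[A] P) := ⟨adjEquiv P W, adjEquiv_smul P W⟩
    exact h.congr e e'.symm
  | succ i ih =>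
    intro W _ _
    obtain ⟨F, _, _, _, g, hg⟩ : ∃ (F : Type u) (_ : AddCommGroup F) (_ : Module A F) (_ : Module.Free A F)
        (g : F →ₗ[A] W), Function.Surjective g :=
      ⟨W →₀ A, inferInstance, inferInstance, inferInstance, Finsupp.linearCombination A id,
        fun m => ⟨Finsupp.single m 1, by simp⟩⟩
    obtain ⟨L, _, _, f, hf, he⟩ : ∃ (L : Type u) (_ : AddCommGroup L) (_ : Module A L) (f : L →ₗ[A] F),
        Function.Injective f ∧ Function.Exact f g :=
      ⟨LinearMap.ker g, inferInstance, inferInstance, Submodule.subtype _, Submodule.subtype_injective _,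
        LinearMap.exact_subtype_ker_map g⟩
    have hf' : Function.Injective (f.baseChange B) := Module.Flat.lTensor_preserves_injective_linearMap f hf
    have hg' : Function.Surjective (g.baseChange B) := LinearMap.lTensor_surjective B hg
    have he' : Function.Exact (f.baseChange B) (g.baseChange B) := by
      show Function.Exact (f.lTensor B) (g.lTensor B)
      exact lTensor_exact B he hg
    rcases i with _ | i
    · obtain ⟨e1⟩ := TorShiftLib.nonempty_shift_one f g hf hg he P
      obtain ⟨e2⟩ := TorShiftLib.nonempty_shift_one (f.baseChange B) (g.baseChange B) hf' hg' he' P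
      let φ : (B ⊗[A] L) ⊗[B] P →ₗ[B] (B ⊗[A] F) ⊗[B] P := (f.baseChange B).rTensor P
      let ψ : L ⊗[A] P →ₗ[A] F ⊗[A] P := f.rTensor P
      letI : AddCommGroup ↥(LinearMap.ker φ) := @Submodule.addCommGroup B ((B ⊗[A] L) ⊗[B] P) _ _ _ (LinearMap.ker φ)
      letI : AddCommGroup ↥(LinearMap.ker ψ) := @Submodule.addCommGroup A (L ⊗[A] P) _ _ _ (LinearMap.ker ψ)
      have h : Semi B A (LinearMap.ker φ) (LinearMap.ker ψ) := by
        refine ⟨{ toEquiv := (adjEquiv (A := A) (B := B) P L).toEquiv.subtypeEquiv fun x => ?_,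
                  map_add' := fun x y => Subtype.ext (map_add (adjEquiv (A := A) (B := B) P L) x.1 y.1) },
          fun b x => Subtype.ext (adjEquiv_smul (A := A) (B := B) P L b x.1)⟩
        show (f.baseChange B).rTensor P x = 0 ↔ f.rTensor P (adjEquiv (A := A) (B := B) P L x) = 0
        rw [adjEquiv_natural, AddEquiv.map_eq_zero_iff]
      exact h.congr e2 e1.symm
    · obtain ⟨e1⟩ := TorShiftLib.nonempty_shift_succ f g hf hg he P i
      obtain ⟨e2⟩ := TorShiftLib.nonempty_shift_succ (f.baseChange B) (g.baseChange B) hf' hg' he' P i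
      exact (ih L).congr e2 e1.symm

end Adjoint

open Groth.Agent.KoszChiLib (H Idl)

/-- Koszul homology of a regular sequence, as `Tor`. -/
theorem nonempty_tor_koszul {R : Type u} [CommRing R] (l : List R) (hl : LCI.IsKoszulRegularSeq R l)
    (N : Type u) [AddCommGroup N] [Module R N] (q : ℕ) :
    Nonempty (DRing.Tor R q (R ⧸ Idl l) N ≃ₗ[R] H l (ModuleCat.of R N) (-(q : ℤ))) := by
  rcases Nat.eq_zero_or_pos q with rfl | hq
  · obtain ⟨e⟩ := TorShiftLib.nonempty_tor_zero (R := R) (N := N) (R ⧸ Idl l)
    obtain ⟨π, hπ, hker⟩ := LechLib.exists_H_zero l (ModuleCat.of R N)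
    rw [Nat.cast_zero, neg_zero]
    exact ⟨(e.trans (TensorProduct.quotTensorEquivQuotSMul N (Idl l))).trans
      ((Submodule.quotEquivOfEq _ _ hker.symm).trans (LinearMap.quotKerEquivOfSurjective π hπ))⟩
  · obtain ⟨q, rfl⟩ := Nat.exists_eq_add_one.2 hq
    obtain ⟨π, hπ⟩ := KoszTorLib.exists_quasiIso_single (Koszul.koszul R l) (KoszTorLib.isZero_X_pos l) hl
    obtain ⟨e0⟩ := KoszTorLib.nonempty_homology_zero l
    let Q := CategoryTheory.projectiveResolution (ModuleCat.of R N)
    have hK : DRing.IsKFlat R (Koszul.koszul R l) :=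
      KFlatLib.isKFlat_of_bounded_flat _ 0 (KoszTorLib.isZero_X_pos l) (Groth.Agent.KoszChiLib.flat_X l)
    obtain ⟨eb⟩ := @KoszTorLib.nonempty_balance R _ ((Koszul.koszul R l).homology 0) (ModuleCat.of R N) _ hK π hπ Q (-((q + 1 : ℕ) : ℤ))
    obtain ⟨ec⟩ := KoszTorLib.nonempty_cochain_homology (MonoidalCategory.tensorLeft ((Koszul.koszul R l).homology 0)) Q q
    let et := (Q.isoLeftDerivedObj (MonoidalCategory.tensorLeft ((Koszul.koszul R l).homology 0)) (q + 1)).symm
    let em := ((CategoryTheory.Tor (ModuleCat.{u} R) (q + 1)).mapIso e0).app (ModuleCat.of R N)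
    exact ⟨(eb ≪≫ ec ≪≫ et ≪≫ em).symm.toLinearEquiv⟩

end DiagTorLib
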