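import Groth.Agent.DiagTorLib.Pull
import Groth.Agent.CycPushLib.Closed

/-!
# Bilinearity of the intersection product, and flat pullback of cycles
-/

set_option autoImplicit false
set_option backward.isDefEq.respectTransparency false
set_option backward.isDefEq.respectTransparency.types false
set_option linter.style.haveILetI false

universe u

open CategoryTheory CategoryTheory.Limits AlgebraicGeometry TopologicalSpace Topology
open EquidimLib (stalkPt)
open CycDivLib (primeOf stalkPt_primeOf)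

noncomputable section

namespace DiagTorLib

variable {X : Scheme.{u}}

/-- The coefficient function of a point. -/
def single (ξ : X) : X → ℤ := Set.indicator {ξ} 1

theorem single_self (ξ : X) : single ξ ξ = 1 := by simp [single]

theorem single_ne (ξ x : X) (h : x ≠ ξ) : single ξ x = 0 := by simp [single, h]

theorem eq_sum_single (a : X → ℤ) (S : Finset X) (x : X) (h : a x ≠ 0 → x ∈ S) :
    a x = ∑ ξ ∈ S, a ξ * single ξ x := by
  classical
  by_cases hx : x ∈ S
  · rw [Finset.sum_eq_single x (fun b _ hb => by rw [single_ne b x (Ne.symm hb), mul_zero]) (fun h' => absurd hx h'),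
      single_self, mul_one]
  · rw [not_not.1 fun h0 => hx (h h0)]
    refine (Finset.sum_eq_zero fun ξ hξ => ?_).symm
    rw [single_ne ξ x (fun h' => hx (h' ▸ hξ)), mul_zero]

/-- The product at a point, as a finite sum. -/
theorem interProd_eq_sum (δ : X → ℤ) (n : ℤ) (a b : X → ℤ) (ζ : X) (A B : Finset X)
    (hA : ∀ x, x ⤳ ζ → a x ≠ 0 → x ∈ A) (hB : ∀ x, x ⤳ ζ → b x ≠ 0 → x ∈ B) :
    IntMult.interProd δ n a b ζ = ∑ p ∈ A ×ˢ B, Set.indicator {p : X × X | p.1 ⤳ ζ ∧ p.2 ⤳ ζ ∧ δ p.1 + δ p.2 - n = δ ζ}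
      (fun p => a p.1 * b p.2 * IntMult.mult (IntMult.ptIdeal p.1) (IntMult.ptIdeal p.2) ζ) p := by
  classical
  rw [IntMult.interProd]
  refine (finsum_set_coe_eq_finsum_mem {p : X × X | p.1 ⤳ ζ ∧ p.2 ⤳ ζ ∧ δ p.1 + δ p.2 - n = δ ζ}
    (f := fun p : X × X => a p.1 * b p.2 * IntMult.mult (IntMult.ptIdeal p.1) (IntMult.ptIdeal p.2) ζ)).trans ?_
  rw [finsum_mem_def]
  refine finsum_eq_sum_of_support_subset _ fun p hp => ?_
  rw [Set.support_indicator] at hp
  obtain ⟨hp1, hp2⟩ := hp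
  simp only [Function.mem_support, mul_ne_zero_iff] at hp2
  exact Finset.mem_product.2 ⟨hA _ hp1.1 hp2.1.1, hB _ hp1.2.1 hp2.1.2⟩

/-- Bilinearity of the product at a point. -/
theorem interProd_sum (δ : X → ℤ) (n : ℤ) (a b : X → ℤ) (ζ : X) {ι κ : Type u} (S : Finset ι) (T : Finset κ)
    (c : ι → ℤ) (d : κ → ℤ) (u : ι → X → ℤ) (v : κ → X → ℤ)
    (hu : ∀ i ∈ S, {x | x ⤳ ζ ∧ u i x ≠ 0}.Finite) (hv : ∀ j ∈ T, {x | x ⤳ ζ ∧ v j x ≠ 0}.Finite)
    (ha : ∀ x, x ⤳ ζ → a x = ∑ i ∈ S, c i * u i x) (hb : ∀ x, x ⤳ ζ → b x = ∑ j ∈ T, d j * v j x) :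
    IntMult.interProd δ n a b ζ = ∑ i ∈ S, ∑ j ∈ T, c i * d j * IntMult.interProd δ n (u i) (v j) ζ := by
  classical
  let A : Finset X := (S.finite_toSet.biUnion hu).toFinset
  let B : Finset X := (T.finite_toSet.biUnion hv).toFinset
  have hA : ∀ i ∈ S, ∀ x, x ⤳ ζ → u i x ≠ 0 → x ∈ A := fun i hi x h1 h2 =>
    (S.finite_toSet.biUnion hu).mem_toFinset.2 (Set.mem_biUnion hi ⟨h1, h2⟩)
  have hB : ∀ i ∈ T, ∀ x, x ⤳ ζ → v i x ≠ 0 → x ∈ B := fun i hi x h1 h2 =>
    (T.finite_toSet.biUnion hv).mem_toFinset.2 (Set.mem_biUnion hi ⟨h1, h2⟩)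
  rw [interProd_eq_sum δ n a b ζ A B
    (fun x h1 h2 => by
      rw [ha x h1] at h2
      obtain ⟨i, hi, h3⟩ := Finset.exists_ne_zero_of_sum_ne_zero h2
      exact hA i hi x h1 (right_ne_zero_of_mul h3))
    (fun x h1 h2 => by
      rw [hb x h1] at h2
      obtain ⟨i, hi, h3⟩ := Finset.exists_ne_zero_of_sum_ne_zero h2
      exact hB i hi x h1 (right_ne_zero_of_mul h3))]
  rw [Finset.sum_congr rfl fun i hi => Finset.sum_congr rfl fun j hj => by
    rw [interProd_eq_sum δ n (u i) (v j) ζ A B (hA i hi) (hB j hj), Finset.mul_sum]]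
  rw [Finset.sum_congr rfl fun i _ => Finset.sum_comm, Finset.sum_comm]
  refine Finset.sum_congr rfl fun p _ => ?_
  by_cases hp : p ∈ {p : X × X | p.1 ⤳ ζ ∧ p.2 ⤳ ζ ∧ δ p.1 + δ p.2 - n = δ ζ}
  · rw [Set.indicator_of_mem hp, ha _ hp.1, hb _ hp.2.1, Finset.sum_mul_sum, Finset.sum_mul]
    refine Finset.sum_congr rfl fun i _ => ?_
    rw [Finset.sum_mul]
    refine Finset.sum_congr rfl fun j _ => ?_
    rw [Set.indicator_of_mem hp]
    ring
  · rw [Set.indicator_of_notMem hp]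
    refine (Finset.sum_eq_zero fun i _ => Finset.sum_eq_zero fun j _ => ?_).symm
    rw [Set.indicator_of_notMem hp, mul_zero]

/-- The generalizations of a point of maximal dimension in a closed subscheme form a finite set. -/
theorem finite_top_points [IsLocallyNoetherian X] (δ : X → ℤ) (hX : Cyc.IsSetup X δ) (I : X.IdealSheafData) (k : ℤ)
    (hk : ∀ x ∈ I.support, δ x ≤ k) (ζ : X) : {x : X | x ⤳ ζ ∧ x ∈ I.support ∧ δ x = k}.Finite := by
  let J := IntMult.stalkIdeal I ζ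
  refine (((J.finite_minimalPrimes_of_isNoetherianRing _).preimage (f := PrimeSpectrum.asIdeal)
    (fun _ _ _ _ e => PrimeSpectrum.ext e)).image (stalkPt ζ)).subset ?_
  rintro x ⟨h1, h2, h3⟩
  obtain ⟨P, rfl⟩ := EquidimLib.exists_stalkPt h1
  refine ⟨P, ⟨⟨P.isPrime, (IntMultRegLib.stalkPt_mem_support_iff I ζ P).1 h2⟩, fun q hq hqP => ?_⟩, rfl⟩
  by_contra hne
  have := (hX.2.2 _ _ (EquidimLib.specializes_stalkPt (x := ζ) (show (⟨q, hq.1⟩ : PrimeSpectrum _) ≤ P from hqP))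
    (fun e => hne (congrArg PrimeSpectrum.asIdeal (EquidimLib.stalkPt_injective ζ e)).ge)).1
  have := hk _ ((IntMultRegLib.stalkPt_mem_support_iff I ζ ⟨q, hq.1⟩).2 hq.2)
  omega

/-- A locally finite cycle has finitely many points above a given one. -/
theorem finite_generalizations (α : AlgebraicCycle X ℤ) (y : X) : {x : X | x ⤳ y ∧ α x ≠ 0}.Finite := by
  obtain ⟨t, ht, hfin⟩ := α.supportLocallyFiniteWithinDomain' y trivial
  obtain ⟨U, hUt, hU, hyU⟩ := mem_nhds_iff.1 ht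
  exact hfin.subset fun x hx => ⟨hUt (hx.1.mem_open hU hyU), hx.2⟩

theorem mem_support_ptIdeal (ξ x : X) : x ∈ (IntMult.ptIdeal ξ).support ↔ ξ ⤳ x := by
  rw [specializes_iff_mem_closure, ← SetLike.mem_coe, IntMult.ptIdeal, Scheme.IdealSheafData.coe_support_vanishingIdeal]
  rfl

/-- The cycle of a point is the cycle of a coherent sheaf supported on its closure. -/
theorem exists_sheaf_single [IsLocallyNoetherian X] (δ : X → ℤ) (hX : Cyc.IsSetup X δ) (ξ : X) :
    ∃ F : X.Modules, Coh.IsCoh F ∧ (∀ x, Nontrivial (F.presheaf.stalk x) → ξ ⤳ x ∧ δ x ≤ δ ξ) ∧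
      Cyc.sheafFun δ (δ ξ) F = single ξ := by
  let i := (IntMult.ptIdeal ξ).subschemeι
  let F := (Coh.push i).obj (Coh.structureModule (IntMult.ptIdeal ξ).subscheme)
  have hle : ∀ x, ξ ⤳ x → δ x ≤ δ ξ ∧ (δ x = δ ξ → x = ξ) := fun x h => by
    by_cases e : x = ξ
    · subst e; exact ⟨le_rfl, fun _ => rfl⟩
    · have := (hX.2.2 _ _ h (Ne.symm e)).1
      exact ⟨this.le, fun h' => absurd h' this.ne⟩
  have hsupp : ∀ x, Nontrivial (F.presheaf.stalk x) → ξ ⤳ x := fun x hx => by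
    rw [← mem_support_ptIdeal, ← SetLike.mem_coe, ← Scheme.IdealSheafData.range_subschemeι]
    exact DevissLib.support_push_subset i _ (not_subsingleton_iff_nontrivial.2 hx)
  refine ⟨F, QCohLib.isCoh_push_finite i _ (DevissLib.isCoh_structureModule _), fun x hx => ⟨hsupp x hx, (hle x (hsupp x hx)).1⟩,
    funext fun x => ?_⟩
  by_cases hx : x = ξ
  · subst hx
    obtain ⟨z, hz⟩ : x ∈ Set.range i := by
      rw [Scheme.IdealSheafData.range_subschemeι]; exact (mem_support_ptIdeal x x).2 specializes_rfl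
    have h1 : Module.length (X.presheaf.stalk x) (↑(X.presheaf.stalk x) ⧸ IntMult.stalkIdeal (IntMult.ptIdeal x) x) = 1 :=
      length_quotient_primeOf _ specializes_rfl (stalkIdeal_ptIdeal specializes_rfl)
    have h2 : Module.length (X.presheaf.stalk x) (F.presheaf.stalk x) = 1 := by
      rw [← hz]
      refine (CycLimLib.length_stalk_push_structure i z).trans ((length_stalk_closed i z).trans ?_)
      rw [hz, Scheme.IdealSheafData.ker_subschemeι]
      exact h1
    rw [single_self, Cyc.sheafFun, if_pos rfl, h2]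
    rfl
  · rw [single_ne ξ x hx, Cyc.sheafFun]
    split_ifs with e
    · rcases subsingleton_or_nontrivial (F.presheaf.stalk x) with h | h
      · rw [Module.length_eq_zero]; rfl
      · exact absurd ((hle x (hsupp x h)).2 e) hx
    · rfl

variable {Y : Scheme.{u}} {K : Type u} [Field K] [IsAlgClosed K] (f : X ⟶ Y) (gX : X ⟶ Spec (CommRingCat.of K))
  (gY : Y ⟶ Spec (CommRingCat.of K)) (hf : f ≫ gY = gX) [Smooth gX] [IsSeparated gX] [QuasiCompact gX] [IsIntegral X]
  [Smooth gY] [IsSeparated gY] [QuasiCompact gY] [IsIntegral Y] [Flat f] (δX : X → ℤ) (δY : Y → ℤ)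
  (hX : Cyc.IsSetup X δX) (hY : Cyc.IsSetup Y δY) (hδX : Cyc.DeltaCompat gX δX (fun _ => 0))
  (hδY : Cyc.DeltaCompat gY δY (fun _ => 0)) (hδ : Cyc.DeltaCompat f δX δY) (n m : ℤ)
  (hn : δX (genericPoint X) = n) (hm : δY (genericPoint Y) = m) (e : ℕ) (he : (e : ℤ) = n - m)
  (hrel : Cyc.HasRelDim f e)

include hf hX hY hδX hδY hδ hn hm he hrel in
/-- Flat pullback commutes with the product of cycles. -/
theorem pull_cycles (r s : ℤ) (α β : AlgebraicCycle Y ℤ) (hα : α ∈ Cyc.Zk Y δY r) (hβ : β ∈ Cyc.Zk Y δY s)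
    (hprop : IntMult.IntersectProperly δY m ⇑α ⇑β) :
    IntMult.IntersectProperly δX n (Cyc.pullFun f δX δY e ⇑α) (Cyc.pullFun f δX δY e ⇑β) ∧
      Cyc.pullFun f δX δY e (IntMult.interProd δY m ⇑α ⇑β) =
        IntMult.interProd δX n (Cyc.pullFun f δX δY e ⇑α) (Cyc.pullFun f δX δY e ⇑β) := by
  classical
  haveI := hX.1
  haveI := hY.1
  haveI : LocallyOfFiniteType f := by
    haveI : LocallyOfFiniteType (f ≫ gY) := hf.symm ▸ inferInstance
    exact locallyOfFiniteType_of_comp f gY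
  have hle := CycLimLib.delta_le f hδ hrel
  have hpull : ∀ (c : Y → ℤ) (x : X), Cyc.pullFun f δX δY e c x ≠ 0 → c (f x) ≠ 0 ∧ δX x = δY (f x) + e := by
    intro c x h
    simp only [Cyc.pullFun] at h
    split_ifs at h with h'
    · exact ⟨left_ne_zero_of_mul h, h'⟩
    · exact absurd rfl h
  have hdα : ∀ y, α y ≠ 0 → δY y = r := fun y h => not_not.1 fun h' => h (hα y h')
  have hdβ : ∀ y, β y ≠ 0 → δY y = s := fun y h => not_not.1 fun h' => h (hβ y h')
  refine ⟨fun ξ η ζ hξ hη h1 h2 => ?_, funext fun ζ => ?_⟩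
  · obtain ⟨a1, a2⟩ := hpull _ _ hξ
    obtain ⟨b1, b2⟩ := hpull _ _ hη
    have := hprop _ _ (f ζ) a1 b1 (h1.map f.continuous) (h2.map f.continuous)
    have := hle ζ
    omega
  let S := (finite_generalizations α (f ζ)).toFinset
  let T := (finite_generalizations β (f ζ)).toFinset
  have hS : ∀ y, y ∈ S ↔ y ⤳ f ζ ∧ α y ≠ 0 := fun y => Set.Finite.mem_toFinset _
  have hT : ∀ y, y ∈ T ↔ y ⤳ f ζ ∧ β y ≠ 0 := fun y => Set.Finite.mem_toFinset _
  have hlin : ∀ (c : Y → ℤ) (S : Finset Y) (x : X), (c (f x) ≠ 0 → f x ∈ S) →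
      Cyc.pullFun f δX δY e c x = ∑ ξ ∈ S, c ξ * Cyc.pullFun f δX δY e (single ξ) x := by
    intro c S x h
    simp only [Cyc.pullFun]
    split_ifs
    · rw [eq_sum_single c S (f x) h, Finset.sum_mul]
      exact Finset.sum_congr rfl fun ξ _ => mul_assoc _ _ _
    · simp
  have hfin : ∀ (ξ : Y) (k : ℤ), δY ξ = k → {x | x ⤳ ζ ∧ Cyc.pullFun f δX δY e (single ξ) x ≠ 0}.Finite := by
    intro ξ k hk
    refine (finite_top_points δX hX ((IntMult.ptIdeal ξ).comap f) (k + e) (fun x hx => ?_) ζ).subset fun x hx => ?_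
    · rw [Scheme.IdealSheafData.support_comap] at hx
      have hx' : ξ ⤳ f x := (mem_support_ptIdeal _ _).1 hx
      by_cases h' : ξ = f x
      · have := hle x
        rw [← h', hk] at this
        exact this
      · have := (hY.2.2 _ _ hx' h').1
        have := hle x
        omega
    · obtain ⟨h1, h2⟩ := hpull _ _ hx.2
      have h3 : f x = ξ := not_not.1 fun h' => h1 (single_ne _ _ h')
      refine ⟨hx.1, ?_, by rw [h2, h3, hk]⟩
      rw [Scheme.IdealSheafData.support_comap]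
      exact (mem_support_ptIdeal _ _).2 (by rw [h3])
  rw [interProd_sum δX n (Cyc.pullFun f δX δY e ⇑α) (Cyc.pullFun f δX δY e ⇑β) ζ S T ⇑α ⇑β
    (fun ξ => Cyc.pullFun f δX δY e (single ξ)) (fun η => Cyc.pullFun f δX δY e (single η))
    (fun ξ hξ => hfin ξ r (hdα ξ ((hS ξ).1 hξ).2)) (fun η hη => hfin η s (hdβ η ((hT η).1 hη).2))
    (fun x hx => hlin _ S x fun h => (hS _).2 ⟨hx.map f.continuous, h⟩)
    (fun x hx => hlin _ T x fun h => (hT _).2 ⟨hx.map f.continuous, h⟩)]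
  have hY' : IntMult.interProd δY m ⇑α ⇑β (f ζ) =
      ∑ ξ ∈ S, ∑ η ∈ T, α ξ * β η * IntMult.interProd δY m (single ξ) (single η) (f ζ) :=
    interProd_sum δY m ⇑α ⇑β (f ζ) S T ⇑α ⇑β single single
      (fun ξ _ => (Set.finite_singleton ξ).subset fun x hx => not_not.1 fun h' => hx.2 (single_ne _ _ h'))
      (fun ξ _ => (Set.finite_singleton ξ).subset fun x hx => not_not.1 fun h' => hx.2 (single_ne _ _ h'))
      (fun x hx => eq_sum_single _ S x fun h => (hS x).2 ⟨hx, h⟩)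
      (fun x hx => eq_sum_single _ T x fun h => (hT x).2 ⟨hx, h⟩)
  have key : ∀ ξ ∈ S, ∀ η ∈ T, Cyc.pullFun f δX δY e (IntMult.interProd δY m (single ξ) (single η)) ζ =
      IntMult.interProd δX n (Cyc.pullFun f δX δY e (single ξ)) (Cyc.pullFun f δX δY e (single η)) ζ := by
    intro ξ hξ η hη
    obtain ⟨F, hF, hF1, hF2⟩ := exists_sheaf_single δY hY ξ
    obtain ⟨G, hG, hG1, hG2⟩ := exists_sheaf_single δY hY η
    have h := (pull_sheafFun f gX gY hf δX δY hX hY hδX hδY hδ n m hn hm e he hrel F G hF hG (δY ξ) (δY η)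
      (fun y hy => (hF1 y hy).2) (fun y hy => (hG1 y hy).2)
      (fun y h1 h2 => hprop ξ η y ((hS ξ).1 hξ).2 ((hT η).1 hη).2 (hF1 y h1).1 (hG1 y h2).1)).2
    rw [← (CycLimLib.pullFun_sheafFun f δY δX e hle (δY ξ) F (fun y hy => (hF1 y hy).2)).2,
      ← (CycLimLib.pullFun_sheafFun f δY δX e hle (δY η) G (fun y hy => (hG1 y hy).2)).2, hF2, hG2] at h
    exact congrFun h ζ
  rw [Finset.sum_congr rfl fun ξ hξ => Finset.sum_congr rfl fun η hη => by rw [← key ξ hξ η hη]]
  simp only [Cyc.pullFun]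
  split_ifs
  · rw [hY', Finset.sum_mul]
    exact Finset.sum_congr rfl fun ξ _ => by rw [Finset.sum_mul]; exact Finset.sum_congr rfl fun η _ => mul_assoc _ _ _
  · simp

end DiagTorLib
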