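import Groth.Prelude.Def_IntMult
import Groth.Agent.IntMultRegLib.Deviss
import Groth.Agent.KoszChiLib.Thms

/-!
# Koszul homology against `Tor`: the two orders give one Euler characteristic
-/

set_option autoImplicit false
set_option backward.isDefEq.respectTransparency false
set_option backward.isDefEq.respectTransparency.types false
set_option linter.style.haveILetI false

universe u

open CategoryTheory Function

noncomputable section

namespace DiagTorLib

open Groth.Agent.KoszChiLib (H Idl FL)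

variable {R : Type u} [CommRing R]

/-- The support lies in the closed set of `J`. -/
def InV (J : Ideal R) (M : Type u) [AddCommGroup M] [Module R M] : Prop :=
  ∀ p : PrimeSpectrum R, Module.annihilator R M ≤ p.asIdeal → J ≤ p.asIdeal

theorem InV.mono {J : Ideal R} {M M' : Type u} [AddCommGroup M] [Module R M] [AddCommGroup M'] [Module R M']
    (h : InV J M) (hle : Module.annihilator R M ≤ Module.annihilator R M') : InV J M' :=
  fun p hp => h p (hle.trans hp)

theorem inV_of_subsingleton (J : Ideal R) (M : Type u) [AddCommGroup M] [Module R M] [Subsingleton M] : InV J M :=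
  fun p hp => absurd (top_le_iff.1 (le_trans (fun r _ => Module.mem_annihilator.2 fun _ => Subsingleton.elim _ _) hp))
    p.isPrime.ne_top

/-- A function on modules additive for the finite modules supported in the closed set of `J`. -/
def AddOn (J : Ideal R) (Φ : ∀ (M : Type u) [AddCommGroup M] [Module R M], ℤ) : Prop :=
  ∀ (L M N : Type u) [AddCommGroup L] [Module R L] [AddCommGroup M] [Module R M] [AddCommGroup N] [Module R N]
    [Module.Finite R L] [Module.Finite R M] [Module.Finite R N] (f : L →ₗ[R] M) (g : M →ₗ[R] N),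
    Injective f → Surjective g → Exact f g → InV J M → Φ M = Φ L + Φ N

section AddOn

variable {J : Ideal R} {Φ : ∀ (M : Type u) [AddCommGroup M] [Module R M], ℤ} (hΦ : AddOn J Φ)
include hΦ

theorem AddOn.zero (M : Type u) [AddCommGroup M] [Module R M] [Subsingleton M] : Φ M = 0 := by
  have h := hΦ M M M LinearMap.id LinearMap.id Function.injective_id Function.surjective_id
    (fun x => ⟨fun _ => ⟨x, rfl⟩, fun _ => Subsingleton.elim _ _⟩) (inV_of_subsingleton J M)
  linarith

theorem AddOn.congr {M M' : Type u} [AddCommGroup M] [Module R M] [AddCommGroup M'] [Module R M'] [Module.Finite R M]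
    (e : M ≃ₗ[R] M') (h : InV J M) : Φ M = Φ M' := by
  haveI : Module.Finite R M' := Module.Finite.equiv e
  haveI : Subsingleton (⊥ : Submodule R M) := inferInstance
  have h' := hΦ (⊥ : Submodule R M) M M' (⊥ : Submodule R M).subtype e.toLinearMap Subtype.val_injective e.surjective
    (fun x => ⟨fun hx => ⟨0, (e.injective (hx.trans (map_zero e).symm)).symm⟩,
      fun ⟨y, hy⟩ => by rw [← hy, Subsingleton.elim y 0, map_zero, map_zero]⟩) h
  rw [h', hΦ.zero, zero_add]

variable [IsNoetherianRing R]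

theorem AddOn.ker_range {M N : Type u} [AddCommGroup M] [Module R M] [AddCommGroup N] [Module R N] [Module.Finite R M]
    (f : M →ₗ[R] N) (h : InV J M) : Φ M = Φ (LinearMap.ker f) + Φ (LinearMap.range f) :=
  hΦ _ _ _ (LinearMap.ker f).subtype f.rangeRestrict Subtype.val_injective f.surjective_rangeRestrict
    (fun x => by
      constructor
      · intro hx; exact ⟨⟨x, congrArg Subtype.val hx⟩, rfl⟩
      · rintro ⟨y, rfl⟩; exact Subtype.ext y.2) h

theorem AddOn.ker_eq {L M N : Type u} [AddCommGroup L] [Module R L] [AddCommGroup M] [Module R M] [AddCommGroup N]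
    [Module R N] [Module.Finite R M] {f : L →ₗ[R] M} {g : M →ₗ[R] N} (hx : Exact f g) (h : InV J M) :
    Φ (LinearMap.ker g) = Φ (LinearMap.range f) :=
  hΦ.congr (LinearEquiv.ofEq _ _ hx.linearMap_ker_eq) (h.mono ((LinearMap.ker g).subtype.annihilator_le_of_injective Subtype.val_injective))

/-- The middle of five terms. -/
theorem AddOn.five {L₁ L₂ M N₁ N₂ : Type u} [AddCommGroup L₁] [Module R L₁] [AddCommGroup L₂] [Module R L₂]
    [AddCommGroup M] [Module R M] [AddCommGroup N₁] [Module R N₁] [AddCommGroup N₂] [Module R N₂]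
    [Module.Finite R L₂] [Module.Finite R M]
    {f : L₁ →ₗ[R] L₂} {g : L₂ →ₗ[R] M} {h : M →ₗ[R] N₁} {k : N₁ →ₗ[R] N₂}
    (h1 : Exact f g) (h2 : Exact g h) (h3 : Exact h k) (hM : InV J M) :
    Φ M = Φ (L₂ ⧸ LinearMap.range f) + Φ (LinearMap.ker k) := by
  have hk : InV J (LinearMap.ker h) := hM.mono ((LinearMap.ker h).subtype.annihilator_le_of_injective Subtype.val_injective)
  have hr : InV J (LinearMap.range h) := hM.mono (h.rangeRestrict.annihilator_le_of_surjective h.surjective_rangeRestrict)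
  rw [hΦ.ker_range h hM, hΦ.congr (LinearEquiv.ofEq _ _ h3.linearMap_ker_eq.symm) hr,
    hΦ.congr ((LinearEquiv.ofEq _ _ h2.linearMap_ker_eq).trans
      ((g.quotKerEquivRange).symm.trans (Submodule.quotEquivOfEq _ _ h1.linearMap_ker_eq))) hk]

/-- The alternating sum along a long exact sequence. -/
theorem AddOn.les (E₁ E₂ E₃ : ℕ → ModuleCat.{u} R) [∀ i, Module.Finite R (E₁ i)] [∀ i, Module.Finite R (E₂ i)]
    [∀ i, Module.Finite R (E₃ i)] (a : ∀ i, E₁ i →ₗ[R] E₂ i) (b : ∀ i, E₂ i →ₗ[R] E₃ i)
    (δ : ∀ i, E₃ (i + 1) →ₗ[R] E₁ i) (x1 : ∀ i, Exact (δ i) (a i)) (x2 : ∀ i, Exact (a i) (b i))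
    (x3 : ∀ i, Exact (b (i + 1)) (δ i)) (h0 : Surjective (b 0))
    (h₁ : ∀ i, InV J (E₁ i)) (h₂ : ∀ i, InV J (E₂ i)) (h₃ : ∀ i, InV J (E₃ i)) (D : ℕ) [Subsingleton (E₃ (D + 1))] :
    ∑ i ∈ Finset.range (D + 1), (-1 : ℤ) ^ i * Φ (E₂ i) =
      ∑ i ∈ Finset.range (D + 1), (-1 : ℤ) ^ i * Φ (E₁ i) + ∑ i ∈ Finset.range (D + 1), (-1 : ℤ) ^ i * Φ (E₃ i) := by
  let ra := fun i => Φ (LinearMap.range (a i))
  let rb := fun i => Φ (LinearMap.range (b i))
  let rd := fun i => Φ (LinearMap.range (δ i))
  have A1 : ∀ i, Φ (E₁ i) = rd i + ra i := fun i => by rw [hΦ.ker_range (a i) (h₁ i), hΦ.ker_eq (x1 i) (h₁ i)]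
  have A2 : ∀ i, Φ (E₂ i) = ra i + rb i := fun i => by rw [hΦ.ker_range (b i) (h₂ i), hΦ.ker_eq (x2 i) (h₂ i)]
  have A3 : ∀ i, Φ (E₃ (i + 1)) = rb (i + 1) + rd i := fun i => by
    rw [hΦ.ker_range (δ i) (h₃ (i + 1)), hΦ.ker_eq (x3 i) (h₃ (i + 1))]
  have A30 : Φ (E₃ 0) = rb 0 :=
    (hΦ.congr (LinearEquiv.ofTop (LinearMap.range (b 0)) (LinearMap.range_eq_top.2 h0)).symm (h₃ 0))
  have key : ∀ B : ℕ, ∑ i ∈ Finset.range (B + 1), (-1 : ℤ) ^ i * (Φ (E₁ i) + Φ (E₃ i) - Φ (E₂ i)) = (-1 : ℤ) ^ B * rd B := by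
    intro B
    induction B with
    | zero => rw [Finset.sum_range_one, A1, A2, A30]; ring
    | succ B ih => rw [Finset.sum_range_succ, ih, A1, A2, A3, pow_succ]; ring
  haveI : Subsingleton (LinearMap.range (δ D)) := (δ D).surjective_rangeRestrict.subsingleton
  have hlast : rd D = 0 := hΦ.zero (LinearMap.range (δ D))
  have hk := key D
  rw [hlast, mul_zero] at hk
  simp only [mul_sub, mul_add, Finset.sum_sub_distrib, Finset.sum_add_distrib] at hk
  linarith

end AddOn

/-- Telescoping. -/
theorem sum_telescope (c k q : ℕ → ℤ) (h0 : q 0 = c 0) (hs : ∀ i, q (i + 1) = c (i + 1) + k i) :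
    ∀ D : ℕ, ∑ i ∈ Finset.range (D + 1), (-1 : ℤ) ^ i * q i =
      ∑ i ∈ Finset.range (D + 1), (-1 : ℤ) ^ i * (c i - k i) + (-1 : ℤ) ^ D * k D := by
  intro D
  induction D with
  | zero => simp [Finset.sum_range_one, h0]
  | succ D ih => rw [Finset.sum_range_succ, ih, Finset.sum_range_succ _ (D + 1), hs, pow_succ]; ring

section Model

variable (N : Type u) [AddCommGroup N] [Module R N]

/-- A model of `Tor` in the first variable. -/
abbrev TP (M : Type u) [AddCommGroup M] [Module R M] (q : ℕ) : ModuleCat.{u} R :=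
  (TorRegLib.G (projectiveResolution (ModuleCat.of R N)) (ModuleCat.of R M)).homology q

theorem nonempty_TP (M : Type u) [AddCommGroup M] [Module R M] (q : ℕ) :
    Nonempty (DRing.Tor R q M N ≃ₗ[R] TP (R := R) N M q) :=
  ⟨((projectiveResolution (ModuleCat.of R N)).isoLeftDerivedObj
    ((MonoidalCategory.tensoringLeft (ModuleCat.{u} R)).obj (ModuleCat.of R M)) q).toLinearEquiv⟩

variable [IsNoetherianRing R] [Module.Finite R N]

instance finite_TP (M : Type u) [AddCommGroup M] [Module R M] [Module.Finite R M] (q : ℕ) :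
    Module.Finite R (TP (R := R) N M q) :=
  haveI := IntMultRegLib.finite_tor (R := R) N q M
  Module.Finite.equiv (nonempty_TP N M q).some

omit [Module.Finite R N] [IsNoetherianRing R] in
theorem inV_TP (M : Type u) [AddCommGroup M] [Module R M] {J : Ideal R}
    (hJ : J ≤ Module.annihilator R M ⊔ Module.annihilator R N) (q : ℕ) : InV J (TP (R := R) N M q) := fun p hp => by
  rw [← (nonempty_TP N M q).some.annihilator_eq] at hp
  exact (hJ.trans (IntMultRegLib.tor_killed M N q)).trans hp

omit [Module.Finite R N] in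
theorem subsingleton_TP [IsLocalRing R] [IsRegularLocalRing R] (M : Type u) [AddCommGroup M] [Module R M] [Module.Finite R M]
    (q : ℕ) (hq : (IsLocalRing.maximalIdeal R).spanFinrank < q) : Subsingleton (TP (R := R) N M q) :=
  haveI := IntMultRegLib.subsingleton_tor_regular (R := R) M N q hq
  (nonempty_TP N M q).some.symm.toEquiv.subsingleton

omit [IsNoetherianRing R] [Module.Finite R N] in
theorem exists_TP_les {M₁ M₂ M₃ : Type u} [AddCommGroup M₁] [Module R M₁] [AddCommGroup M₂] [Module R M₂]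
    [AddCommGroup M₃] [Module R M₃] (f : M₁ →ₗ[R] M₂) (g : M₂ →ₗ[R] M₃) (hf : Injective f) (hg : Surjective g)
    (he : Exact f g) :
    ∃ (a : ∀ i, TP N M₁ i →ₗ[R] TP N M₂ i) (b : ∀ i, TP (R := R) N M₂ i →ₗ[R] TP N M₃ i)
      (δ : ∀ i, TP (R := R) N M₃ (i + 1) →ₗ[R] TP N M₁ i),
      (∀ i, Exact (δ i) (a i)) ∧ (∀ i, Exact (a i) (b i)) ∧ (∀ i, Exact (b (i + 1)) (δ i)) ∧ Surjective (b 0) ∧
        a = fun i => (HomologicalComplex.homologyMap
          (TorRegLib.Gmap (projectiveResolution (ModuleCat.of R N)) (ModuleCat.ofHom f)) i).hom := by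
  let P := projectiveResolution (ModuleCat.of R N)
  let S : ShortComplex (ModuleCat.{u} R) :=
    ShortComplex.moduleCatMk f g (LinearMap.ext fun x => he.apply_apply_eq_zero x)
  have hS : S.ShortExact :=
    { exact := (ShortComplex.ShortExact.moduleCat_exact_iff_function_exact _).2 he
      mono_f := (ModuleCat.mono_iff_injective _).2 hf
      epi_g := (ModuleCat.epi_iff_surjective _).2 hg }
  have hC := TorRegLib.cx_shortExact P S hS
  refine ⟨fun i => (HomologicalComplex.homologyMap (TorRegLib.cx P S).f i).hom,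
    fun i => (HomologicalComplex.homologyMap (TorRegLib.cx P S).g i).hom,
    fun i => (hC.δ (i + 1) i (by simp)).hom,
    fun i => (ShortComplex.ShortExact.moduleCat_exact_iff_function_exact _).1 (hC.homology_exact₁ (i + 1) i (by simp)),
    fun i => (ShortComplex.ShortExact.moduleCat_exact_iff_function_exact _).1 (hC.homology_exact₂ i),
    fun i => (ShortComplex.ShortExact.moduleCat_exact_iff_function_exact _).1 (hC.homology_exact₃ (i + 1) i (by simp)),
    fun y => ?_, rfl⟩
  obtain ⟨t, rfl⟩ := (TorShiftLib.h0 P (ModuleCat.of R M₃)).toLinearEquiv.symm.surjective y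
  obtain ⟨s, hs⟩ := LinearMap.rTensor_surjective N hg t
  refine ⟨(TorShiftLib.h0 P (ModuleCat.of R M₂)).toLinearEquiv.symm s,
    (TorShiftLib.h0 P (ModuleCat.of R M₃)).toLinearEquiv.injective ?_⟩
  rw [LinearEquiv.apply_symm_apply]
  refine Eq.trans ?_ hs
  have hn := LinearMap.congr_fun (congrArg ModuleCat.Hom.hom
    (TorShiftLib.h0_naturality P (ModuleCat.ofHom g))) ((TorShiftLib.h0 P (ModuleCat.of R M₂)).toLinearEquiv.symm s)
  refine hn.trans ?_
  exact congrArg (g.rTensor N) ((TorShiftLib.h0 P (ModuleCat.of R M₂)).toLinearEquiv.apply_symm_apply s)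

/-- Multiplication by a non-zero-divisor gives short exact sequences on `Tor`. -/
theorem exists_TP_smul (M : Type u) [AddCommGroup M] [Module R M] (x : R) (hx : IsSMulRegular M x) :
    ∃ (b : ∀ i, TP (R := R) N M i →ₗ[R] TP N (M ⧸ LinearMap.range (x • LinearMap.id : M →ₗ[R] M)) i)
      (δ : ∀ i, TP (R := R) N (M ⧸ LinearMap.range (x • LinearMap.id : M →ₗ[R] M)) (i + 1) →ₗ[R] TP N M i),
      (∀ i, Exact (x • LinearMap.id : TP (R := R) N M i →ₗ[R] TP N M i) (b i)) ∧ (∀ i, Exact (b (i + 1)) (δ i)) ∧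
        (∀ i, Exact (δ i) (x • LinearMap.id : TP (R := R) N M i →ₗ[R] TP N M i)) ∧ Surjective (b 0) := by
  obtain ⟨a, b, δ, h1, h2, h3, h0, ha⟩ := exists_TP_les N (x • LinearMap.id : M →ₗ[R] M)
    (LinearMap.range (x • LinearMap.id : M →ₗ[R] M)).mkQ (fun u v h => hx h) (Submodule.mkQ_surjective _)
    (LinearMap.exact_map_mkQ_range _)
  have ha' : ∀ i, a i = x • LinearMap.id := fun i => by
    rw [ha]
    have := TorRegLib.homologyMap_Gmap_smul (projectiveResolution (ModuleCat.of R N)) (ModuleCat.of R M) x i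
    exact congrArg ModuleCat.Hom.hom this
  exact ⟨b, δ, fun i => ha' i ▸ h2 i, h3, fun i => ha' i ▸ h1 i, h0⟩

end Model

section Main

open Groth.Agent.KoszChiLib (chi_cons' chi_add' chi_of_iso chi_nil radical_annihilator H_finite H_eq_zero les Hmap Idl_cons)

variable [IsNoetherianRing R] [IsLocalRing R] [IsRegularLocalRing R] (N : Type u) [AddCommGroup N] [Module R N]
  [Module.Finite R N]

/-- The three closed sets meet only at the closed point. -/
def Good (l : List R) (M : Type u) [AddCommGroup M] [Module R M] : Prop :=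
  ∀ p : PrimeSpectrum R, Idl l ⊔ (Module.annihilator R M ⊔ Module.annihilator R N) ≤ p.asIdeal → p.asIdeal.IsMaximal

omit [IsRegularLocalRing R] in
theorem fl_of_inV {l : List R} {J : Ideal R} (hJ : ∀ p : PrimeSpectrum R, Idl l ⊔ J ≤ p.asIdeal → p.asIdeal.IsMaximal)
    {M : Type u} [AddCommGroup M] [Module R M] (h : InV J M) : FL l (ModuleCat.of R M) := by
  show IsLocalRing.maximalIdeal R ≤ _
  rw [Ideal.radical_eq_sInf]
  refine le_sInf fun Q hQ => ?_
  have hm := hJ ⟨Q, hQ.2⟩ (sup_le (le_sup_left.trans hQ.1) (h ⟨Q, hQ.2⟩ (le_sup_right.trans hQ.1)))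
  exact (IsLocalRing.eq_maximalIdeal hm).ge

omit [IsRegularLocalRing R] in
theorem addOn_kchi {l : List R} {J : Ideal R}
    (hJ : ∀ p : PrimeSpectrum R, Idl l ⊔ J ≤ p.asIdeal → p.asIdeal.IsMaximal) :
    AddOn J (fun M _ _ => Groth.Agent.KoszChiLib.chi l (ModuleCat.of R M)) :=
  fun _ _ _ _ _ _ _ _ _ _ _ _ _ _ hf hg he hM => (chi_add' l he hf hg (fl_of_inV hJ hM)).2.2

theorem addOn_chi {J : Ideal R}
    (hJ : ∀ p : PrimeSpectrum R, J ⊔ Module.annihilator R N ≤ p.asIdeal → p.asIdeal.IsMaximal) :
    AddOn J (fun M _ _ => IntMult.chi R M N) :=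
  fun _ _ _ _ _ _ _ _ _ _ _ _ f g hf hg he hM => IntMultRegLib.chi_additive f g hf hg he
    fun p hp => hJ p (sup_le (hM p (le_sup_left.trans hp)) (le_sup_right.trans hp))

/-- The first order. -/
def FF (l : List R) (M : Type u) [AddCommGroup M] [Module R M] : ℤ :=
  ∑ q ∈ Finset.range ((IsLocalRing.maximalIdeal R).spanFinrank + 2),
    (-1 : ℤ) ^ q * Groth.Agent.KoszChiLib.chi l (TP (R := R) N M q)

/-- The second order. -/
def GG (l : List R) (M : Type u) [AddCommGroup M] [Module R M] : ℤ :=
  ∑ p ∈ Finset.range (l.length + 2), (-1 : ℤ) ^ p * IntMult.chi R (H l (ModuleCat.of R M) (-(p : ℤ))) N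

omit [IsLocalRing R] [IsRegularLocalRing R] [Module.Finite R N] [IsNoetherianRing R] in
theorem inV_H (l : List R) (M : Type u) [AddCommGroup M] [Module R M] {J : Ideal R}
    (hJ : J ≤ Idl l ⊔ Module.annihilator R M) (i : ℤ) : InV J (H l (ModuleCat.of R M) i) := fun p hp =>
  (hJ.trans (radical_annihilator l (ModuleCat.of R M) i)).trans (p.isPrime.radical_le_iff.2 hp)

theorem FF_add {l : List R} {L M P : Type u} [AddCommGroup L] [Module R L] [AddCommGroup M] [Module R M] [AddCommGroup P]
    [Module R P] [Module.Finite R L] [Module.Finite R M] [Module.Finite R P] (f : L →ₗ[R] M) (g : M →ₗ[R] P)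
    (hf : Injective f) (hg : Surjective g) (he : Exact f g) (h : Good N l M) : FF N l M = FF N l L + FF N l P := by
  obtain ⟨a, b, δ, h1, h2, h3, h0, -⟩ := exists_TP_les N f g hf hg he
  haveI : Subsingleton (TP (R := R) N P ((IsLocalRing.maximalIdeal R).spanFinrank + 1 + 1)) :=
    subsingleton_TP N P _ (by omega)
  exact AddOn.les (addOn_kchi (l := l) (J := Module.annihilator R M ⊔ Module.annihilator R N) h)
    (fun i => TP N L i) (fun i => TP N M i) (fun i => TP N P i) a b δ h1 h2 h3 h0
    (fun i => inV_TP N L (sup_le_sup_right (f.annihilator_le_of_injective hf) _) i) (fun i => inV_TP N M le_rfl i)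
    (fun i => inV_TP N P (sup_le_sup_right (g.annihilator_le_of_surjective hg) _) i)
    ((IsLocalRing.maximalIdeal R).spanFinrank + 1)

theorem GG_add {l : List R} {L M P : Type u} [AddCommGroup L] [Module R L] [AddCommGroup M] [Module R M] [AddCommGroup P]
    [Module R P] [Module.Finite R L] [Module.Finite R M] [Module.Finite R P] (f : L →ₗ[R] M) (g : M →ₗ[R] P)
    (hf : Injective f) (hg : Surjective g) (he : Exact f g) (h : Good N l M) : GG N l M = GG N l L + GG N l P := by
  let a : ModuleCat.of R L ⟶ ModuleCat.of R M := ModuleCat.ofHom f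
  let b : ModuleCat.of R M ⟶ ModuleCat.of R P := ModuleCat.ofHom g
  have w : a ≫ b = 0 := ModuleCat.hom_ext (LinearMap.ext fun y => he.apply_apply_eq_zero y)
  have hS : (ShortComplex.mk a b w).ShortExact :=
    { exact := (ShortComplex.ShortExact.moduleCat_exact_iff_function_exact _).2 he
      mono_f := (ModuleCat.mono_iff_injective _).2 hf
      epi_g := (ModuleCat.epi_iff_surjective _).2 hg }
  choose d k1 k2 k3 using les l a b w hS
  have hi : ∀ i : ℕ, -((i + 1 : ℕ) : ℤ) + 1 = -(i : ℤ) := fun i => by push_cast; omega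
  let δ : ∀ i : ℕ, H l (ModuleCat.of R P) (-((i + 1 : ℕ) : ℤ)) →ₗ[R] H l (ModuleCat.of R L) (-(i : ℤ)) :=
    fun i => (eqToHom (congrArg (H l (ModuleCat.of R L)) (hi i))).hom ∘ₗ d (-((i + 1 : ℕ) : ℤ))
  have x13 : ∀ i, Exact (δ i) (Hmap l a (-(i : ℤ))) ∧ Exact (Hmap l b (-((i + 1 : ℕ) : ℤ))) (δ i) := by
    intro i
    simp only [δ]
    generalize hi i = e
    revert e
    generalize -(i : ℤ) = j
    rintro rfl
    simp only [eqToHom_refl, ModuleCat.hom_id, LinearMap.id_comp]
    exact ⟨k3 _, k2 _⟩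
  haveI : ∀ (Q : Type u) [AddCommGroup Q] [Module R Q] [Module.Finite R Q] (i : ℤ),
      Module.Finite R (H l (ModuleCat.of R Q) i) := fun Q _ _ _ i => H_finite l (ModuleCat.of R Q) i
  haveI : Subsingleton (H l (ModuleCat.of R P) (-((l.length + 1 + 1 : ℕ) : ℤ))) :=
    H_eq_zero l _ _ (Or.inr (by push_cast; omega))
  have hsur : Surjective (Hmap l b (-((0 : ℕ) : ℤ))) := fun y => by
    haveI : Subsingleton (H l (ModuleCat.of R L) (-((0 : ℕ) : ℤ) + 1)) := H_eq_zero l _ _ (Or.inl (by simp))
    exact (k2 _ y).1 (Subsingleton.elim _ _)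
  refine AddOn.les (addOn_chi N (J := Idl l ⊔ Module.annihilator R M) ?_)
    (fun i => H l (ModuleCat.of R L) (-(i : ℤ))) (fun i => H l (ModuleCat.of R M) (-(i : ℤ)))
    (fun i => H l (ModuleCat.of R P) (-(i : ℤ))) (fun i => Hmap l a _) (fun i => Hmap l b _) δ
    (fun i => (x13 i).1) (fun i => k1 _) (fun i => (x13 i).2) hsur
    (fun i => inV_H l L (sup_le_sup_left (f.annihilator_le_of_injective hf) _) _) (fun i => inV_H l M le_rfl _)
    (fun i => inV_H l P (sup_le_sup_left (g.annihilator_le_of_surjective hg) _) _) (l.length + 1)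
  intro p hp
  rw [sup_assoc] at hp
  exact h p hp

theorem FF_nil (M : Type u) [AddCommGroup M] [Module R M] [Module.Finite R M] :
    FF N ([] : List R) M = IntMult.chi R M N := by
  rw [FF, IntMult.chi, finsum_eq_sum_of_support_subset _ (s := Finset.range ((IsLocalRing.maximalIdeal R).spanFinrank + 2))]
  · refine Finset.sum_congr rfl fun q _ => ?_
    rw [chi_nil, Groth.Agent.KoszChiLib.ell, (nonempty_TP N M q).some.length_eq]
  · intro q hq
    rw [Finset.coe_range, Set.mem_Iio]
    by_contra hlt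
    haveI := IntMultRegLib.subsingleton_tor_regular (R := R) M N q (by omega)
    exact hq (by simp [Module.length_eq_zero_iff.2 ‹Subsingleton (DRing.Tor R q M N)›])

theorem GG_nil (M : Type u) [AddCommGroup M] [Module R M] [Module.Finite R M] :
    GG N ([] : List R) M = IntMult.chi R M N := by
  haveI : Subsingleton (H ([] : List R) (ModuleCat.of R M) (-((1 : ℕ) : ℤ))) := H_eq_zero _ _ _ (Or.inr (by simp))
  rw [GG, show ([] : List R).length + 2 = 1 + 1 from rfl, Finset.sum_range_succ, Finset.sum_range_one]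
  have h1 : IntMult.chi R (H ([] : List R) (ModuleCat.of R M) (-((1 : ℕ) : ℤ))) N = 0 := finsum_eq_zero_of_forall_eq_zero fun i => by
    have : Module.length R (DRing.Tor R i (H ([] : List R) (ModuleCat.of R M) (-((1 : ℕ) : ℤ))) N) = 0 := by
      refine Module.length_eq_zero_iff.2 (subsingleton_of_forall_eq 0 fun y => ?_)
      have h1 : (1 : R) ∈ Module.annihilator R (H ([] : List R) (ModuleCat.of R M) (-((1 : ℕ) : ℤ))) :=
        Module.mem_annihilator.2 fun x => Subsingleton.elim _ _
      simpa using Module.mem_annihilator.1 (IntMultRegLib.tor_killed _ N i (Ideal.mem_sup_left h1)) y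
    rw [this]; simp
  rw [h1, mul_zero, add_zero, pow_zero, one_mul]
  exact IntMultRegLib.chi_congr (Groth.Agent.KoszChiLib.H_nil (ModuleCat.of R M))

theorem step_mem (x : R) (l : List R) (M : Type u) [AddCommGroup M] [Module R M] [Module.Finite R M]
    (h : Good N (x :: l) M) (hx : x ∈ Module.annihilator R M) : FF N (x :: l) M = 0 ∧ GG N (x :: l) M = 0 := by
  have hgood : Good N l M := fun p hp => h p (sup_le (by
    rw [Idl_cons]
    exact sup_le ((Ideal.span_singleton_le_iff_mem _).2 ((le_sup_left.trans (le_sup_right.trans hp)) hx))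
      (le_sup_left.trans hp)) (le_sup_right.trans hp))
  have hzero : ∀ (Q : Type u) [AddCommGroup Q] [Module R Q], (∀ y : Q, x • y = 0) →
      (x • LinearMap.id : Q →ₗ[R] Q) = 0 := fun Q _ _ hQ => LinearMap.ext hQ
  refine ⟨Finset.sum_eq_zero fun q _ => ?_, ?_⟩
  · haveI := finite_TP (R := R) N M q
    have hk : ∀ y : TP (R := R) N M q, x • y = 0 := fun y => by
      have hk := IntMultRegLib.tor_killed M N q (Ideal.mem_sup_left hx)
      rw [(nonempty_TP N M q).some.annihilator_eq] at hk
      exact Module.mem_annihilator.1 hk y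
    have hfl : FL (x :: l) (TP (R := R) N M q) :=
      fl_of_inV (J := Module.annihilator R M ⊔ Module.annihilator R N) h (inV_TP N M le_rfl q)
    have h0 := hzero _ hk
    rw [chi_cons' x l _ hfl,
      chi_of_iso l ((Submodule.quotEquivOfEqBot _ (by rw [h0]; exact LinearMap.range_zero)).toModuleIso :
        ModuleCat.of R (TP (R := R) N M q ⧸ LinearMap.range (x • LinearMap.id)) ≅ TP (R := R) N M q),
      chi_of_iso l ((LinearEquiv.ofTop _ (by rw [h0]; exact LinearMap.ker_zero)).toModuleIso :
        ModuleCat.of R (LinearMap.ker (x • LinearMap.id : TP (R := R) N M q →ₗ[R] _)) ≅ TP (R := R) N M q),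
      sub_self, mul_zero]
  · let J := Idl l ⊔ Module.annihilator R M
    have hJ : ∀ p : PrimeSpectrum R, J ⊔ Module.annihilator R N ≤ p.asIdeal → p.asIdeal.IsMaximal := fun p hp =>
      hgood p (by rwa [← sup_assoc])
    have hΦ := addOn_chi N hJ
    haveI hf : ∀ (l : List R) (i : ℤ), Module.Finite R (H l (ModuleCat.of R M) i) := fun l i => H_finite l _ i
    have hk : ∀ i (y : H l (ModuleCat.of R M) i), x • y = 0 := fun i y => by
      have h1 : ModuleCat.ofHom (x • LinearMap.id : M →ₗ[R] M) = 0 :=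
        ModuleCat.hom_ext (hzero M (Module.mem_annihilator.1 hx))
      have h2 := Groth.Agent.KoszChiLib.Hmap_smul_id l (ModuleCat.of R M) x i
      rw [show x • 𝟙 (ModuleCat.of R M) = 0 from h1] at h2
      have h3 : Hmap l (0 : ModuleCat.of R M ⟶ ModuleCat.of R M) i = 0 := by
        have := Groth.Agent.KoszChiLib.Hmap_smul_id l (ModuleCat.of R M) 0 i
        rwa [zero_smul, zero_smul] at this
      exact (LinearMap.congr_fun (h2.symm.trans h3) y)
    have hInV : ∀ i, InV J (H l (ModuleCat.of R M) i) := fun i => inV_H l M le_rfl i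
    have hx' : InV J (H (x :: l) (ModuleCat.of R M) (0 : ℤ)) :=
      inV_H (x :: l) M (sup_le_sup_right (by rw [Idl_cons]; exact le_sup_right) _) _
    let hh : ℤ → ℤ := fun i => IntMult.chi R (H l (ModuleCat.of R M) i) N
    have key : ∀ i : ℤ, IntMult.chi R (H (x :: l) (ModuleCat.of R M) i) N = hh i + hh (i + 1) := fun i => by
      obtain ⟨g, h', e1, e2, e3⟩ := Groth.Agent.KoszChiLib.five x l (ModuleCat.of R M) i
      rw [hΦ.five e1 e2 e3 (inV_H (x :: l) M (sup_le_sup_right (by rw [Idl_cons]; exact le_sup_right) _) i)]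
      congr 1
      · exact (hΦ.congr (Submodule.quotEquivOfEqBot _ (by rw [hzero _ (hk i)]; exact LinearMap.range_zero)).symm (hInV i)).symm
      · exact (hΦ.congr (LinearEquiv.ofTop _ (by rw [hzero _ (hk (i + 1))]; exact LinearMap.ker_zero)).symm (hInV _)).symm
    have hz : ∀ i : ℤ, (0 < i ∨ i < -(l.length : ℤ)) → hh i = 0 := fun i hi => by
      haveI := H_eq_zero l (ModuleCat.of R M) i hi
      exact hΦ.zero _
    rw [GG, List.length_cons]
    have ht := sum_telescope (fun i => hh (-(i : ℤ))) (fun i => hh (-(i : ℤ)))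
      (fun p => IntMult.chi R (H (x :: l) (ModuleCat.of R M) (-(p : ℤ))) N)
      (by rw [key, hz (-((0 : ℕ) : ℤ) + 1) (Or.inl (by simp)), add_zero])
      (fun i => by rw [key]; congr 2; push_cast; omega) (l.length + 1 + 1)
    rw [show l.length + 1 + 2 = l.length + 1 + 1 + 1 from rfl, ht, hz _ (Or.inr (by push_cast; omega))]
    simp

theorem step_regular (x : R) (l : List R) (M : Type u) [AddCommGroup M] [Module R M] [Module.Finite R M]
    (h : Good N (x :: l) M) (hx : IsSMulRegular M x) :
    Good N l (M ⧸ LinearMap.range (x • LinearMap.id : M →ₗ[R] M)) ∧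
      FF N (x :: l) M = FF N l (M ⧸ LinearMap.range (x • LinearMap.id : M →ₗ[R] M)) ∧
      GG N (x :: l) M = GG N l (M ⧸ LinearMap.range (x • LinearMap.id : M →ₗ[R] M)) := by
  set φ : M →ₗ[R] M := x • LinearMap.id with hφ
  let Q := M ⧸ LinearMap.range φ
  have hxQ : x ∈ Module.annihilator R Q := Module.mem_annihilator.2 fun y => by
    obtain ⟨y, rfl⟩ := Submodule.Quotient.mk_surjective _ y
    exact (Submodule.Quotient.mk_eq_zero _).2 ⟨y, rfl⟩
  have hann : Module.annihilator R M ≤ Module.annihilator R Q :=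
    (LinearMap.range φ).mkQ.annihilator_le_of_surjective (Submodule.mkQ_surjective _)
  have hgood : Good N l Q := fun p hp => by
    refine h p ?_
    rw [Idl_cons]
    exact sup_le (sup_le ((Ideal.span_singleton_le_iff_mem _).2 ((le_sup_left.trans (le_sup_right.trans hp)) hxQ))
      (le_sup_left.trans hp)) (sup_le (hann.trans (le_sup_left.trans (le_sup_right.trans hp)))
        (le_sup_right.trans (le_sup_right.trans hp)))
  refine ⟨hgood, ?_, ?_⟩
  · obtain ⟨b, δ, h1, h2, h3, h0⟩ := exists_TP_smul N M x hx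
    let D := (IsLocalRing.maximalIdeal R).spanFinrank + 1
    let J := Module.annihilator R Q ⊔ Module.annihilator R N
    have hΦ := addOn_kchi (l := l) (J := J) hgood
    let cc := fun i => Groth.Agent.KoszChiLib.chi l
      (ModuleCat.of R (TP (R := R) N M i ⧸ LinearMap.range (x • LinearMap.id : TP (R := R) N M i →ₗ[R] TP N M i)))
    let kk := fun i => Groth.Agent.KoszChiLib.chi l
      (ModuleCat.of R (LinearMap.ker (x • LinearMap.id : TP (R := R) N M i →ₗ[R] TP N M i)))
    haveI hfT : ∀ i, Module.Finite R (TP (R := R) N Q i) := fun i => finite_TP N Q i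
    haveI hfT' : ∀ i, Module.Finite R (TP (R := R) N M i) := fun i => finite_TP N M i
    have e0 : Groth.Agent.KoszChiLib.chi l (TP (R := R) N Q 0) = cc 0 := by
      refine hΦ.congr (M := TP (R := R) N Q 0) ((LinearEquiv.ofTop _ (LinearMap.range_eq_top.2 h0)).symm.trans
        ((b 0).quotKerEquivRange.symm.trans (Submodule.quotEquivOfEq _ _ (h1 0).linearMap_ker_eq))) ?_
      exact inV_TP N Q le_rfl 0
    have es : ∀ i, Groth.Agent.KoszChiLib.chi l (TP (R := R) N Q (i + 1)) = cc (i + 1) + kk i := fun i =>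
      hΦ.five (L₂ := TP (R := R) N M (i + 1)) (M := TP (R := R) N Q (i + 1)) (h1 (i + 1)) (h2 i) (h3 i) (inV_TP N Q le_rfl (i + 1))
    have ht := sum_telescope cc kk (fun q => Groth.Agent.KoszChiLib.chi l (TP (R := R) N Q q)) e0 es D
    have hkD : kk D = 0 := by
      haveI := subsingleton_TP (R := R) N M D (by omega)
      haveI : Subsingleton (LinearMap.ker (x • LinearMap.id : TP (R := R) N M D →ₗ[R] TP N M D)) :=
        Subtype.val_injective.subsingleton
      exact hΦ.zero _
    rw [hkD, mul_zero, add_zero] at ht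
    show FF N (x :: l) M = ∑ q ∈ Finset.range (D + 1), (-1 : ℤ) ^ q * _
    rw [ht, FF]
    refine Finset.sum_congr rfl fun q _ => ?_
    rw [chi_cons' x l _ (fl_of_inV (J := Module.annihilator R M ⊔ Module.annihilator R N) h (inV_TP N M le_rfl q))]
  · let a : ModuleCat.of R M ⟶ ModuleCat.of R M := x • 𝟙 _
    let b : ModuleCat.of R M ⟶ ModuleCat.of R Q := ModuleCat.ofHom (LinearMap.range φ).mkQ
    have w : a ≫ b = 0 := ModuleCat.hom_ext (LinearMap.ext fun y => (Submodule.Quotient.mk_eq_zero _).2 ⟨y, rfl⟩)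
    have hS : (ShortComplex.mk a b w).ShortExact :=
      { exact := (ShortComplex.ShortExact.moduleCat_exact_iff_function_exact _).2 (LinearMap.exact_map_mkQ_range φ)
        mono_f := (ModuleCat.mono_iff_injective _).2 (fun u v e => hx e)
        epi_g := (ModuleCat.epi_iff_surjective _).2 (Submodule.mkQ_surjective _) }
    let J := Idl l ⊔ Module.annihilator R Q
    have hJ : ∀ p : PrimeSpectrum R, J ⊔ Module.annihilator R N ≤ p.asIdeal → p.asIdeal.IsMaximal := fun p hp =>
      hgood p (by rwa [← sup_assoc])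
    have hΦ := addOn_chi N hJ
    haveI hfM : ∀ (l : List R) (i : ℤ), Module.Finite R (H l (ModuleCat.of R M) i) := fun l i => H_finite l _ i
    haveI hfQ : ∀ (l : List R) (i : ℤ), Module.Finite R (H l (ModuleCat.of R Q) i) := fun l i => H_finite l _ i
    have hJ' : J ≤ (Idl (x :: l) ⊔ Module.annihilator R M).radical := by
      refine sup_le ((le_sup_of_le_left (by rw [Idl_cons]; exact le_sup_right)).trans Ideal.le_radical) ?_
      intro r hr
      rw [Ideal.radical_eq_sInf, Ideal.mem_sInf]
      intro p hp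
      have hmem : (⟨p, hp.2⟩ : PrimeSpectrum R) ∈ Module.support R Q := by
        show _ ∈ Module.support R (M ⧸ LinearMap.range φ)
        rw [show LinearMap.range φ = Ideal.span {x} • (⊤ : Submodule R M) from by
          rw [Submodule.ideal_span_singleton_smul]
          ext y
          rw [LinearMap.mem_range, Submodule.mem_smul_pointwise_iff_exists]
          simp [φ],
          Module.support_quotient]
        refine ⟨Module.mem_support_iff_of_finite.2 (le_sup_right.trans hp.1), (PrimeSpectrum.mem_zeroLocus _ _).2 ?_⟩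
        have hxp : Ideal.span {x} ≤ p := le_trans (by rw [Idl_cons]; exact le_sup_left) (le_sup_left.trans hp.1)
        exact hxp
      exact Module.mem_support_iff_of_finite.1 hmem hr
    have key : ∀ i : ℤ, IntMult.chi R (H (x :: l) (ModuleCat.of R M) i) N = IntMult.chi R (H l (ModuleCat.of R Q) i) N := by
      intro i
      obtain ⟨d, k1, k2, k3⟩ := les l a b w hS i
      obtain ⟨g, h', e1, e2, e3⟩ := Groth.Agent.KoszChiLib.five x l (ModuleCat.of R M) i
      rw [Groth.Agent.KoszChiLib.Hmap_smul_id] at k1 k3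
      rw [hΦ.five k1 k2 k3 (inV_H l Q le_rfl i)]
      refine hΦ.five e1 e2 e3 fun p hp => hJ'.trans ?_
      exact (Ideal.radical_le_radical_iff.2 (radical_annihilator (x :: l) (ModuleCat.of R M) i)).trans
        (p.isPrime.radical_le_iff.2 hp)
    rw [GG, GG, List.length_cons, show l.length + 1 + 2 = l.length + 2 + 1 from rfl, Finset.sum_range_succ]
    haveI : Subsingleton (H l (ModuleCat.of R Q) (-((l.length + 2 : ℕ) : ℤ))) := H_eq_zero l _ _ (Or.inr (by push_cast; omega))
    rw [key, hΦ.zero, mul_zero, add_zero]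
    exact Finset.sum_congr rfl fun p _ => by rw [key]

/-- The two orders agree. -/
theorem FF_eq_GG : ∀ (l : List R) (M : Type u) [AddCommGroup M] [Module R M] [Module.Finite R M],
    Good N l M → FF N l M = GG N l M
  | [], M, _, _, _, _ => (FF_nil N M).trans (GG_nil N M).symm
  | x :: l, M, _, _, _, h => by
    revert h
    refine IsNoetherianRing.induction_on_isQuotientEquivQuotientPrime (A := R) (M := M) inferInstance
      (motive := fun (L : Type u) [AddCommGroup L] [Module R L] [Module.Finite R L] =>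
        Good N (x :: l) L → FF N (x :: l) L = GG N (x :: l) L) ?_ ?_ ?_
    · intro L _ _ _ _ hL
      have hx : x ∈ Module.annihilator R L := Module.mem_annihilator.2 fun y => Subsingleton.elim _ _
      rw [(step_mem N x l L hL hx).1, (step_mem N x l L hL hx).2]
    · intro L _ _ _ P e hL
      by_cases hx : x ∈ P.asIdeal
      · have hx' : x ∈ Module.annihilator R L := by rw [e.annihilator_eq, Ideal.annihilator_quotient]; exact hx
        rw [(step_mem N x l L hL hx').1, (step_mem N x l L hL hx').2]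
      · have hreg : IsSMulRegular L x := by
          rw [e.isSMulRegular_congr]
          intro a b hab
          obtain ⟨a, rfl⟩ := Ideal.Quotient.mk_surjective a
          obtain ⟨b, rfl⟩ := Ideal.Quotient.mk_surjective b
          have h1 : Ideal.Quotient.mk P.asIdeal (x * a) = Ideal.Quotient.mk P.asIdeal (x * b) := hab
          rw [Ideal.Quotient.eq, ← mul_sub] at h1
          exact (Ideal.Quotient.eq).2 ((P.isPrime.mem_or_mem h1).resolve_left hx)
        obtain ⟨hg, h1, h2⟩ := step_regular N x l L hL hreg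
        rw [h1, h2]
        exact FF_eq_GG l _ hg
    · intro M₁ _ _ _ M₂ _ _ _ M₃ _ _ _ f g hf hg he ih₁ ih₃ h₂
      have g₁ : Good N (x :: l) M₁ := fun p hp => h₂ p (le_trans (sup_le_sup_left
        (sup_le_sup_right (f.annihilator_le_of_injective hf) _) _) hp)
      have g₃ : Good N (x :: l) M₃ := fun p hp => h₂ p (le_trans (sup_le_sup_left
        (sup_le_sup_right (g.annihilator_le_of_surjective hg) _) _) hp)
      rw [FF_add N f g hf hg he h₂, GG_add N f g hf hg he h₂, ih₁ g₁, ih₃ g₃]

end Main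

end DiagTorLib
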