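import Groth.Agent.DiagTorLib.Algebra
import Mathlib.RingTheory.RingHom.Flat
import Mathlib.LinearAlgebra.TensorProduct.Quotient

/-!
# Intersection numbers of quotients, reduced to the diagonal
-/

set_option autoImplicit false
set_option backward.isDefEq.respectTransparency false
set_option backward.isDefEq.respectTransparency.types false

universe u

open TensorProduct

noncomputable section

namespace DiagTorLib

variable {A B : Type u} [CommRing A] [CommRing B] [Algebra B A]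

/-- Quotients by two ideals. -/
theorem nonempty_quot_tensor_quot (R : Type u) [CommRing R] (I J : Ideal R) :
    Nonempty (((R ⧸ I) ⊗[R] (R ⧸ J)) ≃ₗ[R] (R ⧸ (J ⊔ I))) := by
  let f : R →ₗ[R] ((R ⧸ J) ⧸ I • (⊤ : Submodule R (R ⧸ J))) := Submodule.mkQ _ ∘ₗ Submodule.mkQ J
  have hf : Function.Surjective f := (Submodule.mkQ_surjective _).comp (Submodule.mkQ_surjective _)
  have hk : LinearMap.ker f = J ⊔ I := by
    have htop : (⊤ : Submodule R (R ⧸ J)) = (⊤ : Submodule R R).map (Submodule.mkQ J) := by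
      rw [Submodule.map_top, Submodule.range_mkQ]
    rw [LinearMap.ker_comp, Submodule.ker_mkQ, htop, ← Submodule.map_smul'', Submodule.comap_map_mkQ,
      show (I • (⊤ : Submodule R R) : Submodule R R) = I from Ideal.mul_top I]
  exact ⟨(TensorProduct.quotTensorEquivQuotSMul (R ⧸ J) I).trans
    ((Submodule.quotEquivOfEq _ _ hk.symm).trans (LinearMap.quotKerEquivOfSurjective f hf)).symm⟩

theorem subsingleton_tor_quot' [Algebra A B] [IsScalarTower A B A] [Module.Flat A B] (I : Ideal A)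
    (P : Type u) [AddCommGroup P] [Module B P] [Module.Flat B P] {i : ℕ} (hi : 0 < i) :
    Subsingleton (DRing.Tor B i (P ⊗[B] (B ⧸ I.map (algebraMap A B))) A) := by
  haveI := subsingleton_tor_of_flat (A := A) (B := B) P (A ⧸ I) hi
  let e : (P ⊗[B] (B ⧸ I.map (algebraMap A B))) ≃ₗ[B] P ⊗[B] (B ⊗[A] (A ⧸ I)) :=
    TensorProduct.congr (LinearEquiv.refl B P) (Ideal.qoutMapEquivTensorQout B)
  obtain ⟨e'⟩ := nonempty_tor_congr (R := B) (M := P ⊗[B] (B ⧸ I.map (algebraMap A B)))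
    (M' := P ⊗[B] (B ⊗[A] (A ⧸ I))) e (LinearEquiv.refl B A) i
  exact e'.toEquiv.subsingleton

theorem subsingleton_tor_quot (ι₂ : A →+* B) (h2 : ∀ a, algebraMap B A (ι₂ a) = a) (hι₂ : ι₂.Flat) (I : Ideal A)
    (P : Type u) [AddCommGroup P] [Module B P] [Module.Flat B P] {i : ℕ} (hi : 0 < i) :
    Subsingleton (DRing.Tor B i (P ⊗[B] (B ⧸ I.map ι₂)) A) := by
  letI := ι₂.toAlgebra
  haveI : IsScalarTower A B A := IsScalarTower.of_algebraMap_eq fun a => (h2 a).symm
  haveI : Module.Flat A B := hι₂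
  exact subsingleton_tor_quot' I P hi

variable [Algebra A B] [IsScalarTower A B A]

/-- The lengths of `Tor` against the diagonal. -/
theorem length_tor [Module.Flat A B] (ι₂ : A →+* B) (h2 : ∀ a, algebraMap B A (ι₂ a) = a) (hι₂ : ι₂.Flat)
    (I J : Ideal A) (hQ : ((Ideal.Quotient.mk (I.map ι₂)).comp (algebraMap A B)).Flat) (i : ℕ) :
    Module.length B (DRing.Tor B i (B ⧸ RingHom.ker (algebraMap B A))
        (B ⧸ (J.map (algebraMap A B) ⊔ I.map ι₂))) =
      Module.length A (DRing.Tor A i (A ⧸ J) (A ⧸ I)) := by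
  have hs : Function.Surjective (algebraMap B A) := fun a => ⟨algebraMap A B a, by
    rw [← IsScalarTower.algebraMap_apply A B A]; rfl⟩
  haveI : Module.Flat A (B ⧸ I.map ι₂) := RingHom.flat_algebraMap_iff.1 hQ
  have h := semi_tor_of_flat (A := A) (B := B) (B ⧸ I.map ι₂)
    (fun P _ _ _ j hj => subsingleton_tor_quot ι₂ h2 hι₂ I P hj) i (A ⧸ J)
  obtain ⟨eq⟩ := nonempty_quot_tensor_quot B (I.map ι₂) (J.map (algebraMap A B))
  let e₁ : ((B ⧸ I.map ι₂) ⊗[B] (B ⊗[A] (A ⧸ J))) ≃ₗ[B] (B ⧸ (J.map (algebraMap A B) ⊔ I.map ι₂)) :=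
    (TensorProduct.congr (LinearEquiv.refl B (B ⧸ I.map ι₂)) (Ideal.qoutMapEquivTensorQout B).symm).trans eq
  have hI : (I.map ι₂).map (algebraMap B A) = I := by
    rw [Ideal.map_map, show (algebraMap B A).comp ι₂ = RingHom.id A from RingHom.ext h2, Ideal.map_id]
  let e₂ : (A ⊗[B] (B ⧸ I.map ι₂)) ≃ₗ[A] (A ⧸ I) :=
    (Ideal.qoutMapEquivTensorQout A).symm.trans (Submodule.quotEquivOfEq _ _ hI)
  have hk : LinearMap.ker (Algebra.linearMap B A) = RingHom.ker (algebraMap B A) := rfl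
  let e₃ : (B ⧸ RingHom.ker (algebraMap B A)) ≃ₗ[B] A :=
    (Submodule.quotEquivOfEq _ _ hk.symm).trans (LinearMap.quotKerEquivOfSurjective (Algebra.linearMap B A) hs)
  obtain ⟨f₁⟩ := nonempty_tor_congr (R := B) (M := B ⧸ RingHom.ker (algebraMap B A)) (M' := A) e₃ e₁.symm i
  obtain ⟨f₂⟩ := nonempty_tor_congr (R := A) (M := A ⧸ J) (M' := A ⧸ J)
    (LinearEquiv.refl A (A ⧸ J)) e₂ i
  rw [f₁.length_eq, IntMultRegLib.length_tor_comm, h.length_eq hs, f₂.length_eq]

/-- The intersection number is one against the diagonal. -/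
theorem chi_eq [Module.Flat A B] (ι₂ : A →+* B) (h2 : ∀ a, algebraMap B A (ι₂ a) = a) (hι₂ : ι₂.Flat)
    (I J : Ideal A) (hQ : ((Ideal.Quotient.mk (I.map ι₂)).comp (algebraMap A B)).Flat) :
    IntMult.chi B (B ⧸ RingHom.ker (algebraMap B A)) (B ⧸ (J.map (algebraMap A B) ⊔ I.map ι₂)) =
      IntMult.chi A (A ⧸ J) (A ⧸ I) :=
  finsum_congr fun i => by rw [length_tor ι₂ h2 hι₂ I J hQ i]

section Flat

variable (K R : Type u) [Field K] [CommRing R] [Algebra K R]

/-- The hypothesis on the second factor, from flatness over the enveloping algebra. -/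
theorem flat_quot {C : Type u} [CommRing C] [Algebra (R ⊗[K] R) C] [Module.Flat (R ⊗[K] R) C] (I : Ideal R) :
    ((Ideal.Quotient.mk (I.map ((algebraMap (R ⊗[K] R) C).comp
        (Algebra.TensorProduct.includeRight (R := K) (A := R) (B := R)).toRingHom))).comp
      ((algebraMap (R ⊗[K] R) C).comp
        (Algebra.TensorProduct.includeLeft (R := K) (S := K) (A := R) (B := R)).toRingHom)).Flat := by
  let J : Ideal (R ⊗[K] R) := I.map (Algebra.TensorProduct.includeRight (R := K) (A := R) (B := R))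
  have h1 : ((Ideal.Quotient.mk J).comp (algebraMap R (R ⊗[K] R))).Flat := by
    haveI : Module.Flat R (R ⊗[K] (R ⧸ I)) := inferInstance
    haveI : Module.Flat R ((R ⊗[K] R) ⧸ J) :=
      Module.Flat.of_linearEquiv (Algebra.TensorProduct.tensorQuotientEquiv (R := K) R R R I).symm.toLinearEquiv
    exact RingHom.flat_algebraMap_iff.2 (inferInstance : Module.Flat R ((R ⊗[K] R) ⧸ J))
  have h2 : (Ideal.quotientMap (J.map (algebraMap (R ⊗[K] R) C)) (algebraMap (R ⊗[K] R) C)
      Ideal.le_comap_map).Flat := by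
    haveI : Module.Flat ((R ⊗[K] R) ⧸ J) (((R ⊗[K] R) ⧸ J) ⊗[R ⊗[K] R] C) := inferInstance
    haveI : Module.Flat ((R ⊗[K] R) ⧸ J) (C ⧸ J.map (algebraMap (R ⊗[K] R) C)) :=
      Module.Flat.of_linearEquiv (Algebra.TensorProduct.quotIdealMapEquivQuotTensor C J).toLinearEquiv
    exact RingHom.flat_algebraMap_iff.2 (inferInstance : Module.Flat ((R ⊗[K] R) ⧸ J) (C ⧸ J.map (algebraMap (R ⊗[K] R) C)))
  have hJ : J.map (algebraMap (R ⊗[K] R) C) = I.map ((algebraMap (R ⊗[K] R) C).comp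
      (Algebra.TensorProduct.includeRight (R := K) (A := R) (B := R)).toRingHom) := by
    rw [← Ideal.map_map]; rfl
  rw [← hJ]
  exact h1.comp h2

end Flat

end DiagTorLib
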